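import Cfsg.Agent.H369.PglSit
import Cfsg.Agent.H498.SporOut
import Cfsg.Agent.NotCT.Orders
import Cfsg.Agent.H94.Sp.AC
import Cfsg.Agent.H379.J2Spec
import Cfsg.Agent.H413.JOneSpec
import Cfsg.Agent.CpAutTits.Row

/-!
# Recognition of `PGL_2(q)` by spectrum: the sporadic row (helper783, for helper369, S3447)

`row_spor`: the section `S` of the situation `Sit S p m X` is neither sporadic nor the Tits group.
By orders, except `J1`, `HN` with `q = 11 ^ 3`, `J2` with `q = 5 ^ 3`, `7 ^ 2`, the Tits group with `q = 5 ^ 2`.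
-/

set_option autoImplicit false

namespace Cfsg.Agent.H783.PglSpor

open Subgroup Cfsg Cfsg.Agent.H369.Pgl Cfsg.Agent.NotCT

/-- the numerical conditions on `q = p ^ m` -/
def bad (N : ℕ) (fs : List (ℕ × ℕ)) (p q : ℕ) : Bool :=
  !(Nat.beq q 9) && Nat.ble q (4 * N + 1) &&
  fs.all (fun x => Nat.beq x.1 2 || Nat.beq x.1 p || Nat.beq ((q * q - 1) % x.1) 0) &&
  (Nat.beq (N % nn q) 0 || (Nat.beq ((4 * N) % mm q) 0 && !(Nat.beq (N % (p * p)) 0) &&
    fs.all (fun x => Nat.beq x.1 2 || Nat.beq x.1 p || !(Nat.beq (mm q % x.1) 0) ||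
      Nat.beq ((q * q - 1) % (x.1 ^ x.2)) 0)))

def primesL : List ℕ := [2, 3, 5, 7, 11, 13, 17, 19, 23, 29, 31, 37, 41, 43, 47, 53, 59, 61, 67, 71]

theorem primesL_prime : ∀ p ∈ primesL, p.Prime := by decide

/-- the check -/
def chk (N : ℕ) (fs ex : List (ℕ × ℕ)) : Bool :=
  Nat.beq N ((fs.map fun x => x.1 ^ x.2).prod) && fs.all (fun x => primesL.elem x.1 && Nat.ble 1 x.2) &&
  Nat.ble (4 * N + 2) (3 ^ 200) &&
  fs.all fun x => Nat.beq x.1 2 || (List.range 200).all fun m =>
    Nat.ble m 1 || !bad N fs x.1 (x.1 ^ m) || ex.elem (x.1, m)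

theorem index_card {S : Type*} [Group S] [Finite S] (hi : (MulAut.conj : S →* MulAut S).range.index ∣ 2) :
    Nat.card (MulAut S) ∣ 2 * Nat.card S := by
  rw [← Subgroup.index_mul_card (MulAut.conj : S →* MulAut S).range]
  exact Nat.mul_dvd_mul hi (Subgroup.card_range_dvd _)

theorem main_num {S : Type*} [Group S] [Finite S] [IsSimpleGroup S] (hna : ¬ IsMulCommutative S) {p m : ℕ}
    {X : Subgroup (MulAut S)} (H : Sit S p m X) (hi : (MulAut.conj : S →* MulAut S).range.index ∣ 2) {N : ℕ}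
    (hN : Nat.card S = N) (fs ex : List (ℕ × ℕ)) (hchk : chk N fs ex = true) : (p, m) ∈ ex := by
  have hc := index_card hi
  rw [hN] at hc
  have hN0 : 0 < N := by rw [← hN]; exact Nat.card_pos
  unfold chk at hchk
  simp only [Bool.and_eq_true, List.all_eq_true, Bool.or_eq_true, Nat.beq_eq, Nat.ble_eq, List.elem_eq_mem,
    decide_eq_true_eq, Bool.not_eq_true', List.mem_range] at hchk
  obtain ⟨⟨⟨h1, h2⟩, h3⟩, h4⟩ := hchk
  have h2' := h2
  have hfp : ∀ x ∈ fs, x.1.Prime := fun x hx => primesL_prime _ (h2 x hx).1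
  have hfd : ∀ x ∈ fs, x.1 ^ x.2 ∣ N := by
    intro x hx
    rw [h1]
    exact List.dvd_prod (List.mem_map.2 ⟨x, hx, rfl⟩)
  -- `p` is in the list
  have hpN : p ∣ N := by rw [← hN]; exact H.dvd
  obtain ⟨x, hx, hxp⟩ : ∃ x ∈ fs, x.1 = p := by
    rw [h1] at hpN
    obtain ⟨y, hy, hpy⟩ := (H.hp.prime.dvd_prod_iff).1 hpN
    obtain ⟨x, hx, rfl⟩ := List.mem_map.1 hy
    exact ⟨x, hx, ((Nat.prime_dvd_prime_iff_eq H.hp (hfp x hx)).1 (H.hp.dvd_of_dvd_pow hpy)).symm⟩
  have h5 := (h4 x hx).resolve_left (by rw [hxp]; exact H.hp2)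
  rw [hxp] at h5
  set q := p ^ m with hq
  have hodd := H.odd
  have hnum : N % nn q = 0 ∨ ((4 * N) % mm q = 0 ∧ ¬ N % (p * p) = 0 ∧
      ∀ x ∈ fs, ((x.1 = 2 ∨ x.1 = p) ∨ ¬ mm q % x.1 = 0) ∨ (q * q - 1) % (x.1 ^ x.2) = 0) := by
    rcases H.num with h | ⟨h, h'⟩
    · left
      apply Nat.mod_eq_zero_of_dvd
      have h6 : nn q ∣ 2 * N := h.trans hc
      have h7 : (nn q).Coprime 2 := by
        rw [Nat.coprime_comm, Nat.coprime_two_left, Nat.odd_iff]
        exact nn_odd hodd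
      exact h7.dvd_of_dvd_mul_left h6
    · right
      refine ⟨?_, ?_, ?_⟩
      · apply Nat.mod_eq_zero_of_dvd
        have h6 : mm q ∣ 2 * (2 * N) := h.trans (Nat.mul_dvd_mul_left 2 hc)
        have h7 : 2 * (2 * N) = 4 * N := by ring
        rwa [h7] at h6
      · intro h6
        obtain ⟨g, hg⟩ := h' p 2 H.hp (Or.inl rfl) (by rw [hN, pow_two]; exact Nat.dvd_of_mod_eq_zero h6)
        have h7 := H.iso hna (g := g) (by rw [hg]; exact dvd_pow_self p two_ne_zero)
        rw [hg, pow_two] at h7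
        have h8 := H.hp.one_lt
        nlinarith
      · intro x hx
        by_cases h2 : x.1 = 2
        · exact Or.inl (Or.inl (Or.inl h2))
        by_cases hp : x.1 = p
        · exact Or.inl (Or.inl (Or.inr hp))
        by_cases hd : mm q % x.1 = 0
        · right
          obtain ⟨g, hg⟩ := h' x.1 x.2 (hfp x hx) (Or.inr ⟨h2, Nat.dvd_of_mod_eq_zero hd⟩) (by rw [hN]; exact hfd x hx)
          apply Nat.mod_eq_zero_of_dvd
          have hqq : q * q - 1 = (q + 1) * (q - 1) := by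
            have h1q : 1 ≤ q := Nat.one_le_pow _ _ H.hp.pos
            obtain ⟨t, ht⟩ : ∃ t, q = t + 1 := ⟨q - 1, by omega⟩
            rw [ht]
            have : (t + 1) * (t + 1) = (t + 1 + 1) * t + 1 := by ring
            rw [this]
            simp
          rw [hqq]
          rcases H.specS hna g with h9 | h9 | h9
          · rw [hg] at h9
            have h10 : x.2 = 0 := by
              by_contra h11
              have h12 : x.1 ∣ p := (dvd_pow_self x.1 h11).trans h9
              exact hp ((Nat.prime_dvd_prime_iff_eq (hfp x hx) H.hp).1 h12)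
            rw [h10, pow_zero]
            exact one_dvd _
          · rw [hg] at h9
            exact h9.mul_left _
          · rw [hg] at h9
            exact h9.mul_right _
        · exact Or.inl (Or.inr hd)
  have hle : q ≤ 4 * N + 1 := by
    have h6 : q - 1 ≤ 2 * nn q := le_two_nn hodd
    have h7 : q - 1 ≤ mm q := le_mm hodd
    rcases hnum with h | ⟨h, -⟩
    · have := Nat.le_of_dvd hN0 (Nat.dvd_of_mod_eq_zero h)
      omega
    · have := Nat.le_of_dvd (by omega) (Nat.dvd_of_mod_eq_zero h)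
      omega
  have hm : m < 200 := by
    by_contra hcon
    push Not at hcon
    have h6 : 3 ^ 200 ≤ q := (Nat.pow_le_pow_right (by norm_num) hcon).trans (Nat.pow_le_pow_left H.three_le m)
    omega
  rcases h5 m hm with (h6 | h6) | h6
  · have := H.hm
    omega
  · exfalso
    have h7 : bad N fs p q = true := by
      unfold bad
      simp only [Bool.and_eq_true, List.all_eq_true, Bool.or_eq_true, Nat.beq_eq, Nat.ble_eq, Bool.not_eq_true']
      refine ⟨⟨⟨?_, hle⟩, ?_⟩, ?_⟩
      · rw [← Bool.not_eq_true, Nat.beq_eq]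
        exact H.h9
      · intro x hx
        by_cases h2 : x.1 = 2
        · exact Or.inl (Or.inl h2)
        by_cases hp : x.1 = p
        · exact Or.inl (Or.inr hp)
        right
        apply Nat.mod_eq_zero_of_dvd
        have hqq : q * q - 1 = (q + 1) * (q - 1) := by
          have h1q : 1 ≤ q := Nat.one_le_pow _ _ H.hp.pos
          obtain ⟨t, ht⟩ : ∃ t, q = t + 1 := ⟨q - 1, by omega⟩
          rw [ht]
          have : (t + 1) * (t + 1) = (t + 1 + 1) * t + 1 := by ring
          rw [this]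
          simp
        rw [hqq]
        have hx0 : x.2 ≠ 0 := by
          have := (h2' x hx).2
          omega
        · have h8 : x.1 ∣ Nat.card S := by rw [hN]; exact (dvd_pow_self x.1 hx0).trans (hfd x hx)
          rcases H.prime_dvd hna (hfp x hx) h8 with h9 | h9 | h9
          · exact absurd h9 hp
          · exact h9.mul_left _
          · exact h9.mul_right _
      · rcases hnum with h | ⟨h, h', h''⟩
        · exact Or.inl h
        · right
          refine ⟨⟨h, ?_⟩, ?_⟩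
          · rw [← Bool.not_eq_true, Nat.beq_eq]
            exact h'
          · intro x hx
            rw [← Bool.not_eq_true, Nat.beq_eq]
            exact h'' x hx
    rw [h7] at h6
    exact absurd h6 (by simp)
  · exact h6

section

variable {S : Type*} [Group S] [Finite S] [IsSimpleGroup S] {p m : ℕ} {X : Subgroup (MulAut S)}

theorem ex_m11 (H : Sit S p m X) (h : Spor.IsoM11 S) (hna : ¬ IsMulCommutative S)
    (hi : (MulAut.conj : S →* MulAut S).range.index ∣ 2) : (p, m) ∈ ([] : List (ℕ × ℕ)) :=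
  main_num hna H hi (Orders.m11 h) [(2, 4), (3, 2), (5, 1), (11, 1)]
    _ (by decide +kernel)

theorem ex_m12 (H : Sit S p m X) (h : Spor.IsoM12 S) (hna : ¬ IsMulCommutative S)
    (hi : (MulAut.conj : S →* MulAut S).range.index ∣ 2) : (p, m) ∈ ([] : List (ℕ × ℕ)) :=
  main_num hna H hi (Orders.m12 h) [(2, 6), (3, 3), (5, 1), (11, 1)]
    _ (by decide +kernel)

theorem ex_m22 (H : Sit S p m X) (h : Spor.IsoM22 S) (hna : ¬ IsMulCommutative S)
    (hi : (MulAut.conj : S →* MulAut S).range.index ∣ 2) : (p, m) ∈ ([] : List (ℕ × ℕ)) :=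
  main_num hna H hi (Orders.m22 h) [(2, 7), (3, 2), (5, 1), (7, 1), (11, 1)]
    _ (by decide +kernel)

theorem ex_m23 (H : Sit S p m X) (h : Spor.IsoM23 S) (hna : ¬ IsMulCommutative S)
    (hi : (MulAut.conj : S →* MulAut S).range.index ∣ 2) : (p, m) ∈ ([] : List (ℕ × ℕ)) :=
  main_num hna H hi (Orders.m23 h) [(2, 7), (3, 2), (5, 1), (7, 1), (11, 1), (23, 1)]
    _ (by decide +kernel)

theorem ex_m24 (H : Sit S p m X) (h : Spor.IsoM24 S) (hna : ¬ IsMulCommutative S)
    (hi : (MulAut.conj : S →* MulAut S).range.index ∣ 2) : (p, m) ∈ ([] : List (ℕ × ℕ)) :=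
  main_num hna H hi (Orders.m24 h) [(2, 10), (3, 3), (5, 1), (7, 1), (11, 1), (23, 1)]
    _ (by decide +kernel)

theorem ex_j1 (H : Sit S p m X) (h : Spor.IsoJ1 S) (hna : ¬ IsMulCommutative S)
    (hi : (MulAut.conj : S →* MulAut S).range.index ∣ 2) : (p, m) ∈ ([(11, 3)] : List (ℕ × ℕ)) :=
  main_num hna H hi (Orders.j1 h) [(2, 3), (3, 1), (5, 1), (7, 1), (11, 1), (19, 1)]
    _ (by decide +kernel)

theorem ex_j2 (H : Sit S p m X) (h : Spor.IsoJ2 S) (hna : ¬ IsMulCommutative S)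
    (hi : (MulAut.conj : S →* MulAut S).range.index ∣ 2) : (p, m) ∈ ([(5, 3), (7, 2)] : List (ℕ × ℕ)) :=
  main_num hna H hi (Orders.j2 h) [(2, 7), (3, 3), (5, 2), (7, 1)]
    _ (by decide +kernel)

theorem ex_j3 (H : Sit S p m X) (h : Spor.IsoJ3 S) (hna : ¬ IsMulCommutative S)
    (hi : (MulAut.conj : S →* MulAut S).range.index ∣ 2) : (p, m) ∈ ([] : List (ℕ × ℕ)) :=
  main_num hna H hi (Orders.j3 h) [(2, 7), (3, 5), (5, 1), (17, 1), (19, 1)]
    _ (by decide +kernel)

theorem ex_j4 (H : Sit S p m X) (h : Spor.IsoJ4 S) (hna : ¬ IsMulCommutative S)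
    (hi : (MulAut.conj : S →* MulAut S).range.index ∣ 2) : (p, m) ∈ ([] : List (ℕ × ℕ)) :=
  main_num hna H hi (Orders.j4 h) [(2, 21), (3, 3), (5, 1), (7, 1), (11, 3), (23, 1), (29, 1), (31, 1), (37, 1), (43, 1)]
    _ (by decide +kernel)

theorem ex_co1 (H : Sit S p m X) (h : Spor.IsoCo1 S) (hna : ¬ IsMulCommutative S)
    (hi : (MulAut.conj : S →* MulAut S).range.index ∣ 2) : (p, m) ∈ ([] : List (ℕ × ℕ)) :=
  main_num hna H hi (Orders.co1 h) [(2, 21), (3, 9), (5, 4), (7, 2), (11, 1), (13, 1), (23, 1)]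
    _ (by decide +kernel)

theorem ex_co2 (H : Sit S p m X) (h : Spor.IsoCo2 S) (hna : ¬ IsMulCommutative S)
    (hi : (MulAut.conj : S →* MulAut S).range.index ∣ 2) : (p, m) ∈ ([] : List (ℕ × ℕ)) :=
  main_num hna H hi (Orders.co2 h) [(2, 18), (3, 6), (5, 3), (7, 1), (11, 1), (23, 1)]
    _ (by decide +kernel)

theorem ex_co3 (H : Sit S p m X) (h : Spor.IsoCo3 S) (hna : ¬ IsMulCommutative S)
    (hi : (MulAut.conj : S →* MulAut S).range.index ∣ 2) : (p, m) ∈ ([] : List (ℕ × ℕ)) :=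
  main_num hna H hi (Orders.co3 h) [(2, 10), (3, 7), (5, 3), (7, 1), (11, 1), (23, 1)]
    _ (by decide +kernel)

theorem ex_mcl (H : Sit S p m X) (h : Spor.IsoMcL S) (hna : ¬ IsMulCommutative S)
    (hi : (MulAut.conj : S →* MulAut S).range.index ∣ 2) : (p, m) ∈ ([] : List (ℕ × ℕ)) :=
  main_num hna H hi (Orders.mcl h) [(2, 7), (3, 6), (5, 3), (7, 1), (11, 1)]
    _ (by decide +kernel)

theorem ex_hs (H : Sit S p m X) (h : Spor.IsoHS S) (hna : ¬ IsMulCommutative S)
    (hi : (MulAut.conj : S →* MulAut S).range.index ∣ 2) : (p, m) ∈ ([] : List (ℕ × ℕ)) :=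
  main_num hna H hi (Orders.hs h) [(2, 9), (3, 2), (5, 3), (7, 1), (11, 1)]
    _ (by decide +kernel)

theorem ex_suz (H : Sit S p m X) (h : Spor.IsoSuz S) (hna : ¬ IsMulCommutative S)
    (hi : (MulAut.conj : S →* MulAut S).range.index ∣ 2) : (p, m) ∈ ([] : List (ℕ × ℕ)) :=
  main_num hna H hi (Orders.suz h) [(2, 13), (3, 7), (5, 2), (7, 1), (11, 1), (13, 1)]
    _ (by decide +kernel)

theorem ex_he (H : Sit S p m X) (h : Spor.IsoHe S) (hna : ¬ IsMulCommutative S)
    (hi : (MulAut.conj : S →* MulAut S).range.index ∣ 2) : (p, m) ∈ ([] : List (ℕ × ℕ)) :=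
  main_num hna H hi (Orders.he h) [(2, 10), (3, 3), (5, 2), (7, 3), (17, 1)]
    _ (by decide +kernel)

theorem ex_ru (H : Sit S p m X) (h : Spor.IsoRu S) (hna : ¬ IsMulCommutative S)
    (hi : (MulAut.conj : S →* MulAut S).range.index ∣ 2) : (p, m) ∈ ([] : List (ℕ × ℕ)) :=
  main_num hna H hi (Orders.ru h) [(2, 14), (3, 3), (5, 3), (7, 1), (13, 1), (29, 1)]
    _ (by decide +kernel)

theorem ex_on (H : Sit S p m X) (h : Spor.IsoON S) (hna : ¬ IsMulCommutative S)
    (hi : (MulAut.conj : S →* MulAut S).range.index ∣ 2) : (p, m) ∈ ([] : List (ℕ × ℕ)) :=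
  main_num hna H hi (Orders.on h) [(2, 9), (3, 4), (5, 1), (7, 3), (11, 1), (19, 1), (31, 1)]
    _ (by decide +kernel)

theorem ex_ly (H : Sit S p m X) (h : Spor.IsoLy S) (hna : ¬ IsMulCommutative S)
    (hi : (MulAut.conj : S →* MulAut S).range.index ∣ 2) : (p, m) ∈ ([] : List (ℕ × ℕ)) :=
  main_num hna H hi (Orders.ly h) [(2, 8), (3, 7), (5, 6), (7, 1), (11, 1), (31, 1), (37, 1), (67, 1)]
    _ (by decide +kernel)

theorem ex_fi22 (H : Sit S p m X) (h : Spor.IsoFi22 S) (hna : ¬ IsMulCommutative S)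
    (hi : (MulAut.conj : S →* MulAut S).range.index ∣ 2) : (p, m) ∈ ([] : List (ℕ × ℕ)) :=
  main_num hna H hi (Orders.fi22 h) [(2, 17), (3, 9), (5, 2), (7, 1), (11, 1), (13, 1)]
    _ (by decide +kernel)

theorem ex_fi23 (H : Sit S p m X) (h : Spor.IsoFi23 S) (hna : ¬ IsMulCommutative S)
    (hi : (MulAut.conj : S →* MulAut S).range.index ∣ 2) : (p, m) ∈ ([] : List (ℕ × ℕ)) :=
  main_num hna H hi (Orders.fi23 h) [(2, 18), (3, 13), (5, 2), (7, 1), (11, 1), (13, 1), (17, 1), (23, 1)]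
    _ (by decide +kernel)

theorem ex_fi24 (H : Sit S p m X) (h : Spor.IsoFi24' S) (hna : ¬ IsMulCommutative S)
    (hi : (MulAut.conj : S →* MulAut S).range.index ∣ 2) : (p, m) ∈ ([] : List (ℕ × ℕ)) :=
  main_num hna H hi (Orders.fi24 h) [(2, 21), (3, 16), (5, 2), (7, 3), (11, 1), (13, 1), (17, 1), (23, 1), (29, 1)]
    _ (by decide +kernel)

theorem ex_hn (H : Sit S p m X) (h : Spor.IsoHN S) (hna : ¬ IsMulCommutative S)
    (hi : (MulAut.conj : S →* MulAut S).range.index ∣ 2) : (p, m) ∈ ([(11, 3)] : List (ℕ × ℕ)) :=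
  main_num hna H hi (Orders.hn h) [(2, 14), (3, 6), (5, 6), (7, 1), (11, 1), (19, 1)]
    _ (by decide +kernel)

theorem ex_th (H : Sit S p m X) (h : Spor.IsoTh S) (hna : ¬ IsMulCommutative S)
    (hi : (MulAut.conj : S →* MulAut S).range.index ∣ 2) : (p, m) ∈ ([] : List (ℕ × ℕ)) :=
  main_num hna H hi (Orders.th h) [(2, 15), (3, 10), (5, 3), (7, 2), (13, 1), (19, 1), (31, 1)]
    _ (by decide +kernel)

theorem ex_b (H : Sit S p m X) (h : Spor.IsoB S) (hna : ¬ IsMulCommutative S)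
    (hi : (MulAut.conj : S →* MulAut S).range.index ∣ 2) : (p, m) ∈ ([] : List (ℕ × ℕ)) :=
  main_num hna H hi (Orders.b h) [(2, 41), (3, 13), (5, 6), (7, 2), (11, 1), (13, 1), (17, 1), (19, 1), (23, 1), (31, 1), (47, 1)]
    _ (by decide +kernel)

theorem ex_m (H : Sit S p m X) (h : Spor.IsoM S) (hna : ¬ IsMulCommutative S)
    (hi : (MulAut.conj : S →* MulAut S).range.index ∣ 2) : (p, m) ∈ ([] : List (ℕ × ℕ)) :=
  main_num hna H hi (Orders.m h) [(2, 46), (3, 20), (5, 9), (7, 6), (11, 2), (13, 3), (17, 1), (19, 1), (23, 1), (29, 1), (31, 1), (41, 1), (47, 1), (59, 1), (71, 1)]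
    _ (by decide +kernel)

theorem ex_tits (H : Sit S p m X) (h : Lie.IsoTits S) (hna : ¬ IsMulCommutative S)
    (hi : (MulAut.conj : S →* MulAut S).range.index ∣ 2) : (p, m) ∈ ([(5, 2)] : List (ℕ × ℕ)) :=
  main_num hna H hi (Orders.tits h) [(2, 11), (3, 3), (5, 2), (13, 1)]
    _ (by decide +kernel)

omit [Finite S] in
/-- `p` isolated contradicts `p` adjacent to `2` -/
theorem false_of_nr (H : Sit S p m X) (hna : ¬ IsMulCommutative S) (h : Cfsg.Agent.H94.PG.Sp.Nr S p) : False := by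
  rcases h with h | ⟨h1, h2, h3, x, y, hx, hy, hxy⟩
  · exact H.hp2 h
  · refine H.not_adj hna (r := 2) le_rfl (g := x * y) ?_
    rw [hxy.orderOf_mul_eq_mul_orderOf_of_coprime (by rw [hx, hy]; exact (Nat.coprime_primes h1 h2).2 h3), hx, hy]

omit [Finite S] in
/-- an element of order 15 kills `q` with `5 ∣ nn q`, `3 ∣ mm q` -/
theorem false_of_fifteen (H : Sit S p m X) (hna : ¬ IsMulCommutative S) (h : ∃ g : S, orderOf g = 15)
    (h5 : 5 ∣ nn (p ^ m)) (h3 : 3 ∣ mm (p ^ m)) : False := by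
  obtain ⟨g, hg⟩ := h
  refine H.not_mul (s := 5) (r := 3) (by norm_num) h5 (by norm_num) (by norm_num) h3 (H.inn g) ?_
  rw [Sit.orderOf_conj hna g, hg]

omit [Finite S] [IsSimpleGroup S] in
theorem fifteen_j1 (h : Spor.IsoJ1 S) : ∃ g : S, orderOf g = 15 := by
  obtain ⟨e⟩ := h
  obtain ⟨g, hg⟩ : ∃ g : Spor.J1, orderOf g = 15 := ⟨_, Cfsg.Agent.H413.JOneSpec.ex15⟩
  exact ⟨e.symm g, by rw [MulEquiv.orderOf_eq, hg]⟩

omit [Finite S] [IsSimpleGroup S] in
theorem fifteen_j2 (h : Spor.IsoJ2 S) : ∃ g : S, orderOf g = 15 := by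
  obtain ⟨e⟩ := h
  obtain ⟨g, hg⟩ := Cfsg.Agent.H379.J2Spec.exists_order Cfsg.Agent.H379.J2Spec.o15
  exact ⟨e.symm g, by rw [MulEquiv.orderOf_eq, hg]⟩

def Idx (K : Type*) [Group K] : Prop := (MulAut.conj : K →* MulAut K).range.index ∣ 2

theorem Idx.congr {K L : Type*} [Group K] [Group L] (h : Idx L) (e : K ≃* L) : Idx K := by
  unfold Idx at h ⊢
  rwa [Cfsg.Agent.H498.SporOut.index_congr e]

theorem index_TT : Idx ↥Cfsg.Agent.TitsK.TT := by
  have hfin : Finite Cfsg.Agent.FourTwo.Base.LL := Cfsg.Agent.FourTwo.Classes.finite_LL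
  exact Cfsg.Agent.TitsK.tdata.index_inn

omit [Finite S] [IsSimpleGroup S] in
theorem index_tits (h : Lie.IsoTits S) : (MulAut.conj : S →* MulAut S).range.index ∣ 2 := by
  obtain ⟨e⟩ := Cfsg.Agent.CpAutTits.Row.exists_equiv h
  exact index_TT.congr e

omit [IsSimpleGroup S] in
theorem index_spor (h : IsSporadicGroup S) : (MulAut.conj : S →* MulAut S).range.index ∣ 2 := by
  have h1 := Cfsg.Agent.H498.SporOut.index_le_two h
  have h2 : (MulAut.conj : S →* MulAut S).range.index ≠ 0 := Subgroup.index_ne_zero_of_finite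
  rcases (show (MulAut.conj : S →* MulAut S).range.index = 1 ∨ (MulAut.conj : S →* MulAut S).range.index = 2 by
    omega) with h3 | h3 <;> rw [h3] <;> norm_num

/-- **The sporadic row.** -/
theorem row_spor (hna : ¬ IsMulCommutative S) (H : Sit S p m X) (h : IsSporadicGroup S ∨ Lie.IsoTits S) :
    False := by
  rcases h with h | h
  · have hi := index_spor h
    rcases h with h | h | h | h | h | h | h | h | h | h | h | h | h | h | h | h | h | h | h | h | h | h | h | h | h | h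
    · exact absurd (ex_m11 H h hna hi) (by simp)
    · exact absurd (ex_m12 H h hna hi) (by simp)
    · exact absurd (ex_m22 H h hna hi) (by simp)
    · exact absurd (ex_m23 H h hna hi) (by simp)
    · exact absurd (ex_m24 H h hna hi) (by simp)
    · have h1 := ex_j1 H h hna hi
      simp only [List.mem_singleton, Prod.mk.injEq] at h1
      obtain ⟨rfl, rfl⟩ := h1
      exact false_of_fifteen H hna (fifteen_j1 h) (by decide) (by decide)
    · have h1 := ex_j2 H h hna hi
      simp only [List.mem_cons, List.not_mem_nil, or_false, Prod.mk.injEq] at h1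
      rcases h1 with ⟨rfl, rfl⟩ | ⟨rfl, rfl⟩
      · exact false_of_nr H hna (Cfsg.Agent.H94.PG.Sp.nr_j2 h H.hp (by norm_num) (by decide))
      · exact false_of_fifteen H hna (fifteen_j2 h) (by decide) (by decide)
    · exact absurd (ex_j3 H h hna hi) (by simp)
    · exact absurd (ex_j4 H h hna hi) (by simp)
    · exact absurd (ex_co1 H h hna hi) (by simp)
    · exact absurd (ex_co2 H h hna hi) (by simp)
    · exact absurd (ex_co3 H h hna hi) (by simp)
    · exact absurd (ex_mcl H h hna hi) (by simp)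
    · exact absurd (ex_hs H h hna hi) (by simp)
    · exact absurd (ex_suz H h hna hi) (by simp)
    · exact absurd (ex_he H h hna hi) (by simp)
    · exact absurd (ex_ru H h hna hi) (by simp)
    · exact absurd (ex_on H h hna hi) (by simp)
    · exact absurd (ex_ly H h hna hi) (by simp)
    · exact absurd (ex_fi22 H h hna hi) (by simp)
    · exact absurd (ex_fi23 H h hna hi) (by simp)
    · exact absurd (ex_fi24 H h hna hi) (by simp)
    · have h1 := ex_hn H h hna hi
      simp only [List.mem_singleton, Prod.mk.injEq] at h1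
      obtain ⟨rfl, rfl⟩ := h1
      exact false_of_nr H hna (Cfsg.Agent.H94.PG.Sp.nr_hn h H.hp (by norm_num) (by decide))
    · exact absurd (ex_th H h hna hi) (by simp)
    · exact absurd (ex_b H h hna hi) (by simp)
    · exact absurd (ex_m H h hna hi) (by simp)
  · have h1 := ex_tits H h hna (index_tits h)
    simp only [List.mem_singleton, Prod.mk.injEq] at h1
    obtain ⟨rfl, rfl⟩ := h1
    exact false_of_nr H hna (Cfsg.Agent.H94.PG.Sp.nr_tits h H.hp (by norm_num) (by decide))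

end

end Cfsg.Agent.H783.PglSpor
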