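import Cfsg.Agent.H166.Cov.Defs
import Cfsg.Agent.H513.ThreeOrbBwdLA

/-!
# Products of transvections (helper783, for helper166, S2483, part G)

`transvections`: for `|F| ≥ 4`, `dim V ≥ 3`, every nonscalar `g` of determinant one is a product of exactly `dim V`
maps similar to a given transvection.
-/

set_option autoImplicit false

namespace Cfsg.Agent.H783.CovG

open Module Polynomial Cfsg.Agent.H166.Cov

universe u

variable {F : Type u} [Field F] {V : Type u} [AddCommGroup V] [Module F V]

/-- two transvections are similar -/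
theorem sim_tv [FiniteDimensional F V] {φ φ' : V →ₗ[F] F} {z z' : V} (hφ : φ ≠ 0) (hφ' : φ' ≠ 0) (hz : z ≠ 0)
    (hz' : z' ≠ 0) (h : φ z = 0) (h' : φ' z' = 0) : Sim (1 + φ.smulRight z) (1 + φ'.smulRight z') := by
  have key : ∀ ψ : V →ₗ[F] F, ψ ≠ 0 → ∃ x, ψ x = 1 := by
    intro ψ hψ
    obtain ⟨x, hx⟩ : ∃ x, ψ x ≠ 0 := by
      by_contra hcon
      push Not at hcon
      exact hψ (LinearMap.ext hcon)
    exact ⟨(ψ x)⁻¹ • x, by rw [map_smul, smul_eq_mul, inv_mul_cancel₀ hx]⟩
  have hrk : ∀ ψ : V →ₗ[F] F, ψ ≠ 0 → finrank F (LinearMap.ker ψ) + 1 = finrank F V := by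
    intro ψ hψ
    obtain ⟨x, hx⟩ := key ψ hψ
    have h1 := LinearMap.finrank_range_add_finrank_ker ψ
    have h2 : LinearMap.range ψ = ⊤ := by
      rw [LinearMap.range_eq_top]
      intro c
      exact ⟨c • x, by rw [map_smul, hx, smul_eq_mul, mul_one]⟩
    rw [h2, finrank_top, finrank_self] at h1
    omega
  obtain ⟨x, hx⟩ := key φ hφ
  obtain ⟨x', hx'⟩ := key φ' hφ'
  have e0 : LinearMap.ker φ ≃ₗ[F] LinearMap.ker φ' :=
    LinearEquiv.ofFinrankEq _ _ (by have := hrk φ hφ; have := hrk φ' hφ'; omega)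
  have hz0 : (⟨z, h⟩ : LinearMap.ker φ) ≠ 0 := by
    intro h0
    exact hz (congrArg Subtype.val h0)
  have hz0' : (⟨z', h'⟩ : LinearMap.ker φ') ≠ 0 := by
    intro h0
    exact hz' (congrArg Subtype.val h0)
  obtain ⟨e1, he1⟩ := Cfsg.Agent.H513.ThreeOrb.exists_equiv_apply (K := F) (v := e0 ⟨z, h⟩) (w := ⟨z', h'⟩)
    (by rw [Ne, LinearEquiv.map_eq_zero_iff]; exact hz0) hz0'
  let e2 : LinearMap.ker φ ≃ₗ[F] LinearMap.ker φ' := e0.trans e1
  have he2 : e2 ⟨z, h⟩ = ⟨z', h'⟩ := he1
  -- projections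
  let pr : V →ₗ[F] LinearMap.ker φ := (LinearMap.id - φ.smulRight x).codRestrict (LinearMap.ker φ) (by
    intro v
    rw [LinearMap.mem_ker, LinearMap.sub_apply, LinearMap.id_apply, LinearMap.smulRight_apply, map_sub, map_smul, hx,
      smul_eq_mul, mul_one, sub_self])
  let pr' : V →ₗ[F] LinearMap.ker φ' := (LinearMap.id - φ'.smulRight x').codRestrict (LinearMap.ker φ') (by
    intro v
    rw [LinearMap.mem_ker, LinearMap.sub_apply, LinearMap.id_apply, LinearMap.smulRight_apply, map_sub, map_smul, hx',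
      smul_eq_mul, mul_one, sub_self])
  have hpr : ∀ v, ((pr v : LinearMap.ker φ) : V) = v - φ v • x := fun v => rfl
  have hpr' : ∀ v, ((pr' v : LinearMap.ker φ') : V) = v - φ' v • x' := fun v => rfl
  let E : V →ₗ[F] V := (LinearMap.ker φ').subtype ∘ₗ e2.toLinearMap ∘ₗ pr + φ.smulRight x'
  let E' : V →ₗ[F] V := (LinearMap.ker φ).subtype ∘ₗ e2.symm.toLinearMap ∘ₗ pr' + φ'.smulRight x
  have hE : ∀ v, E v = (e2 (pr v) : V) + φ v • x' := fun v => rfl
  have hE' : ∀ v, E' v = (e2.symm (pr' v) : V) + φ' v • x := fun v => rfl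
  have hφE : ∀ v, φ' (E v) = φ v := by
    intro v
    rw [hE, map_add, map_smul, hx', (e2 (pr v)).2, zero_add, smul_eq_mul, mul_one]
  have hφE' : ∀ v, φ (E' v) = φ' v := by
    intro v
    rw [hE', map_add, map_smul, hx, (e2.symm (pr' v)).2, zero_add, smul_eq_mul, mul_one]
  have h1 : ∀ v, E' (E v) = v := by
    intro v
    have h2 : pr' (E v) = e2 (pr v) := by
      apply Subtype.ext
      rw [hpr', hφE, hE, add_sub_cancel_right]
    rw [hE', h2, e2.symm_apply_apply, hφE, hpr, sub_add_cancel]
  have h2 : ∀ v, E (E' v) = v := by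
    intro v
    have h2 : pr (E' v) = e2.symm (pr' v) := by
      apply Subtype.ext
      rw [hpr, hφE', hE', add_sub_cancel_right]
    rw [hE, h2, e2.apply_symm_apply, hφE', hpr', sub_add_cancel]
  refine ⟨LinearEquiv.ofLinearMap E E' (LinearMap.ext h2) (LinearMap.ext h1), fun v => ?_⟩
  change E ((1 + φ.smulRight z) v) = (1 + φ'.smulRight z') (E v)
  have hEz : E z = z' := by
    have h3 : pr z = ⟨z, h⟩ := by
      apply Subtype.ext
      rw [hpr, h, zero_smul, sub_zero]
    rw [hE, h3, he2, h, zero_smul, add_zero]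
  have h4 : (1 + φ.smulRight z) v = v + φ v • z := rfl
  have h5 : (1 + φ'.smulRight z') (E v) = E v + φ' (E v) • z' := rfl
  rw [h4, h5, E.map_add, E.map_smul, hEz, hφE]

/-- nontrivial transvections -/
def NT (A : End F V) : Prop := ∃ (f : V →ₗ[F] F) (v : V), f ≠ 0 ∧ v ≠ 0 ∧ f v = 0 ∧ A = 1 + f.smulRight v

theorem exists_scalar [Finite F] (hq : 4 ≤ Nat.card F) : ∃ a : F, a ≠ 0 ∧ a ≠ 1 := by
  classical
  let _ : Fintype F := Fintype.ofFinite F
  by_contra hcon
  push Not at hcon
  have h1 : (Finset.univ : Finset F) ⊆ {0, 1} := by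
    intro a _
    by_cases h : a = 0
    · simp [h]
    · simp [hcon a h]
  have h2 := Finset.card_le_card h1
  rw [Finset.card_univ, ← Nat.card_eq_fintype_card] at h2
  have h3 : ({0, 1} : Finset F).card ≤ 2 := Finset.card_le_two
  omega

theorem pad [Finite F] (hq : 4 ≤ Nat.card F) {g : End F V} {k m : ℕ} (hk : 1 ≤ k) (hkm : k ≤ m)
    (h : ∃ L : List (End F V), L.length = k ∧ (∀ A ∈ L, NT A) ∧ L.prod = g) :
    ∃ L : List (End F V), L.length = m ∧ (∀ A ∈ L, NT A) ∧ L.prod = g := by
  induction m, hkm using Nat.le_induction with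
  | base => exact h
  | succ m hm ih =>
    obtain ⟨L, hL, hN, hp⟩ := ih
    obtain ⟨a, ha0, ha1⟩ := exists_scalar hq
    match L, hL with
    | [], hL =>
      simp only [List.length_nil] at hL
      omega
    | A :: L', hL =>
      obtain ⟨f, v, hf, hv, hfv, hA⟩ := hN A (List.mem_cons_self ..)
      refine ⟨(1 + (a • f).smulRight v) :: (1 + ((1 - a) • f).smulRight v) :: L', ?_, ?_, ?_⟩
      · simp only [List.length_cons] at hL ⊢
        omega
      · intro B hB
        rcases List.mem_cons.1 hB with rfl | hB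
        · exact ⟨a • f, v, smul_ne_zero ha0 hf, hv, by rw [LinearMap.smul_apply, hfv, smul_zero], rfl⟩
        rcases List.mem_cons.1 hB with rfl | hB
        · exact ⟨(1 - a) • f, v, smul_ne_zero (sub_ne_zero.2 (Ne.symm ha1)) hf, hv,
            by rw [LinearMap.smul_apply, hfv, smul_zero], rfl⟩
        · exact hN B (List.mem_cons_of_mem _ hB)
      · rw [List.prod_cons, List.prod_cons, ← mul_assoc, ← hp, List.prod_cons, hA]
        congr 1
        ext x
        simp only [End.mul_apply, LinearMap.add_apply, End.one_apply, LinearMap.smulRight_apply,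
          LinearMap.smul_apply, map_add, map_smul, hfv, smul_eq_mul, mul_zero, add_zero, zero_smul]
        rw [sub_mul, one_mul, sub_smul]
        abel

open scoped Pointwise in
theorem exists_list [FiniteDimensional F V] {e : V ≃ₗ[F] V} {k : ℕ}
    (he : e ∈ LinearEquiv.transvections F V ^ k * LinearEquiv.dilatransvections F V) (hdet : LinearEquiv.det e = 1) :
    ∃ L : List (V ≃ₗ[F] V), L.length = k + 1 ∧ (∀ A ∈ L, A ∈ LinearEquiv.transvections F V) ∧ L.prod = e := by
  obtain ⟨a, ha, b, hb, rfl⟩ := Set.mem_mul.1 he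
  obtain ⟨f, hf⟩ := Set.mem_pow.1 ha
  have hda : LinearEquiv.det a = 1 := by
    rw [← hf, map_list_prod]
    apply List.prod_eq_one
    intro c hc
    obtain ⟨t, ht, rfl⟩ := List.mem_map.1 hc
    obtain ⟨i, rfl⟩ := (List.mem_ofFn' _ _).1 ht
    obtain ⟨φ, v, hφv, h⟩ := (f i).2
    change LinearEquiv.det (f i : V ≃ₗ[F] V) = 1
    rw [h, LinearEquiv.transvection.det_eq_one]
  have hdb : LinearEquiv.det b = 1 := by
    rwa [map_mul, hda, one_mul] at hdet
  obtain ⟨φ, v, hφv⟩ := hb
  have h0 : φ v = 0 := by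
    have h1 : LinearMap.det (b : V →ₗ[F] V) = 1 := by
      rw [← LinearEquiv.coe_det, hdb, Units.val_one]
    rw [hφv, LinearMap.transvection.det] at h1
    exact left_eq_add.1 h1.symm
  have hbt : b = LinearEquiv.transvection h0 := by
    apply LinearEquiv.toLinearMap_injective
    rw [hφv, LinearEquiv.transvection.coe_toLinearMap]
  refine ⟨(List.ofFn fun i => (f i : V ≃ₗ[F] V)) ++ [b], ?_, ?_, ?_⟩
  · rw [List.length_append, List.length_ofFn, List.length_singleton]
  · intro A hA
    rcases List.mem_append.1 hA with hA | hA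
    · obtain ⟨i, rfl⟩ := (List.mem_ofFn' _ _).1 hA
      exact (f i).2
    · rw [List.mem_singleton.1 hA]
      exact ⟨φ, v, h0, hbt⟩
  · rw [List.prod_append, List.prod_singleton, hf]

/-- drop the trivial factors and pad -/
theorem of_list [Finite F] (hq : 4 ≤ Nat.card F) {e : V ≃ₗ[F] V} (he : e ≠ 1) {m : ℕ} (L : List (V ≃ₗ[F] V))
    (hL : L.length ≤ m) (hT : ∀ A ∈ L, A ∈ LinearEquiv.transvections F V) (hp : L.prod = e) :
    ∃ L : List (End F V), L.length = m ∧ (∀ A ∈ L, NT A) ∧ L.prod = (e : V →ₗ[F] V) := by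
  classical
  have hp' : (L.filter fun A => A ≠ 1).prod = e := by
    rw [← hp]
    clear hp hT hL
    induction L with
    | nil => rfl
    | cons A L ih =>
      by_cases hA : A = 1
      · rw [List.filter_cons_of_neg (by simpa using hA), ih, List.prod_cons, hA, one_mul]
      · rw [List.filter_cons_of_pos (by simpa using hA), List.prod_cons, List.prod_cons, ih]
  have hlen : (L.filter fun A => A ≠ 1).length ≤ m := (List.length_filter_le _ _).trans hL
  have h1 : 1 ≤ (L.filter fun A => A ≠ 1).length := by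
    rw [Nat.one_le_iff_ne_zero]
    intro h0
    rw [List.length_eq_zero_iff] at h0
    rw [h0, List.prod_nil] at hp'
    exact he hp'.symm
  apply pad hq h1 hlen
  refine ⟨(L.filter fun A => A ≠ 1).map (LinearEquiv.automorphismGroup.toLinearMapMonoidHom (R := F) (M := V)), ?_,
    ?_, ?_⟩
  · rw [List.length_map]
  · intro A hA
    obtain ⟨B, hB, rfl⟩ := List.mem_map.1 hA
    obtain ⟨hB1, hB2⟩ := List.mem_filter.1 hB
    obtain ⟨f, v, hfv, hBt⟩ := hT B hB1
    have hB3 : B ≠ 1 := by simpa using hB2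
    have hval : ((LinearEquiv.automorphismGroup.toLinearMapMonoidHom (R := F) (M := V)) B : End F V) =
        1 + f.smulRight v := by
      rw [hBt]
      ext x
      change LinearEquiv.transvection hfv x = _
      rw [LinearEquiv.transvection.apply]
      rfl
    refine ⟨f, v, ?_, ?_, hfv, hval⟩
    · rintro rfl
      apply hB3
      apply LinearEquiv.toLinearMap_injective
      refine Eq.trans hval ?_
      ext x
      simp
    · rintro rfl
      apply hB3
      apply LinearEquiv.toLinearMap_injective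
      refine Eq.trans hval ?_
      ext x
      simp
  · rw [← map_list_prod, hp']
    rfl

theorem finrank_quot_le [FiniteDimensional F V] {A B : Submodule F V} (h : A ≤ B) :
    finrank F (V ⧸ B) ≤ finrank F (V ⧸ A) := by
  have h1 := Submodule.finrank_quotient_add_finrank A
  have h2 := Submodule.finrank_quotient_add_finrank B
  have h3 := Submodule.finrank_mono h
  omega

/-- a nonscalar automorphism of determinant one is a product of at most `dim V` transvections -/
theorem exists_list_of_ns [FiniteDimensional F V] (hn : 1 ≤ finrank F V) {e : V ≃ₗ[F] V}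
    (hns : ∀ c : F, ∃ x, e x ≠ c • x) (hdet : LinearEquiv.det e = 1) :
    ∃ L : List (V ≃ₗ[F] V), L.length ≤ finrank F V ∧ (∀ A ∈ L, A ∈ LinearEquiv.transvections F V) ∧ L.prod = e := by
  have hle : ∀ A : Submodule F V, finrank F (V ⧸ A) ≤ finrank F V := by
    intro A
    have := Submodule.finrank_quotient_add_finrank A
    omega
  by_cases hex : LinearEquiv.IsExceptional e
  swap
  · obtain ⟨L, h1, h2, h3⟩ :=
      exists_list (LinearEquiv.mem_transvections_pow_mul_dilatransvections_of_not_isExceptional hex) hdet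
    have := hle e.fixedSubmodule
    exact ⟨L, by omega, h2, h3⟩
  obtain ⟨hr, h1, a, ha⟩ := hex
  rw [LinearEquiv.fixedReduce_eq_smul_iff] at ha
  have ha1 : a ≠ 1 := by
    rintro rfl
    apply h1
    change e.fixedReduce = LinearEquiv.refl F _
    rw [LinearEquiv.fixedReduce_eq_one]
    intro v
    have := ha v
    rwa [one_smul] at this
  have hmem : ∀ {v : V}, v ∈ e.fixedSubmodule ↔ e v = v := fun {v} => Iff.rfl
  have hbot : e.fixedSubmodule ≠ ⊥ := by
    intro h0
    obtain ⟨x, hx⟩ := hns a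
    apply hx
    have := ha x
    rw [h0, Submodule.mem_bot, sub_eq_zero] at this
    exact this
  have hfix := Submodule.finrank_quotient_add_finrank e.fixedSubmodule
  have hfix1 : 1 ≤ finrank F e.fixedSubmodule := by
    rw [Nat.one_le_iff_ne_zero, Ne, Submodule.finrank_eq_zero]
    exact hbot
  -- `p`, `u`
  obtain ⟨p, hp⟩ : ∃ p : V, p ∉ e.fixedSubmodule := by
    by_contra hcon
    push Not at hcon
    have h0 : e.fixedSubmodule = ⊤ := by
      rw [eq_top_iff]
      exact fun x _ => hcon x
    rw [h0] at hr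
    rw [h0, finrank_top] at hfix
    omega
  obtain ⟨u, hu⟩ : ∃ u, u = e p - p := ⟨_, rfl⟩
  have hu0 : u ≠ 0 := by
    rw [hu, Ne, sub_eq_zero]
    exact hp
  have heu : e u = a • u := by
    have h2 : e (e p - a • p) = e p - a • p := ha p
    rw [map_sub, map_smul] at h2
    rw [hu, map_sub, smul_sub]
    have h3 : e (e p) = e p - a • p + a • e p := by rw [← h2]; abel
    rw [h3]
    abel
  have ha0 : a ≠ 0 := by
    rintro rfl
    rw [zero_smul, LinearEquiv.map_eq_zero_iff] at heu
    exact hu0 heu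
  obtain ⟨q, hq⟩ : ∃ q : V, q ∉ e.fixedSubmodule ⊔ Submodule.span F {u} := by
    by_contra hcon
    push Not at hcon
    have h0 : e.fixedSubmodule ⊔ Submodule.span F {u} = ⊤ := by
      rw [eq_top_iff]
      exact fun x _ => hcon x
    have h2 := Submodule.finrank_add_le_finrank_add_finrank e.fixedSubmodule (Submodule.span F {u})
    rw [h0, finrank_top, finrank_span_singleton hu0] at h2
    omega
  obtain ⟨f, hfq, hf⟩ := Submodule.exists_le_ker_of_notMem hq
  have hfix0 : ∀ w, e w = w → f w = 0 := fun w hw => hf (Submodule.mem_sup_left (hmem.2 hw))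
  have hfu : f u = 0 := hf (Submodule.mem_sup_right (Submodule.mem_span_singleton_self u))
  obtain ⟨t, ht⟩ : ∃ t : V ≃ₗ[F] V, t = LinearEquiv.transvection hfu := ⟨_, rfl⟩
  have htt : t ∈ LinearEquiv.transvections F V := by
    rw [ht]
    exact LinearEquiv.mem_transvections hfu
  have hfe : ∀ x, f (e x) = a * f x := by
    intro x
    have h2 := hfix0 _ (ha x)
    rw [map_sub, map_smul, sub_eq_zero, smul_eq_mul] at h2
    exact h2
  have hte : ∀ x, (t * e) x = e x + (a * f x) • u := by
    intro x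
    change t (e x) = _
    rw [ht, LinearEquiv.transvection.apply, hfe]
  have hmem' : ∀ {v : V}, v ∈ (t * e).fixedSubmodule ↔ (t * e) v = v := fun {v} => Iff.rfl
  have hle2 : e.fixedSubmodule ≤ (t * e).fixedSubmodule := by
    intro w hw
    rw [hmem', hte, hmem.1 hw, hfix0 w (hmem.1 hw), mul_zero, zero_smul, add_zero]
  have hteu : (t * e) u = a • u := by
    rw [hte, hfu, mul_zero, zero_smul, add_zero, heu]
  have hau : ∀ c : F, c • u ∈ (t * e).fixedSubmodule → c = 0 := by
    intro c hc
    rw [hmem', map_smul, hteu, smul_smul, ← sub_eq_zero, ← sub_smul, smul_eq_zero] at hc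
    rcases hc with hc | hc
    · have h2 : c * (a - 1) = 0 := by rw [← hc]; ring
      rcases mul_eq_zero.1 h2 with h3 | h3
      · exact h3
      · exact absurd (sub_eq_zero.1 h3) ha1
    · exact absurd hc hu0
  have hnex : ¬ LinearEquiv.IsExceptional (t * e) := by
    rintro ⟨-, -, b, hb⟩
    rw [LinearEquiv.fixedReduce_eq_smul_iff] at hb
    have hba : b = a := by
      have h2 := hb u
      rw [hteu, ← sub_smul] at h2
      exact (sub_eq_zero.1 (hau _ h2)).symm
    have h2 := hb q
    rw [hba, hte, add_sub_right_comm] at h2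
    have h3 : (a * f q) • u ∈ (t * e).fixedSubmodule := by
      have h4 := Submodule.sub_mem _ h2 (hle2 (ha q))
      rwa [add_sub_cancel_left] at h4
    rcases mul_eq_zero.1 (hau _ h3) with h4 | h4
    · exact ha0 h4
    · exact hfq h4
  have hdt : LinearEquiv.det (t * e) = 1 := by
    rw [map_mul, hdet, mul_one, ht, LinearEquiv.transvection.det_eq_one]
  obtain ⟨L, h2, h3, h4⟩ :=
    exists_list (LinearEquiv.mem_transvections_pow_mul_dilatransvections_of_not_isExceptional hnex) hdt
  have h5 := finrank_quot_le hle2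
  refine ⟨t⁻¹ :: L, ?_, ?_, ?_⟩
  · rw [List.length_cons]
    omega
  · intro A hA
    rcases List.mem_cons.1 hA with rfl | hA
    · exact LinearEquiv.inv_mem_transvections_iff.2 htt
    · exact h3 A hA
  · rw [List.prod_cons, h4, inv_mul_cancel_left]

/-- **Products of transvections.** -/
theorem transvections [Finite F] (hq : 4 ≤ Nat.card F) [FiniteDimensional F V] (hn : 3 ≤ finrank F V)
    {φ : V →ₗ[F] F} {z : V} (hφ : φ ≠ 0) (hz : z ≠ 0) (hφz : φ z = 0) {g : End F V} (hg : NS g)
    (hdet : LinearMap.det g = 1) : HP (1 + φ.smulRight z) (finrank F V) g := by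
  have hu : IsUnit (LinearMap.det g) := by rw [hdet]; exact isUnit_one
  let e : V ≃ₗ[F] V := LinearEquiv.ofIsUnitDet (v := finBasis F V) (v' := finBasis F V) (f := g)
    (by rw [LinearMap.det_toMatrix]; exact hu)
  have he : (e : V →ₗ[F] V) = g := LinearMap.ext fun x => rfl
  have hex : ∀ x, e x = g x := fun x => rfl
  have hde : LinearEquiv.det e = 1 := by
    apply Units.ext
    rw [LinearEquiv.coe_det, he, hdet, Units.val_one]
  have hns : ∀ c : F, ∃ x, e x ≠ c • x := by
    intro c
    by_contra hcon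
    push Not at hcon
    exact hg c (LinearMap.ext fun x => hcon x)
  have he1 : e ≠ 1 := by
    intro h
    obtain ⟨x, hx⟩ := hns 1
    rw [h, one_smul] at hx
    exact hx rfl
  obtain ⟨L, h1, h2, h3⟩ := exists_list_of_ns (by omega) hns hde
  obtain ⟨L', h4, h5, h6⟩ := of_list hq he1 L h1 h2 h3
  refine ⟨L', h4, fun A hA => ?_, by rw [h6, he]⟩
  obtain ⟨f, v, hf, hv, hfv, rfl⟩ := h5 A hA
  exact sim_tv hφ hf hz hv hφz hfv

end Cfsg.Agent.H783.CovG
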