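import Cfsg.Agent.H802.FusEss

/-!
# Stabilizers of chains in automizers of fully normalized subgroups (helper783)

* `chainStab R` : the automorphisms of `P` trivial on `R` and on `P / R`;
* `isPGroup_chainStab`;
* `le_autInducedBy_of_normalized` : a `p`-subgroup of `Aut_F(P)` normalized by `Aut_S(P)` lies in `Aut_S(P)`;
* `mem_of_chain` : the key lemma;
* `exists_not_extends` : an essential subgroup has an automorphism of the system which does not extend.
-/

set_option autoImplicit false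

namespace Cfsg.Agent.H783

open Cfsg Cfsg.FusionSystem Cfsg.Agent.H802

/-- The automorphisms of `P` which are trivial on `R` and on `P / R`. -/
def chainStab {P : Type*} [Group P] (R : Subgroup P) : Subgroup (MulAut P) where
  carrier := {β | (∀ x ∈ R, β x = x) ∧ ∀ x, x⁻¹ * β x ∈ R}
  one_mem' := ⟨fun x _ => rfl, fun x => by
    show x⁻¹ * x ∈ R
    rw [inv_mul_cancel]
    exact R.one_mem⟩
  mul_mem' := by
    rintro β γ ⟨h1, h2⟩ ⟨h3, h4⟩
    refine ⟨fun x hx => ?_, fun x => ?_⟩
    · rw [MulAut.mul_apply, h3 x hx, h1 x hx]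
    · rw [MulAut.mul_apply]
      have e : β (γ x) = β x * (x⁻¹ * γ x) := by
        rw [← h1 _ (h4 x), ← map_mul, mul_inv_cancel_left]
      rw [e, ← mul_assoc]
      exact R.mul_mem (h2 x) (h4 x)
  inv_mem' := by
    rintro β ⟨h1, h2⟩
    refine ⟨fun x hx => ?_, fun x => ?_⟩
    · have := h1 x hx
      rw [MulAut.inv_apply]
      exact (MulEquiv.symm_apply_eq β).2 this.symm
    · have h3 := h2 (β⁻¹ x)
      rw [MulAut.apply_inv_self] at h3
      have h4 := R.inv_mem h3
      rw [mul_inv_rev, inv_inv] at h4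
      exact h4

theorem mem_chainStab {P : Type*} [Group P] {R : Subgroup P} {β : MulAut P} :
    β ∈ chainStab R ↔ (∀ x ∈ R, β x = x) ∧ ∀ x, x⁻¹ * β x ∈ R := Iff.rfl

theorem chainStab_pow {P : Type*} [Group P] {R : Subgroup P} {β : MulAut P}
    (h : β ∈ chainStab R) (n : ℕ) (x : P) : (β ^ n) x = x * (x⁻¹ * β x) ^ n := by
  induction n with
  | zero => simp
  | succ n ih =>
    rw [pow_succ', MulAut.mul_apply, ih, map_mul, map_pow, h.1 _ (h.2 x), pow_succ']
    rw [← mul_assoc, mul_inv_cancel_left]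

theorem isPGroup_chainStab {P : Type*} [Group P] {p : ℕ} [Fact p.Prime] [Finite P] (hP : IsPGroup p P)
    (R : Subgroup P) : IsPGroup p (chainStab R) := by
  rintro ⟨β, hβ⟩
  obtain ⟨n, hn⟩ := IsPGroup.iff_card.1 hP
  refine ⟨n, Subtype.ext (MulEquiv.ext fun x => ?_)⟩
  show (β ^ p ^ n) x = x
  rw [chainStab_pow hβ, ← hn, pow_card_eq_one', mul_one]

theorem conj_mem_chainStab {P : Type*} [Group P] {R R' : Subgroup P} {α β : MulAut P}
    (hR : ∀ x, x ∈ R ↔ α x ∈ R') (h : β ∈ chainStab R) : α * β * α⁻¹ ∈ chainStab R' := by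
  refine ⟨fun x hx => ?_, fun x => ?_⟩
  · have h1 : α⁻¹ x ∈ R := by
      rw [hR, MulAut.apply_inv_self]
      exact hx
    show α (β (α⁻¹ x)) = x
    rw [h.1 _ h1, MulAut.apply_inv_self]
  · have h1 := h.2 (α⁻¹ x)
    rw [hR, map_mul, map_inv, MulAut.apply_inv_self] at h1
    exact h1

variable {Ω : Type*} [Group Ω] {S : Subgroup Ω}

/-- A `p`-subgroup of `Aut_F(P)` normalized by `Aut_S(P)` lies in `Aut_S(P)`, for `P` fully normalized. -/
theorem le_autInducedBy_of_normalized {p : ℕ} [Fact p.Prime] [Finite S] (hS : IsPGroup p S)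
    {F : FusionSystem S} (hF : F.IsSaturated p) {P : Subgroup Ω} (hPn : F.IsFullyNormalized P)
    {K : Subgroup (MulAut P)} (hKA : K ≤ F.autGroup P) (hKp : IsPGroup p K)
    (hK : ∀ β ∈ autInducedBy S P, ∀ κ ∈ K, β * κ * β⁻¹ ∈ K) : K ≤ autInducedBy S P := by
  have hPS := hPn.1
  have hfinP : Finite P := finite_of_le hPS
  obtain ⟨-, R, hR⟩ := isFullyAutomized_of_isFullyNormalized hS hF hPn
  have hle := autInducedBy_le_autGroup F hPS
  have hKn : (autInducedBy S P).subgroupOf (F.autGroup P) ≤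
      Subgroup.normalizer ((K.subgroupOf (F.autGroup P) : Subgroup _) : Set (F.autGroup P)) := by
    intro β hβ
    rw [Subgroup.mem_normalizer_iff]
    intro κ
    constructor
    · intro hκ
      exact hK β hβ κ hκ
    · intro hκ
      have h1 := hK (β : MulAut P)⁻¹ ((autInducedBy S P).inv_mem hβ) _ hκ
      have h2 : (β : MulAut P)⁻¹ * ((β : MulAut P) * κ * (β : MulAut P)⁻¹) *
          (β : MulAut P)⁻¹⁻¹ = κ := by
        group
      have h3 : (β : MulAut P)⁻¹ * ((β : MulAut P) * κ * (β : MulAut P)⁻¹) *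
          (β : MulAut P)⁻¹⁻¹ ∈ K := h1
      rw [h2] at h3
      exact h3
  have hsup : IsPGroup p ↥((R : Subgroup (F.autGroup P)) ⊔ K.subgroupOf (F.autGroup P)) := by
    refine IsPGroup.to_sup_of_normal_right' R.isPGroup' ?_ ?_
    · exact hKp.comap_of_injective _ (Subgroup.subtype_injective _)
    · rw [hR]
      exact hKn
  have h1 : (R : Subgroup (F.autGroup P)) ⊔ K.subgroupOf (F.autGroup P) = R :=
    R.is_maximal' hsup le_sup_left
  intro κ hκ
  have h2 : (⟨κ, hKA hκ⟩ : F.autGroup P) ∈ (R : Subgroup (F.autGroup P)) := by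
    rw [← h1]
    exact (le_sup_right : K.subgroupOf (F.autGroup P) ≤ _) hκ
  rw [hR] at h2
  exact h2

/-- The stabilizer in `Aut_F(P)` of a chain through a subgroup `R` normalized by `N_S(P)` lies in `Aut_S(P)`. -/
theorem chainStab_inf_le {p : ℕ} [Fact p.Prime] [Finite S] (hS : IsPGroup p S)
    {F : FusionSystem S} (hF : F.IsSaturated p) {P : Subgroup Ω} (hPn : F.IsFullyNormalized P)
    {R : Subgroup P} (hR : ∀ β ∈ autInducedBy S P, ∀ x ∈ R, β x ∈ R) :
    chainStab R ⊓ F.autGroup P ≤ autInducedBy S P := by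
  have hPS := hPn.1
  have hfinP : Finite P := finite_of_le hPS
  refine le_autInducedBy_of_normalized hS hF hPn inf_le_right
    ((isPGroup_chainStab (hS.to_le hPS) R).to_le inf_le_left) ?_
  intro β hβ κ hκ
  have hβA := autInducedBy_le_autGroup F hPS hβ
  refine ⟨conj_mem_chainStab (fun x => ⟨hR β hβ x, fun hx => ?_⟩) hκ.1,
    (F.autGroup P).mul_mem ((F.autGroup P).mul_mem hβA hκ.2) ((F.autGroup P).inv_mem hβA)⟩
  have h1 := hR β⁻¹ ((autInducedBy S P).inv_mem hβ) _ hx
  rwa [MulAut.inv_apply_self] at h1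

/-- **Key lemma.** Let `P` be fully normalized, `α ∈ Aut_F(P)` not extendable, `R` and `R' = α(R)` subgroups of
`P` normalized by `N_S(P)`. If `g ∈ N_S(P)` induces an automorphism which is trivial on `R` and on `P / R`, then
`g ∈ P`. -/
theorem mem_of_chain {p : ℕ} [Fact p.Prime] [Finite S] (hS : IsPGroup p S)
    {F : FusionSystem S} (hF : F.IsSaturated p) {P : Subgroup Ω} (hPn : F.IsFullyNormalized P)
    {α : MulAut P} (hα : α ∈ F.autGroup P) (hext : ¬ Extends F P α) {R R' : Subgroup P}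
    (hRR' : ∀ x, x ∈ R ↔ α x ∈ R')
    (hR' : ∀ β ∈ autInducedBy S P, ∀ x ∈ R', β x ∈ R') {g : Ω} (hg : g ∈ S)
    {κ : MulAut P} (hκ : ∀ x : P, ((κ x : P) : Ω) = g * x * g⁻¹) (hκR : κ ∈ chainStab R) :
    g ∈ P := by
  by_contra hgP
  apply hext
  have hPS := hPn.1
  have hκS : κ ∈ autInducedBy S P := conj_mem_autInducedBy hg hκ
  have hκA := autInducedBy_le_autGroup F hPS hκS
  refine extends_of_conj_mem (isReceptive_of_isFullyNormalized hS hF hPn) hα hg hgP hκ ?_
  exact chainStab_inf_le hS hF hPn hR'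
    ⟨conj_mem_chainStab hRR' hκR,
      (F.autGroup P).mul_mem ((F.autGroup P).mul_mem hα hκA) ((F.autGroup P).inv_mem hα)⟩

/-- An essential subgroup has an automorphism of the system which does not extend to a larger subgroup. -/
theorem exists_not_extends {p : ℕ} [Fact p.Prime] [Finite S] (hS : IsPGroup p S)
    {F : FusionSystem S} (hF : F.IsSaturated p) {P : Subgroup Ω} (hP : F.IsEssential p P) :
    ∃ α ∈ F.autGroup P, ¬ Extends F P α := by
  obtain ⟨D, hD1, hD2, hD3⟩ := exists_proper_of_isEssential hS hF hP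
  by_contra hno
  push Not at hno
  exact hD2 (le_antisymm hD1 fun α hα => hD3 α hα (hno α hα))

end Cfsg.Agent.H783
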