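import Cfsg.Agent.H91.Symp

/-!
# Swapping two totally isotropic planes (helper783, for helper91, S2195)
-/

set_option autoImplicit false

namespace Cfsg.Agent.H783.SympSwap

open Module Cfsg.Agent.H91

variable {F V : Type*} [Field F] [AddCommGroup V] [Module F V] [FiniteDimensional F V]

theorem map_eq_of {L L' : Submodule F V} (h2 : finrank F L = 2) (h2' : finrank F L' = 2) (g : V ≃ₗ[F] V) {x y : V}
    (li : LinearIndependent F ![x, y]) (hx : x ∈ L) (hy : y ∈ L) (gx : g x ∈ L') (gy : g y ∈ L') :
    L.map (g : V →ₗ[F] V) = L' := by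
  have hs : Submodule.span F (Set.range ![x, y]) = L := by
    apply Submodule.eq_of_le_of_finrank_eq
    · rw [Submodule.span_le]
      rintro _ ⟨i, rfl⟩
      fin_cases i
      · exact hx
      · exact hy
    · rw [finrank_span_eq_card li, Fintype.card_fin, h2]
  apply Submodule.eq_of_le_of_finrank_eq
  · rw [← hs, Submodule.map_span, Submodule.span_le]
    rintro _ ⟨_, ⟨i, rfl⟩, rfl⟩
    fin_cases i
    · exact gx
    · exact gy
  · rw [LinearEquiv.finrank_map_eq, h2, h2']

/-- a second basis vector -/
theorem exists_second {L : Submodule F V} (h2 : finrank F L = 2) {c : V} (hc : c ≠ 0) :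
    ∃ a ∈ L, LinearIndependent F ![c, a] := by
  obtain ⟨a, ha, hac⟩ : ∃ a ∈ L, a ∉ Submodule.span F {c} := by
    by_contra hcon
    push Not at hcon
    have h1 : finrank F L ≤ finrank F (Submodule.span F {c}) := Submodule.finrank_mono (fun x hx => hcon x hx)
    rw [finrank_span_singleton hc, h2] at h1
    omega
  refine ⟨a, ha, ?_⟩
  rw [LinearIndependent.pair_iff' hc]
  intro r hr
  exact hac (Submodule.mem_span_singleton.2 ⟨r, hr⟩)

theorem symm_li {x y : V} (h : LinearIndependent F ![x, y]) : LinearIndependent F ![y, x] := by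
  rw [LinearIndependent.pair_iff] at h ⊢
  intro s t hst
  have := h t s (by rw [add_comm]; exact hst)
  exact ⟨this.2, this.1⟩

theorem ne_left {x y : V} (h : LinearIndependent F ![x, y]) : x ≠ 0 := h.ne_zero 0

/-- bases with a symmetric pairing -/
theorem exists_bases {B : LinearMap.BilinForm F V} {L L' : Submodule F V} (h2 : finrank F L = 2)
    (h2' : finrank F L' = 2) : ∃ a₁ ∈ L, ∃ a₂ ∈ L, ∃ b₁ ∈ L', ∃ b₂ ∈ L', LinearIndependent F ![a₁, a₂] ∧
      LinearIndependent F ![b₁, b₂] ∧ B a₁ b₂ = B a₂ b₁ := by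
  let R : L' →ₗ[F] Dual F L :=
    { toFun := fun b =>
        { toFun := fun a => B a b
          map_add' := fun x y => by simp
          map_smul' := fun c x => by simp }
      map_add' := fun x y => by ext a; simp
      map_smul' := fun c x => by ext a; simp }
  have hR : ∀ (b : L') (a : L), R b a = B a b := fun b a => rfl
  by_cases hinj : Function.Injective R
  · have hsurj : Function.Surjective R := by
      rw [← LinearMap.injective_iff_surjective_of_finrank_eq_finrank]
      · exact hinj
      · rw [h2', Subspace.dual_finrank_eq, h2]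
    let a : Basis (Fin 2) F L := (finBasis F L).reindex (finCongr h2)
    obtain ⟨b1, hb1⟩ := hsurj (a.coord 0)
    obtain ⟨b2, hb2⟩ := hsurj (a.coord 1)
    have e : ∀ i j, a.coord i (a j) = if j = i then (1 : F) else 0 := by
      intro i j
      rw [Basis.coord_apply, Basis.repr_self, Finsupp.single_apply]
    have h11 : B (a 0) b1 = 1 := by rw [← hR, hb1, e, if_pos rfl]
    have h12 : B (a 0) b2 = 0 := by rw [← hR, hb2, e, if_neg (by decide)]
    have h21 : B (a 1) b1 = 0 := by rw [← hR, hb1, e, if_neg (by decide)]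
    have h22 : B (a 1) b2 = 1 := by rw [← hR, hb2, e, if_pos rfl]
    refine ⟨a 0, (a 0).2, a 1, (a 1).2, b1, b1.2, b2, b2.2, ?_, ?_, ?_⟩
    · rw [LinearIndependent.pair_iff]
      intro s t hst
      have h3 := congrArg (fun v => B v (b1 : V)) hst
      have h4 := congrArg (fun v => B v (b2 : V)) hst
      simp only [map_add, map_smul, LinearMap.add_apply, LinearMap.smul_apply, h11, h12, h21, h22, smul_eq_mul,
        mul_one, mul_zero, add_zero, zero_add, map_zero, LinearMap.zero_apply] at h3 h4
      exact ⟨h3, h4⟩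
    · rw [LinearIndependent.pair_iff]
      intro s t hst
      have h3 := congrArg (fun v => B (a 0 : V) v) hst
      have h4 := congrArg (fun v => B (a 1 : V) v) hst
      simp only [map_add, map_smul, h11, h12, h21, h22, smul_eq_mul, mul_one, mul_zero, add_zero, zero_add,
        map_zero] at h3 h4
      exact ⟨h3, h4⟩
    · rw [h12, h21]
  · obtain ⟨b, hb0, hb⟩ : ∃ b : L', b ≠ 0 ∧ R b = 0 := by
      by_contra hcon
      push Not at hcon
      apply hinj
      rw [injective_iff_map_eq_zero]
      intro b hb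
      by_contra h0
      exact hcon b h0 hb
    have hb' : ∀ a ∈ L, B a b = 0 := fun a ha => by
      have := LinearMap.congr_fun hb ⟨a, ha⟩
      exact this
    let R' : L →ₗ[F] Dual F L' :=
      { toFun := fun a =>
          { toFun := fun b => B a b
            map_add' := fun x y => by simp
            map_smul' := fun c x => by simp }
        map_add' := fun x y => by ext a; simp
        map_smul' := fun c x => by ext a; simp }
    have hR' : ∀ (a : L) (b : L'), R' a b = B a b := fun a b => rfl
    obtain ⟨a, ha0, ha⟩ : ∃ a : L, a ≠ 0 ∧ R' a = 0 := by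
      by_contra hcon
      push Not at hcon
      have hinj' : Function.Injective R' := by
        rw [injective_iff_map_eq_zero]
        intro a ha
        by_contra h0
        exact hcon a h0 ha
      have hsurj' : Function.Surjective R' := by
        rw [← LinearMap.injective_iff_surjective_of_finrank_eq_finrank]
        · exact hinj'
        · rw [h2, Subspace.dual_finrank_eq, h2']
      obtain ⟨f, hf⟩ : ∃ f : Dual F L', f b ≠ 0 := by
        by_contra hcon2
        push Not at hcon2
        exact hb0 ((forall_dual_apply_eq_zero_iff F b).1 hcon2)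
      obtain ⟨a, rfl⟩ := hsurj' f
      exact hf (hb' a a.2)
    have ha' : ∀ b ∈ L', B a b = 0 := fun b hb => by
      have := LinearMap.congr_fun ha ⟨b, hb⟩
      exact this
    obtain ⟨a₁, ha₁, hla⟩ := exists_second h2 (c := (a : V)) (fun h => ha0 (Subtype.ext h))
    obtain ⟨b₁, hb₁, hlb⟩ := exists_second h2' (c := (b : V)) (fun h => hb0 (Subtype.ext h))
    refine ⟨a₁, ha₁, a, a.2, b₁, hb₁, b, b.2, symm_li hla, symm_li hlb, ?_⟩
    rw [hb' a₁ ha₁, ha' b₁ hb₁]

/-- **Two totally isotropic planes can be swapped.** -/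
theorem exists_swap {F V : Type*} [Field F] [AddCommGroup V] [Module F V] [FiniteDimensional F V]
    {B : LinearMap.BilinForm F V} (hB : Symp.SForm B) {L L' : Submodule F V} (hL : Symp.TI B L) (hL' : Symp.TI B L')
    (h2 : Module.finrank F L = 2) (h2' : Module.finrank F L' = 2) :
    ∃ g ∈ Symp.Iso B, L.map (g : V →ₗ[F] V) = L' ∧ L'.map (g : V →ₗ[F] V) = L := by
  by_cases h0 : L ⊓ L' = ⊥
  · obtain ⟨a₁, ha₁, a₂, ha₂, b₁, hb₁, b₂, hb₂, hla, hlb, hsym⟩ := exists_bases (B := B) h2 h2'
    have li : LinearIndependent F ![a₁, a₂, b₁, b₂] := by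
      rw [Fintype.linearIndependent_iff]
      intro c hc
      rw [Fin.sum_univ_four] at hc
      simp only [Matrix.cons_val_zero, Matrix.cons_val_one, Matrix.cons_val] at hc
      have h3 : c 0 • a₁ + c 1 • a₂ = -(c 2 • b₁ + c 3 • b₂) := by
        rw [eq_neg_iff_add_eq_zero, ← hc]
        abel
      have h4 : c 0 • a₁ + c 1 • a₂ ∈ L ⊓ L' := by
        refine Submodule.mem_inf.2 ⟨L.add_mem (L.smul_mem _ ha₁) (L.smul_mem _ ha₂), ?_⟩
        rw [h3]
        exact L'.neg_mem (L'.add_mem (L'.smul_mem _ hb₁) (L'.smul_mem _ hb₂))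
      rw [h0, Submodule.mem_bot] at h4
      have h5 : c 2 • b₁ + c 3 • b₂ = 0 := by
        rw [h4] at h3
        exact neg_eq_zero.1 h3.symm
      obtain ⟨e0, e1⟩ := LinearIndependent.pair_iff.1 hla _ _ h4
      obtain ⟨e2, e3⟩ := LinearIndependent.pair_iff.1 hlb _ _ h5
      intro i
      fin_cases i
      · exact e0
      · exact e1
      · exact e2
      · exact e3
    have li' : LinearIndependent F ![b₁, b₂, -a₁, -a₂] := by
      rw [Fintype.linearIndependent_iff] at li ⊢
      intro c hc
      rw [Fin.sum_univ_four] at hc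
      simp only [Matrix.cons_val_zero, Matrix.cons_val_one, Matrix.cons_val] at hc
      have h3 := li ![-c 2, -c 3, c 0, c 1] (by
        rw [Fin.sum_univ_four]
        simp only [Matrix.cons_val_zero, Matrix.cons_val_one, Matrix.cons_val]
        rw [← hc]
        simp only [neg_smul, smul_neg]
        abel)
      have e0 := h3 0
      have e1 := h3 1
      have e2 := h3 2
      have e3 := h3 3
      simp only [Matrix.cons_val_zero, Matrix.cons_val_one, Matrix.cons_val, neg_eq_zero] at e0 e1 e2 e3
      intro i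
      fin_cases i
      · exact e2
      · exact e3
      · exact e0
      · exact e1
    obtain ⟨g, hg, hgw⟩ := Symp.witt_family hB li li' (by
      have z1 : B a₁ a₁ = 0 := hL _ ha₁ _ ha₁
      have z2 : B a₁ a₂ = 0 := hL _ ha₁ _ ha₂
      have z3 : B a₂ a₁ = 0 := hL _ ha₂ _ ha₁
      have z4 : B a₂ a₂ = 0 := hL _ ha₂ _ ha₂
      have y1 : B b₁ b₁ = 0 := hL' _ hb₁ _ hb₁
      have y2 : B b₁ b₂ = 0 := hL' _ hb₁ _ hb₂
      have y3 : B b₂ b₁ = 0 := hL' _ hb₂ _ hb₁
      have y4 : B b₂ b₂ = 0 := hL' _ hb₂ _ hb₂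
      have x1 : B b₁ a₁ = -B a₁ b₁ := hB.swap _ _
      have x2 : B b₁ a₂ = -B a₂ b₁ := hB.swap _ _
      have x3 : B b₂ a₁ = -B a₁ b₂ := hB.swap _ _
      have x4 : B b₂ a₂ = -B a₂ b₂ := hB.swap _ _
      intro i j
      fin_cases i <;> fin_cases j <;>
        simp [z1, z2, z3, z4, y1, y2, y3, y4, x1, x2, x3, x4, hsym])
    have g0 : g a₁ = b₁ := hgw 0
    have g1 : g a₂ = b₂ := hgw 1
    have g2 : g b₁ = -a₁ := hgw 2
    have g3 : g b₂ = -a₂ := hgw 3
    refine ⟨g, hg, map_eq_of h2 h2' g hla ha₁ ha₂ (by rw [g0]; exact hb₁) (by rw [g1]; exact hb₂),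
      map_eq_of h2' h2 g hlb hb₁ hb₂ (by rw [g2]; exact L.neg_mem ha₁) (by rw [g3]; exact L.neg_mem ha₂)⟩
  by_cases hLL : L = L'
  · subst hLL
    refine ⟨1, Subgroup.one_mem _, ?_, ?_⟩ <;>
    · change L.map LinearMap.id = L
      exact Submodule.map_id L
  -- the intersection is a line
  obtain ⟨c, hc, hc0⟩ := (Submodule.ne_bot_iff _).1 h0
  obtain ⟨hcL, hcL'⟩ := Submodule.mem_inf.1 hc
  obtain ⟨a, ha, hla⟩ := exists_second h2 hc0
  obtain ⟨b, hb, hlb⟩ := exists_second h2' hc0
  have hbL : b ∉ L := by
    intro hbL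
    apply hLL
    have hs : Submodule.span F (Set.range ![c, b]) = L := by
      apply Submodule.eq_of_le_of_finrank_eq
      · rw [Submodule.span_le]
        rintro _ ⟨i, rfl⟩
        fin_cases i
        · exact hcL
        · exact hbL
      · rw [finrank_span_eq_card hlb, Fintype.card_fin, h2]
    have hs' : Submodule.span F (Set.range ![c, b]) = L' := by
      apply Submodule.eq_of_le_of_finrank_eq
      · rw [Submodule.span_le]
        rintro _ ⟨i, rfl⟩
        fin_cases i
        · exact hcL'
        · exact hb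
      · rw [finrank_span_eq_card hlb, Fintype.card_fin, h2']
    rw [← hs, hs']
  have li : LinearIndependent F ![c, a, b] := by
    rw [Fintype.linearIndependent_iff]
    intro k hk
    rw [Fin.sum_univ_three] at hk
    simp only [Matrix.cons_val_zero, Matrix.cons_val_one, Matrix.cons_val] at hk
    have e2 : k 2 = 0 := by
      by_contra hne
      apply hbL
      have h3 : b = (k 2)⁻¹ • (-(k 0 • c + k 1 • a)) := by
        rw [eq_inv_smul_iff₀ hne, eq_neg_iff_add_eq_zero, ← hk]
        abel
      rw [h3]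
      exact L.smul_mem _ (L.neg_mem (L.add_mem (L.smul_mem _ hcL) (L.smul_mem _ ha)))
    rw [e2, zero_smul, add_zero] at hk
    obtain ⟨e0, e1⟩ := LinearIndependent.pair_iff.1 hla _ _ hk
    intro i
    fin_cases i
    · exact e0
    · exact e1
    · exact e2
  have li' : LinearIndependent F ![c, b, -a] := by
    rw [Fintype.linearIndependent_iff] at li ⊢
    intro k hk
    rw [Fin.sum_univ_three] at hk
    simp only [Matrix.cons_val_zero, Matrix.cons_val_one, Matrix.cons_val] at hk
    have h3 := li ![k 0, -k 2, k 1] (by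
      rw [Fin.sum_univ_three]
      simp only [Matrix.cons_val_zero, Matrix.cons_val_one, Matrix.cons_val]
      rw [← hk]
      simp only [neg_smul, smul_neg]
      abel)
    have e0 := h3 0
    have e1 := h3 1
    have e2 := h3 2
    simp only [Matrix.cons_val_zero, Matrix.cons_val_one, Matrix.cons_val, neg_eq_zero] at e0 e1 e2
    intro i
    fin_cases i
    · exact e0
    · exact e2
    · exact e1
  obtain ⟨g, hg, hgw⟩ := Symp.witt_family hB li li' (by
    have z1 : B c c = 0 := hL _ hcL _ hcL
    have z2 : B c a = 0 := hL _ hcL _ ha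
    have z3 : B a c = 0 := hL _ ha _ hcL
    have z4 : B a a = 0 := hL _ ha _ ha
    have y1 : B c b = 0 := hL' _ hcL' _ hb
    have y2 : B b c = 0 := hL' _ hb _ hcL'
    have y3 : B b b = 0 := hL' _ hb _ hb
    have x1 : B b a = -B a b := hB.swap _ _
    intro i j
    fin_cases i <;> fin_cases j <;>
      simp [z1, z2, z3, z4, y1, y2, y3, x1])
  have g0 : g c = c := hgw 0
  have g1 : g a = b := hgw 1
  have g2 : g b = -a := hgw 2
  exact ⟨g, hg, map_eq_of h2 h2' g hla hcL ha (by rw [g0]; exact hcL') (by rw [g1]; exact hb),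
    map_eq_of h2' h2 g hlb hcL' hb (by rw [g0]; exact hcL) (by rw [g2]; exact L.neg_mem ha)⟩

end Cfsg.Agent.H783.SympSwap
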