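import Cfsg.Agent.H254.FxEvenTI
import Cfsg.Agent.TitsThree.KSideA
import Cfsg.Agent.ClassicalGeometry.AutPSL.Auto

/-!
# `NoEv` for `PSL_n(q)`, `n ≥ 5` odd, `q` odd (task 2043, S3002)
-/

set_option autoImplicit false
set_option linter.unusedSectionVars false

namespace Cfsg.Agent.H783.EvPSL

open Matrix Cfsg.Agent.TitsThree.KSideA Cfsg.Agent.H254.Ev
open Cfsg.Agent.ClassicalGeometry.AutPSL.Auto Cfsg.Agent.ClassicalGeometry.AutPSL.Root
open scoped commutatorElement

variable {n : ℕ} {F : Type*} [Field F]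

local notation "PSL" => Matrix.ProjectiveSpecialLinearGroup (Fin (n + 1)) F

/-- the subgroup generated by the root elements in a set of pairs -/
def Y (n : ℕ) (F : Type*) [Field F] (R : Fin (n + 1) → Fin (n + 1) → Prop) :
    Subgroup (Matrix.ProjectiveSpecialLinearGroup (Fin (n + 1)) F) :=
  Subgroup.closure {g | ∃ k l t, k ≠ l ∧ R k l ∧ g = X k l t}

theorem X_mem_Y {R : Fin (n + 1) → Fin (n + 1) → Prop} {k l : Fin (n + 1)} (h : k ≠ l) (hR : R k l) (t : F) :
    X k l t ∈ Y n F R := Subgroup.subset_closure ⟨k, l, t, h, hR, rfl⟩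

theorem perf {R : Fin (n + 1) → Fin (n + 1) → Prop}
    (hR : ∀ k l, k ≠ l → R k l → ∃ m, m ≠ k ∧ m ≠ l ∧ R k m ∧ R m l) : ⁅Y n F R, Y n F R⁆ = Y n F R := by
  apply le_antisymm
  · rw [Subgroup.commutator_le]
    intro a ha b hb
    exact mul_mem (mul_mem (mul_mem ha hb) (inv_mem ha)) (inv_mem hb)
  · unfold Y
    rw [Subgroup.closure_le]
    rintro _ ⟨k, l, t, hkl, hr, rfl⟩
    obtain ⟨m, h1, h2, h3, h4⟩ := hR k l hkl hr
    have h5 := X_comm (F := F) h1.symm h2 hkl t 1
    rw [mul_one] at h5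
    rw [← h5]
    exact Subgroup.commutator_mem_commutator (X_mem_Y h1.symm h3 t) (X_mem_Y h2 h4 1)

/-- **From one root element to the whole group.** -/
theorem eq_top_of_root [Finite F] (hn : 4 ≤ n) {α : MulAut PSL} {H : Subgroup PSL} (hH : FixLE 4 H) {i j : Fin (n + 1)}
    (hij : i ≠ j) (h : α (X i j 1) ∈ H) : H = ⊤ := by
  have hfin : Finite PSL := Quotient.finite _
  have step : ∀ i j : Fin (n + 1), i ≠ j → α (X i j 1) ∈ H → ∀ k l : Fin (n + 1), k ≠ l → k ≠ j → l ≠ i →
      ∀ t : F, α (X k l t) ∈ H := by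
    intro i j hij h k l hkl hkj hli t
    have hp : ⁅Y n F (fun k l => k ≠ j ∧ l ≠ i), Y n F (fun k l => k ≠ j ∧ l ≠ i)⁆ = Y n F (fun k l => k ≠ j ∧ l ≠ i) := by
      refine perf fun k l hkl ⟨h1, h2⟩ => ?_
      obtain ⟨m, hm⟩ : ∃ m : Fin (n + 1), m ∉ ({k, l, i, j} : Finset (Fin (n + 1))) := by
        by_contra hcon
        push Not at hcon
        have h3 : (Finset.univ : Finset (Fin (n + 1))) ⊆ {k, l, i, j} := fun m _ => hcon m
        have h4 := Finset.card_le_card h3
        rw [Finset.card_univ, Fintype.card_fin] at h4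
        have h5 := Finset.card_le_four (a := k) (b := l) (c := i) (d := j)
        omega
      simp only [Finset.mem_insert, Finset.mem_singleton, not_or] at hm
      exact ⟨m, hm.1, hm.2.1, ⟨h1, hm.2.2.1⟩, hm.2.2.2, h2⟩
    have hle : (Y n F (fun k l => k ≠ j ∧ l ≠ i)).map α.toMonoidHom ≤ H := by
      refine hH.perfect_le' le_rfl h ?_ ?_ ?_
      · intro h0
        have h1 : X i j (1 : F) = X i j 0 := by
          rw [X_zero]
          exact α.injective (by rw [h0, map_one])
        exact one_ne_zero (X_injective hij h1)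
      · rintro _ ⟨y, hy, rfl⟩
        show α y * α (X i j 1) = α (X i j 1) * α y
        rw [← map_mul, ← map_mul]
        congr 1
        have hc : Y n F (fun k l => k ≠ j ∧ l ≠ i) ≤ Subgroup.centralizer ({X i j (1 : F)} : Set PSL) := by
          unfold Y
          rw [Subgroup.closure_le]
          rintro _ ⟨k, l, t, -, ⟨h1, h2⟩, rfl⟩
          rw [SetLike.mem_coe, Subgroup.mem_centralizer_singleton_iff]
          exact (X_commute (Ne.symm h1) (Ne.symm h2) 1 t).eq.symm
        exact Subgroup.mem_centralizer_singleton_iff.1 (hc hy)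
      · rw [← Subgroup.map_commutator, hp]
    exact hle (Subgroup.mem_map_of_mem _ (X_mem_Y hkl ⟨hkj, hli⟩ t))
  have all : ∀ a b : Fin (n + 1), a ≠ b → ∀ t : F, α (X a b t) ∈ H := by
    intro a b hab t
    obtain ⟨k, hk⟩ : ∃ k : Fin (n + 1), k ∉ ({j, b} : Finset (Fin (n + 1))) := by
      by_contra hcon
      push Not at hcon
      have h3 : (Finset.univ : Finset (Fin (n + 1))) ⊆ {j, b} := fun m _ => hcon m
      have h4 := Finset.card_le_card h3
      rw [Finset.card_univ, Fintype.card_fin] at h4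
      have h5 := Finset.card_le_two (a := j) (b := b)
      omega
    obtain ⟨l, hl⟩ : ∃ l : Fin (n + 1), l ∉ ({i, a, k} : Finset (Fin (n + 1))) := by
      by_contra hcon
      push Not at hcon
      have h3 : (Finset.univ : Finset (Fin (n + 1))) ⊆ {i, a, k} := fun m _ => hcon m
      have h4 := Finset.card_le_card h3
      rw [Finset.card_univ, Fintype.card_fin] at h4
      have h5 := Finset.card_le_three (a := i) (b := a) (c := k)
      omega
    simp only [Finset.mem_insert, Finset.mem_singleton, not_or] at hk hl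
    exact step k l (Ne.symm hl.2.2) (step i j hij h k l (Ne.symm hl.2.2) hk.1 hl.1 1) a b hab (Ne.symm hl.2.1)
      (Ne.symm hk.2) t
  have h1 : H.comap α.toMonoidHom = ⊤ := closure_X _
    (fun i t => all _ _ (Fin.castSucc_lt_succ).ne t) (fun i t => all _ _ (Fin.castSucc_lt_succ).ne' t)
  rw [eq_top_iff]
  intro x _
  have h2 : α.symm x ∈ H.comap α.toMonoidHom := by rw [h1]; trivial
  have h3 : α (α.symm x) ∈ H := h2
  rwa [MulEquiv.apply_symm_apply] at h3

/-- **Three equal eigenvalues.** -/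
theorem eq_top_of_inv [Finite F] (hn : 4 ≤ n) {α : MulAut PSL} {H : Subgroup PSL} (hH : FixLE 4 H) {s : PSL} (hs : s ∈ H)
    (hs1 : s ≠ 1) {S : Finset (Fin (n + 1))} (hS : 3 ≤ S.card)
    (hc : ∀ i ∈ S, ∀ j ∈ S, i ≠ j → ∀ t : F, s * α (X i j t) = α (X i j t) * s) : H = ⊤ := by
  have hfin : Finite PSL := Quotient.finite _
  have hp : ⁅Y n F (fun k l => k ∈ S ∧ l ∈ S), Y n F (fun k l => k ∈ S ∧ l ∈ S)⁆ = Y n F (fun k l => k ∈ S ∧ l ∈ S) := by
    refine perf fun k l hkl ⟨h1, h2⟩ => ?_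
    obtain ⟨m, hm, hm'⟩ : ∃ m ∈ S, m ∉ ({k, l} : Finset (Fin (n + 1))) := by
      apply Finset.exists_mem_notMem_of_card_lt_card
      have h5 := Finset.card_le_two (a := k) (b := l)
      omega
    simp only [Finset.mem_insert, Finset.mem_singleton, not_or] at hm'
    exact ⟨m, hm'.1, hm'.2, ⟨h1, hm⟩, hm, h2⟩
  have hle : (Y n F (fun k l => k ∈ S ∧ l ∈ S)).map α.toMonoidHom ≤ H := by
    refine hH.perfect_le' le_rfl hs hs1 ?_ ?_
    · rintro _ ⟨y, hy, rfl⟩
      show α y * s = s * α y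
      have hc' : Y n F (fun k l => k ∈ S ∧ l ∈ S) ≤ (Subgroup.centralizer ({s} : Set PSL)).comap α.toMonoidHom := by
        unfold Y
        rw [Subgroup.closure_le]
        rintro _ ⟨k, l, t, hkl, ⟨h1, h2⟩, rfl⟩
        rw [SetLike.mem_coe, Subgroup.mem_comap, Subgroup.mem_centralizer_singleton_iff]
        exact (hc k h1 l h2 hkl t).symm
      exact Subgroup.mem_centralizer_singleton_iff.1 (hc' hy)
    · rw [← Subgroup.map_commutator, hp]
  obtain ⟨i, hi, j, hj, hij⟩ := Finset.one_lt_card.1 (show 1 < S.card by omega)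
  exact eq_top_of_root hn hH hij (hle (Subgroup.mem_map_of_mem _ (X_mem_Y hij ⟨hi, hj⟩ 1)))

/-- a linear automorphism as an invertible matrix -/
def toGL {m : ℕ} (L : (Fin m → F) ≃ₗ[F] (Fin m → F)) : GL (Fin m) F where
  val := LinearMap.toMatrix' L.toLinearMap
  inv := LinearMap.toMatrix' L.symm.toLinearMap
  val_inv := by
    rw [← LinearMap.toMatrix'_comp, ← LinearMap.toMatrix'_id]
    congr 1
    ext v i
    simp
  inv_val := by
    rw [← LinearMap.toMatrix'_comp, ← LinearMap.toMatrix'_id]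
    congr 1
    ext v i
    simp

theorem toGL_mulVec {m : ℕ} (L : (Fin m → F) ≃ₗ[F] (Fin m → F)) (v : Fin m → F) : (toGL L).1 *ᵥ v = L v :=
  LinearMap.toMatrix'_mulVec _ _

/-- **An involution of `PSL_{n+1}`, `n + 1 ≥ 5` odd, in a basis of eigenvectors.** -/
theorem exists_basis (h2 : (2 : F) ≠ 0) (hn : 4 ≤ n) (hne : Even n) {s : PSL} (hs : s * s = 1) :
    ∃ (A : GL (Fin (n + 1)) F) (S : Finset (Fin (n + 1))), 3 ≤ S.card ∧
      ∀ i ∈ S, ∀ j ∈ S, i ≠ j → ∀ t : F, s * lift (cj A) (X i j t) = lift (cj A) (X i j t) * s := by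
  obtain ⟨g, rfl⟩ := pr_surjective s
  have hg : g * g ∈ Subgroup.center (SpecialLinearGroup (Fin (n + 1)) F) := by
    rw [← map_mul] at hs
    exact (pr_eq_one_iff _).1 hs
  obtain ⟨c, hcn, hgc⟩ := Matrix.SpecialLinearGroup.mem_center_iff.1 hg
  rw [Fintype.card_fin] at hcn
  have hgg : ∀ v, g.1 *ᵥ (g.1 *ᵥ v) = c • v := by
    intro v
    have h1 : g.1 * g.1 = scalar (Fin (n + 1)) c := by
      rw [hgc]; rfl
    rw [mulVec_mulVec, h1, scalar_apply]
    funext i
    rw [mulVec_diagonal, Pi.smul_apply, smul_eq_mul]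
  obtain ⟨k, hk⟩ := hne
  obtain ⟨μ, hμ⟩ : ∃ μ : F, μ = c ^ (k + 1) := ⟨_, rfl⟩
  have hc0 : c ≠ 0 := by
    rintro rfl
    rw [zero_pow (by omega)] at hcn
    exact zero_ne_one hcn
  have hμc : μ * μ = c := by
    rw [hμ, ← pow_add]
    have : k + 1 + (k + 1) = (n + 1) + 1 := by omega
    rw [this, pow_succ, hcn, one_mul]
  have hμ0 : μ ≠ 0 := by
    rintro rfl
    rw [mul_zero] at hμc
    exact hc0 hμc.symm
  let E : F → Submodule F (Fin (n + 1) → F) := fun l =>
    { carrier := {v | g.1 *ᵥ v = l • v}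
      add_mem' := fun {a b} ha hb => by
        show g.1 *ᵥ (a + b) = l • (a + b)
        rw [mulVec_add, smul_add]
        exact congrArg₂ _ ha hb
      zero_mem' := by
        show g.1 *ᵥ 0 = l • 0
        rw [mulVec_zero, smul_zero]
      smul_mem' := fun a v hv => by
        show g.1 *ᵥ (a • v) = l • (a • v)
        rw [mulVec_smul, smul_comm]
        exact congrArg _ hv }
  have hE : ∀ l v, v ∈ E l ↔ g.1 *ᵥ v = l • v := fun l v => Iff.rfl
  have hcompl : IsCompl (E μ) (E (-μ)) := by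
    constructor
    · rw [Submodule.disjoint_def]
      intro v h3 h4
      rw [hE] at h3 h4
      rw [h3, neg_smul, eq_neg_iff_add_eq_zero, ← add_smul, ← two_mul] at h4
      exact (smul_eq_zero.1 h4).resolve_left (mul_ne_zero h2 hμ0)
    · rw [codisjoint_iff, eq_top_iff]
      intro v _
      have e : v = (2 : F)⁻¹ • (v + μ⁻¹ • (g.1 *ᵥ v)) + (2 : F)⁻¹ • (v - μ⁻¹ • (g.1 *ᵥ v)) := by
        rw [← smul_add, add_add_sub_cancel, ← two_smul F v, smul_smul, inv_mul_cancel₀ h2, one_smul]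
      rw [e]
      refine Submodule.add_mem_sup (Submodule.smul_mem _ _ ?_) (Submodule.smul_mem _ _ ?_)
      · rw [hE, mulVec_add, mulVec_smul, hgg, smul_smul, smul_add, smul_smul, mul_inv_cancel₀ hμ0, one_smul, ← hμc,
          inv_mul_cancel_left₀ hμ0]
        exact add_comm _ _
      · rw [hE, mulVec_sub, mulVec_smul, hgg, smul_smul, smul_sub, smul_smul, ← hμc, inv_mul_cancel_left₀ hμ0, neg_mul,
          mul_inv_cancel₀ hμ0, neg_smul, neg_smul, one_smul]
        abel
  -- the basis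
  obtain ⟨a, ha⟩ : ∃ a, a = Module.finrank F (E μ) := ⟨_, rfl⟩
  obtain ⟨b, hb⟩ : ∃ b, b = Module.finrank F (E (-μ)) := ⟨_, rfl⟩
  have hab : a + b = n + 1 := by
    rw [ha, hb, Submodule.finrank_add_eq_of_isCompl hcompl, Module.finrank_fin_fun]
  let B1 : Module.Basis (Fin a) F (E μ) := Module.finBasisOfFinrankEq F _ ha.symm
  let B2 : Module.Basis (Fin b) F (E (-μ)) := Module.finBasisOfFinrankEq F _ hb.symm
  let e : Fin a ⊕ Fin b ≃ Fin (n + 1) := finSumFinEquiv.trans (finCongr hab)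
  let B : Module.Basis (Fin (n + 1)) F (Fin (n + 1) → F) :=
    ((B1.prod B2).map (Submodule.prodEquivOfIsCompl _ _ hcompl)).reindex e
  let L : (Fin (n + 1) → F) ≃ₗ[F] (Fin (n + 1) → F) := (Pi.basisFun F (Fin (n + 1))).equiv B (Equiv.refl _)
  have hL : ∀ i, L (Pi.single i 1) = B i := by
    intro i
    have h1 := (Pi.basisFun F (Fin (n + 1))).equiv_apply i B (Equiv.refl _)
    rw [Pi.basisFun_apply] at h1
    exact h1
  have hB1 : ∀ i : Fin a, g.1 *ᵥ B (e (Sum.inl i)) = μ • B (e (Sum.inl i)) := by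
    intro i
    have h1 : B (e (Sum.inl i)) = (B1 i : Fin (n + 1) → F) := by
      simp [B]
    rw [h1]
    exact (B1 i).2
  have hB2 : ∀ i : Fin b, g.1 *ᵥ B (e (Sum.inr i)) = (-μ) • B (e (Sum.inr i)) := by
    intro i
    have h1 : B (e (Sum.inr i)) = (B2 i : Fin (n + 1) → F) := by
      simp [B]
    rw [h1]
    exact (B2 i).2
  have hB : ∀ k, ∃ l : F, g.1 *ᵥ B k = l • B k := by
    intro k
    obtain ⟨x, rfl⟩ := e.surjective k
    rcases x with i | i
    · exact ⟨_, hB1 i⟩
    · exact ⟨_, hB2 i⟩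
  choose lam hlam using hB
  have hD : g.1 * (toGL L).1 = (toGL L).1 * diagonal lam := by
    apply Matrix.ext_of_mulVec_single
    intro i
    rw [← mulVec_mulVec, ← mulVec_mulVec, toGL_mulVec, hL, hlam, diagonal_mulVec_single, mul_one]
    have h1 : (Pi.single i (lam i) : Fin (n + 1) → F) = lam i • Pi.single i 1 := by
      rw [← Pi.single_smul, smul_eq_mul, mul_one]
    rw [h1, mulVec_smul, toGL_mulVec, hL]
  -- commutation
  have hcomm : ∀ i j : Fin (n + 1), i ≠ j → lam i = lam j → ∀ t : F,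
      pr g * lift (cj (toGL L)) (X i j t) = lift (cj (toGL L)) (X i j t) * pr g := by
    intro i j hij hl t
    have h1 : (X i j t : PSL) = pr (tv i j t) := rfl
    rw [h1, lift_pr, ← map_mul, ← map_mul]
    congr 1
    apply Subtype.ext
    have h3 : (tv i j t).1 * diagonal lam = diagonal lam * (tv i j t).1 := by
      rw [tv_of_ne hij]
      have h4 : (SpecialLinearGroup.transvection hij t).1 = transvection i j t := rfl
      rw [h4, transvection, add_mul, mul_add, one_mul, mul_one]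
      congr 1
      ext k l
      rw [mul_diagonal, diagonal_mul, single_apply]
      split_ifs with h5
      · rw [← h5.1, ← h5.2, hl, mul_comm]
      · rw [zero_mul, mul_zero]
    have h5 : ((toGL L)⁻¹ : GL (Fin (n + 1)) F).1 * g.1 = diagonal lam * ((toGL L)⁻¹ : GL (Fin (n + 1)) F).1 := by
      have h6 : ((toGL L)⁻¹ : GL (Fin (n + 1)) F).1 * (g.1 * (toGL L).1) * ((toGL L)⁻¹ : GL (Fin (n + 1)) F).1 =
          ((toGL L)⁻¹ : GL (Fin (n + 1)) F).1 * ((toGL L).1 * diagonal lam) * ((toGL L)⁻¹ : GL (Fin (n + 1)) F).1 :=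
        congrArg (fun M => ((toGL L)⁻¹ : GL (Fin (n + 1)) F).1 * M * ((toGL L)⁻¹ : GL (Fin (n + 1)) F).1) hD
      rw [← mul_assoc, mul_assoc _ (toGL L).1, ← Units.val_mul, mul_inv_cancel, Units.val_one, mul_one, ← mul_assoc,
        ← Units.val_mul, inv_mul_cancel, Units.val_one, one_mul] at h6
      exact h6
    show g.1 * ((toGL L).1 * (tv i j t).1 * ((toGL L)⁻¹ : GL (Fin (n + 1)) F).1) =
      ((toGL L).1 * (tv i j t).1 * ((toGL L)⁻¹ : GL (Fin (n + 1)) F).1) * g.1
    rw [mul_assoc ((toGL L).1 * (tv i j t).1), h5, ← mul_assoc, ← mul_assoc, hD, mul_assoc ((toGL L).1) (diagonal lam),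
      ← h3, ← mul_assoc, ← mul_assoc]
  refine ⟨toGL L, if 3 ≤ a then (Finset.univ.map Function.Embedding.inl).map e.toEmbedding else
    (Finset.univ.map Function.Embedding.inr).map e.toEmbedding, ?_, ?_⟩
  · split_ifs with h
    · rw [Finset.card_map, Finset.card_map, Finset.card_univ, Fintype.card_fin]
      exact h
    · rw [Finset.card_map, Finset.card_map, Finset.card_univ, Fintype.card_fin]
      omega
  · have hl1 : ∀ i : Fin a, lam (e (Sum.inl i)) = μ := by
      intro i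
      have h1 := (hlam (e (Sum.inl i))).symm.trans (hB1 i)
      rw [← sub_eq_zero, ← sub_smul] at h1
      exact sub_eq_zero.1 ((smul_eq_zero.1 h1).resolve_right (B.ne_zero _))
    have hl2 : ∀ i : Fin b, lam (e (Sum.inr i)) = -μ := by
      intro i
      have h1 := (hlam (e (Sum.inr i))).symm.trans (hB2 i)
      rw [← sub_eq_zero, ← sub_smul] at h1
      exact sub_eq_zero.1 ((smul_eq_zero.1 h1).resolve_right (B.ne_zero _))
    intro i hi j hj hij t
    refine hcomm i j hij ?_ t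
    split_ifs at hi hj with h
    · simp only [Finset.mem_map, Finset.mem_univ, true_and, Function.Embedding.inl_apply, exists_exists_eq_and] at hi hj
      obtain ⟨i, rfl⟩ := hi
      obtain ⟨j, rfl⟩ := hj
      exact (hl1 i).trans (hl1 j).symm
    · simp only [Finset.mem_map, Finset.mem_univ, true_and, Function.Embedding.inr_apply, exists_exists_eq_and] at hi hj
      obtain ⟨i, rfl⟩ := hi
      obtain ⟨j, rfl⟩ := hj
      exact (hl2 i).trans (hl2 j).symm

/-- **`NoEv (PSL_{n+1}(q))`**, `n + 1 ≥ 5` odd, `q` odd. -/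
theorem noEv [Finite F] (h2 : (2 : F) ≠ 0) (hn : 4 ≤ n) (hne : Even n) : NoEv PSL := by
  have hfin : Finite PSL := Quotient.finite _
  rintro H hH ⟨t, ht2, ht4⟩
  have hH1 : H ≠ ⊤ := ne_top_of_exact (by norm_num) ht4
  obtain ⟨a, ha, -⟩ := exists_conj_exact (by norm_num) ht4
  obtain ⟨s, hs'⟩ : ∃ s, s = a⁻¹ * t * a := ⟨_, rfl⟩
  rw [← hs'] at ha
  have hss : s * s = 1 := by
    have h1 : t * t = 1 := by rw [← pow_two, ← ht2, pow_orderOf_eq_one]
    rw [hs']
    calc a⁻¹ * t * a * (a⁻¹ * t * a) = a⁻¹ * (t * t) * a := by group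
      _ = 1 := by rw [h1]; group
  have hs1 : s ≠ 1 := by
    intro h1
    rw [hs'] at h1
    have h3 : t = 1 := by
      calc t = a * (a⁻¹ * t * a) * a⁻¹ := by group
        _ = 1 := by rw [h1]; group
    rw [h3, orderOf_one] at ht2
    exact absurd ht2 (by norm_num)
  obtain ⟨A, S, hS, hc⟩ := exists_basis h2 hn hne hss
  exact hH1 (eq_top_of_inv hn hH ha hs1 hS hc)

theorem noEv_psl5 (F : Type) [Field F] [Fintype F] (h : Fintype.card F % 4 = 3) :
    NoEv (Matrix.ProjectiveSpecialLinearGroup (Fin 5) F) := by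
  refine noEv (n := 4) ?_ le_rfl (by decide)
  intro h0
  have h4 : CharP F 2 := CharTwo.of_one_ne_zero_of_two_eq_zero one_ne_zero h0
  have h5 : Fintype.card F % 2 = 0 := FiniteField.even_card_of_char_two (ringChar.eq F 2)
  omega

end Cfsg.Agent.H783.EvPSL
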