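import Cfsg.Agent.H286.TypeI
import Cfsg.Agent.H286.RowOf
import Cfsg.Agent.H829.UNodeLast
import Cfsg.Agent.H815.RankL3
import Cfsg.Agent.H300.RankSp4
import Cfsg.Agent.H858.UFour
import Cfsg.Agent.UGT.U2.FOne.PSU

/-!
# `Row` for `PSp_2m(q)`, `m ≥ 2`, and `PSU_n(q)`, `n = 3`, `n ≥ 5`, `q` odd (task 1417)
-/

set_option autoImplicit false
set_option linter.unusedSectionVars false

namespace Cfsg.Agent.H783.RowSpU

open Cfsg Cfsg.Agent.LieClassical.HermBasic Cfsg.Agent.LieClassical.HermGen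
open Cfsg.Agent.ChevalleyStructure.CoxeterGeom Cfsg.Agent.Tits.Roots Cfsg.Agent.Nodes.TypeC
open Cfsg.Agent.Nodes.Comb Cfsg.Agent.Nodes.Reps Cfsg.Agent.Nodes.WittRoot Cfsg.Agent.Nodes.BNOf
open Cfsg.Agent.Nodes.WittRGD Cfsg.Agent.Nodes.RGDLib Cfsg.Agent.Nodes.WittModel Cfsg.Agent.Nodes.WittU
open Cfsg.Agent.TitsThree Cfsg.Agent.TitsThree.Siegel Cfsg.Agent.TitsThree.SiegelGen
  Cfsg.Agent.TitsThree.WittFrame Cfsg.Agent.TitsThree.WBridge Cfsg.Agent.TitsThree.WittWeyl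
  Cfsg.Agent.TitsThree.FrameCN Cfsg.Agent.TitsThree.KSideU Cfsg.Agent.TitsThree.KSideUDesc
open Cfsg.Agent.FixBN.WittNodeA Cfsg.Agent.FixBN.WittNodeB
open Cfsg.Agent.Nodes.ClsWitt Cfsg.Agent.Nodes.Chart
open Cfsg.Agent.UGT.U2.FOne Cfsg.Agent.H286.Obs Cfsg.Agent.H286.Row Cfsg.Agent.H286.RowOf Cfsg.Agent.H286.TypeI

section Model

variable {F : Type*} [Field F] {V : Type*} [AddCommGroup V] [Module F V] {H : HForm F V} {n : ℕ}
  {Fr : Frame H (Fin n)} {K : Type*} [Group K] (M : Model Fr K)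

theorem mem_X_long {x : Fin n → ℤ} {a : Fin n × Bool} (e : ee x = wt a + wt a) {k : K} :
    k ∈ X M x ↔ ∃ s : Fr.Adm, k = M.Z a s := by
  rw [mem_X]
  constructor
  · rintro ⟨g, hg, hgr, rfl⟩
    rw [rg_eq Fr (Or.inr rfl) e, PG_self] at hgr
    obtain ⟨s, rfl⟩ := hgr
    exact ⟨s, rfl⟩
  · rintro ⟨s, rfl⟩
    refine ⟨Fr.Z a s, M.hZ a s, ?_, rfl⟩
    rw [rg_eq Fr (Or.inr rfl) e, PG_self]
    exact ⟨s, rfl⟩

theorem mem_ZM {x : Fin n → ℤ} {a : Fin n × Bool} (e : ee x = wt a + wt a) {k : K} :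
    k ∈ ZM M x ↔ ∃ s : Fr.Adm, s.w = 0 ∧ k = M.Z a s := by
  unfold ZM
  rw [ZV_eq Fr e]
  constructor
  · rintro ⟨⟨g, hg⟩, h, rfl⟩
    obtain ⟨s, hs, h'⟩ := Subgroup.mem_subgroupOf.1 h
    have h'' : g = Fr.Z a s := h'
    subst h''
    exact ⟨s, hs, rfl⟩
  · rintro ⟨s, hs, rfl⟩
    exact Subgroup.mem_map_of_mem _ (Subgroup.mem_subgroupOf.2 ⟨s, hs, rfl⟩)

theorem Z_inj {a : Fin n × Bool} {s t : Fr.Adm} (h : M.Z a s = M.Z a t) : s = t := by
  have h1 : M.Z a (s⁻¹ * t) = 1 := by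
    have h2 : M.Z a s * M.Z a (s⁻¹ * t) = M.Z a s * 1 := by
      rw [← Z_mul', mul_inv_cancel_left, mul_one, h]
    exact mul_left_cancel h2
  have h3 := Z_eq_one M h1
  rwa [inv_mul_eq_one] at h3

/-- the long root groups of a model with `w = 0` always -/
theorem hZ_of_zero (h0 : ∀ s : Fr.Adm, s.w = 0) : ∀ r ∈ LR n, ∀ v ∈ X M r, (∀ u ∈ X M r, u * v = v * u) → v ∈ ZM M r := by
  rintro r ⟨a, e⟩ v hv -
  obtain ⟨s, rfl⟩ := (mem_X_long M e).1 hv
  exact (mem_ZM M e).2 ⟨s, h0 s, rfl⟩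

/-- the centres of the long root groups of a unitary model -/
theorem hZ_of_sigma {l : F} (hl : H.σ l ≠ l) (h0 : ∀ s : Fr.Adm, H.h s.w s.w = 0 → s.w = 0) :
    ∀ r ∈ LR n, ∀ v ∈ X M r, (∀ u ∈ X M r, u * v = v * u) → v ∈ ZM M r := by
  rintro r ⟨a, e⟩ v hv hc
  obtain ⟨s, rfl⟩ := (mem_X_long M e).1 hv
  refine (mem_ZM M e).2 ⟨s, h0 s ?_, rfl⟩
  have h1 := hc _ ((mem_X_long M e).2 ⟨Frame.Adm.smul l s, rfl⟩)
  rw [← Z_mul', ← Z_mul'] at h1
  have h2 := congrArg Frame.Adm.c (Z_inj M h1)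
  rw [Frame.Adm.mul_c, Frame.Adm.mul_c, Frame.Adm.smul_w, Frame.Adm.smul_c, H.smul_left, H.smul_right] at h2
  have hε := inv_ne_zero H.ε_ne
  have h3 : (H.σ l - l) * H.h s.w s.w = 0 := by
    apply mul_left_cancel₀ hε
    linear_combination -h2
  exact (mul_eq_zero.1 h3).resolve_left (sub_ne_zero.2 hl)

end Model

/-- `q` odd -/
theorem ne_two {F : Type*} [Field F] [Fintype F] {p : ℕ} [Fact p.Prime] [CharP F p] (ho : Odd (Fintype.card F)) : p ≠ 2 := by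
  rintro rfl
  obtain ⟨k, -, hk⟩ := FiniteField.card F 2
  rw [hk] at ho
  exact absurd ho (Nat.not_odd_iff_even.2 ((Nat.even_pow.2 ⟨even_two, k.ne_zero⟩)))

/-- **`PSp_2m(q)`**, `m ≥ 3`. -/
theorem psp_three {F : Type} [Field F] [Fintype F] {p : ℕ} [Fact p.Prime] [CharP F p] (ho : Odd (Fintype.card F)) {m : ℕ}
    (hm : 3 ≤ m) : Row p (PSp m F) := by
  have hp2 : p ≠ 2 := ne_two ho
  have hpo : Odd p := (Fact.out : p.Prime).odd_of_ne_two hp2
  have hfin : Finite (CoxeterMatrix.B m).Group := finite_W (CoxeterMatrix.B m).toCoxeterSystem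
  have : Fintype (CoxeterMatrix.B m).Group := Fintype.ofFinite _
  have hs : IsSimpleGroup (PSp m F) := S0270.result m (by omega) (by omega)
  have : Finite (PSp m F) := Quotient.finite _
  have C := cls_model (KInstSp.model m F) amb_Sp (p0 := SpIdent.adm 1) one_ne_zero rfl hpo
    (CoxeterMatrix.B m).toCoxeterSystem
  refine row_of_obs hp2 C.rgd (Nodes.WittModel.G1_eq_top (KInstSp.model m F) (by omega) _) fun x φ σ J g Nf => ?_
  refine typeI C Nf.nx (hZ_of_zero (KInstSp.model m F) fun s => ?_) (Fact.out) hp2 hm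
  rw [SpIdent.eq_adm s]
  rfl

/-- **Row of `PSp_2m(q)`**, `q` odd, `m ≥ 2`. -/
theorem row_psp (F : Type) [Field F] [Fintype F] (p : ℕ) [Fact p.Prime] [CharP F p] (ho : Odd (Fintype.card F)) {m : ℕ}
    (hm : 2 ≤ m) : Row p (PSp m F) := by
  rcases Nat.lt_or_ge 2 m with h | h
  · exact psp_three ho h
  · obtain rfl : m = 2 := by omega
    exact Row.of_rank (Cfsg.Agent.H300.RankSp4.rank_psp ho)

section Unitary

variable {F : Type} [Field F] [Fintype F] {q N : ℕ} (hF : Fintype.card F = q ^ 2) (hN : 3 ≤ N) {m : ℕ}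

include hF in
theorem hZ_U (W : WFrame (PU hF N) m) : ∀ r ∈ LR m, ∀ v ∈ X (KInstU.model hF hN W) r,
    (∀ u ∈ X (KInstU.model hF hN W) r, u * v = v * u) → v ∈ ZM (KInstU.model hF hN W) r := by
  obtain ⟨l, hl⟩ := exists_not_fixed hF
  refine hZ_of_sigma (KInstU.model hF hN W) (l := l) hl fun s hs => ?_
  exact W.aniso s.w s.ok.1 ((sing_iff hF).2 hs)

include hF in
theorem odd_card (hq : Odd q) : Odd (Fintype.card F) := by
  rw [hF]
  exact hq.pow

include hF in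
theorem simple_U (hN : 3 ≤ N) (hq : Odd q) : IsSimpleGroup (PSU N F q) := by
  have h32 : ¬ (N = 3 ∧ q = 2) := by
    rintro ⟨-, rfl⟩
    exact absurd hq (by decide)
  exact LieClassical.HermSimple.isSimpleGroup_of_perfect hF hN (LieClassical.HermPerfect.commutator_SU_eq_top hF hN h32)

include hF in
/-- **`PSU_n(q)`**, `n ≥ 6`. -/
theorem psu_six {p : ℕ} [Fact p.Prime] [CharP F p] (hq : Odd q) (hN : 6 ≤ N) : Row p (PSU N F q) := by
  have ho := odd_card hF hq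
  have hp2 : p ≠ 2 := ne_two ho
  have hpo : Odd p := (Fact.out : p.Prime).odd_of_ne_two hp2
  have hN3 : 3 ≤ N := by omega
  obtain ⟨m, hm⟩ : ∃ m, N = 2 * m ∨ N = 2 * m + 1 := ⟨N / 2, by omega⟩
  have hm3 : 3 ≤ m := by omega
  have hfin : Finite (CoxeterMatrix.B m).Group := finite_W (CoxeterMatrix.B m).toCoxeterSystem
  have : Fintype (CoxeterMatrix.B m).Group := Fintype.ofFinite _
  have hs := simple_U hF hN3 hq
  have : Finite (PSU N F q) := Quotient.finite _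
  obtain ⟨W, -⟩ := exists_wframe hF hm
  obtain ⟨p0, hp0, hw0⟩ := exists_adm hF W
  have C := cls_model (KInstU.model hF hN3 W) (amb_U hF W) hp0 hw0 hpo (CoxeterMatrix.B m).toCoxeterSystem
  refine row_of_obs hp2 C.rgd (Nodes.WittModel.G1_eq_top (KInstU.model hF hN3 W) (by omega) _) fun x φ σ J g Nf => ?_
  exact typeI C Nf.nx (hZ_U hF hN3 W) (Fact.out) hp2 hm3

include hF in
/-- **`PSU_5(q)`**. -/
theorem psu_five {p : ℕ} [Fact p.Prime] [CharP F p] (hq : Odd q) : Row p (PSU 5 F q) := by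
  have ho := odd_card hF hq
  have hp2 : p ≠ 2 := ne_two ho
  have hpo : Odd p := (Fact.out : p.Prime).odd_of_ne_two hp2
  have hN3 : 3 ≤ 5 := by omega
  have hfin : Finite (CoxeterMatrix.B 2).Group := finite_W (CoxeterMatrix.B 2).toCoxeterSystem
  have : Fintype (CoxeterMatrix.B 2).Group := Fintype.ofFinite _
  have hs := simple_U hF hN3 hq
  have : Finite (PSU 5 F q) := Quotient.finite _
  obtain ⟨W, d, hd, hW⟩ := exists_wframe_odd (N := 5) (m := 2) hF rfl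
  obtain ⟨p0, hp0, hw0⟩ := exists_adm hF W
  have C := cls_model (KInstU.model hF hN3 W) (amb_U hF W) hp0 hw0 hpo (CoxeterMatrix.B 2).toCoxeterSystem
  refine row_of_obs hp2 C.rgd (Nodes.WittModel.G1_eq_top (KInstU.model hF hN3 W) (by omega) _) fun x φ σ J g Nf => ?_
  refine typeI_two C Nf.nx (hZ_U hF hN3 W) (Fact.out) hp2 ?_ ?_
  · -- non-abelian root groups
    rintro r ⟨a, e⟩
    have hd0 : d ∈ W.V0 := by rw [hW]; exact Submodule.mem_span_singleton_self d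
    obtain ⟨c, hc⟩ := exists_trace_eq hF (c := (-1 : F)) (by rw [neg_pow_q hF, one_pow])
    let s : (toFrame W).Adm := ⟨d, c, hd0, by rw [ok_iff, hd]; exact hc⟩
    refine ⟨_, (mem_X_long (KInstU.model hF hN3 W) e).2 ⟨s, rfl⟩, fun h => ?_⟩
    obtain ⟨t, ht, h'⟩ := (mem_ZM (KInstU.model hF hN3 W) e).1 h
    have hst := Z_inj _ h'
    have hd1 : d = 0 := by
      rw [← hst] at ht
      exact ht
    rw [hd1, herm_zero_left] at hd
    exact zero_ne_one hd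
  · exact H829.UNodeLast.last_not_mem hF hN3 hpo W d hd hW Nf 1 (by norm_num)

include hF in
/-- **Row of `PSU_n(q)`**, `q` odd, `n = 3` or `n ≥ 5`. -/
theorem row_psu (p : ℕ) [Fact p.Prime] [CharP F p] (hq : Odd q) (hn : N = 3 ∨ 5 ≤ N) : Row p (PSU N F q) := by
  rcases hn with rfl | hn
  · exact Row.of_rank (Cfsg.Agent.H815.RankL3.rank_psu_three hF hq)
  · rcases Nat.lt_or_ge 5 N with h | h
    · exact psu_six hF hq h
    · obtain rfl : N = 5 := by omega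
      exact psu_five hF hq

end Unitary

end Cfsg.Agent.H783.RowSpU
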