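import Cfsg.Agent.H286.RowOf
import Cfsg.Agent.H286.PADE
import Cfsg.Agent.H815.RankL3
import Cfsg.Agent.H815.RankL4Inst
import Cfsg.Agent.UGT.U2.FOne.ADERows

/-!
# `Row p K` for `PSL_n(q)` and `PΩ⁺_2m(q)`, `q` odd (helper783, for S3107, S3160, S3097)
-/

set_option autoImplicit false
set_option linter.unusedSectionVars false

namespace Cfsg.Agent.H783.RowADE

open Cfsg Cfsg.Agent.UGT.U2.FOne Cfsg.Lie Cfsg.Agent.ChevalleyStructure
open Matrix CoxeterSystem Cfsg.Agent.ChevalleyStructure.CoxeterGeom Cfsg.Agent.Tits.Roots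
open Cfsg.Agent.Nodes.Reps Cfsg.Agent.Nodes.BNOf Cfsg.Agent.Nodes.RGDLib Cfsg.Agent.Nodes.RootsA
  Cfsg.Agent.Nodes.RGDTypeA Cfsg.Agent.Nodes.Bruhat
open Cfsg.Agent.LieRecognition.BNCox (cA)
open Cfsg.Agent.H286.Row Cfsg.Agent.H286.RowOf Cfsg.Agent.H286.Obs Cfsg.Agent.H286.Chain

/-! ### `PSL_n(q)` -/

section SL

variable {F : Type} [Field F] [Fintype F] {p : ℕ} [Fact p.Prime] [CharP F p]

theorem odd_p (hp2 : p ≠ 2) : Odd p := (Fact.out : p.Prime).odd_of_ne_two hp2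

/-- `n ≥ 5` -/
theorem psl_five (hp2 : p ≠ 2) (ho : Odd (Fintype.card F)) {m : ℕ} (hm : 4 ≤ m) :
    Row p (Matrix.ProjectiveSpecialLinearGroup (Fin (m + 1)) F) := by
  have hs : IsSimpleGroup (Matrix.ProjectiveSpecialLinearGroup (Fin (m + 1)) F) := S0249.result (m + 1) (by omega)
  have N := ADESL.nice (F := F) (p := p) (n := m) (odd_p hp2) ho (by omega)
  have := N.fin
  refine row_of_obs hp2 N.rgd N.gen fun x φ σ J g H => ?_
  let i0 : Fin m := ⟨0, by omega⟩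
  let i1 : Fin m := ⟨1, by omega⟩
  let i2 : Fin m := ⟨2, by omega⟩
  let i3 : Fin m := ⟨3, by omega⟩
  have key : ∀ i j : Fin m, AA m i j = if i = j then 2 else if (i : ℕ) + 1 = j ∨ (j : ℕ) + 1 = i then -1 else 0 :=
    fun i j => rfl
  refine obs_chain (odd_p hp2) H (i0 := i0) (i1 := i1) (i2 := i2) (i3 := i3) ?_ ?_ ?_ ?_ ?_ ?_ ?_ ?_ ?_ ?_ ?_
  · simp [i0, i2, Fin.ext_iff]
  · simp [i1, i3, Fin.ext_iff]
  · simp [i0, i3, Fin.ext_iff]
  · simp [key, i0, i1, Fin.ext_iff]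
  · simp [key, i0, i1, Fin.ext_iff]
  · simp [key, i1, i2, Fin.ext_iff]
  · simp [key, i1, i2, Fin.ext_iff]
  · simp [key, i2, i3, Fin.ext_iff]
  · simp [key, i2, i3, Fin.ext_iff]
  · intro k h0 h1
    have h0' : (k : ℕ) ≠ 0 := fun e => h0 (Fin.ext e)
    have h1' : (k : ℕ) ≠ 1 := fun e => h1 (Fin.ext e)
    rw [key, if_neg h0, if_neg (by simp only [i0]; omega)]
  · intro k h0 h1 h2
    have h0' : (k : ℕ) ≠ 0 := fun e => h0 (Fin.ext e)
    have h1' : (k : ℕ) ≠ 1 := fun e => h1 (Fin.ext e)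
    have h2' : (k : ℕ) ≠ 2 := fun e => h2 (Fin.ext e)
    rw [key, if_neg h1, if_neg (by simp only [i1]; omega)]

/-- a subgroup parametrised by the field -/
theorem card_exp {K : Type*} [Group K] (Y : Subgroup K) (f : F → K) (hf : Function.Injective f)
    (hadd : ∀ s t, f (s + t) = f s * f t) (hY : ∀ u, u ∈ Y ↔ ∃ t, f t = u) :
    Nat.card Y = Fintype.card F ∧ ∀ u ∈ Y, u ^ p = 1 := by
  have h0 : f 0 = 1 := by
    have := hadd 0 0
    rw [add_zero] at this
    exact (mul_eq_left.1 this.symm)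
  have hpow : ∀ (t : F) (k : ℕ), f t ^ k = f (k * t) := by
    intro t k
    induction k with
    | zero => rw [pow_zero, Nat.cast_zero, zero_mul, h0]
    | succ k ih => rw [pow_succ, ih, ← hadd]; congr 1; push_cast; ring
  constructor
  · rw [← Nat.card_eq_fintype_card]
    refine (Nat.card_congr (Equiv.ofBijective (fun t : F => (⟨f t, (hY _).2 ⟨t, rfl⟩⟩ : Y)) ⟨?_, ?_⟩)).symm
    · intro s t hst
      exact hf (congrArg Subtype.val hst)
    · rintro ⟨u, hu⟩
      obtain ⟨t, rfl⟩ := (hY u).1 hu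
      exact ⟨t, rfl⟩
  · intro u hu
    obtain ⟨t, rfl⟩ := (hY u).1 hu
    rw [hpow, CharP.cast_eq_zero, zero_mul, h0]

theorem psl_root {n : ℕ} (hn : 2 ≤ n) (i : Fin n) :
    Nat.card ((X F (sr i)).map (pr n F)) = Fintype.card F ∧ ∀ u ∈ (X F (sr i)).map (pr n F), u ^ p = 1 := by
  have hab : i.castSucc ≠ i.succ := (Fin.castSucc_lt_succ).ne
  obtain ⟨c, hc1, hc2⟩ : ∃ e : Fin (n + 1), e ≠ i.castSucc ∧ e ≠ i.succ := by
    have h3 : ({i.castSucc, i.succ} : Finset (Fin (n + 1))).card < Fintype.card (Fin (n + 1)) := by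
      rw [Fintype.card_fin]
      have := Finset.card_le_two (a := i.castSucc) (b := i.succ)
      omega
    obtain ⟨e, -, he⟩ := Finset.exists_mem_notMem_of_card_lt_card (s := {i.castSucc, i.succ}) (t := Finset.univ) h3
    rw [Finset.mem_insert, Finset.mem_singleton, not_or] at he
    exact ⟨e, he⟩
  have hinj := ADESL.phi_injective (F := F) hab hc1 hc2
  have hup : ∀ t : F, ADESL.phi hab (SL2Hom.up t) = pr n F (Cfsg.Agent.TitsThree.KSideA.tv i.castSucc i.succ t) :=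
    fun t => congrArg (pr n F) (Cfsg.Agent.OddHalf.NI.ClosedSL.emb_up hab t)
  refine card_exp _ (fun t => ADESL.phi hab (SL2Hom.up t)) ?_ ?_ ?_
  · intro s t hst
    have h1 := hinj hst
    have h2 := congrFun (congrFun (congrArg Subtype.val h1) 0) 1
    simpa [SL2Hom.up] using h2
  · intro s t
    rw [← map_mul]
    congr 1
    apply Subtype.ext
    change (SL2Hom.up (s + t)).1 = (SL2Hom.up s).1 * (SL2Hom.up t).1
    ext i j
    fin_cases i <;> fin_cases j <;> simp [SL2Hom.up, add_comm]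
  · intro u
    rw [X_sr]
    constructor
    · rintro ⟨v, hv, rfl⟩
      obtain ⟨t, rfl⟩ := hv
      exact ⟨t, hup t⟩
    · rintro ⟨t, rfl⟩
      exact ⟨_, tv_mem_XX _ _ t, (hup t).symm⟩

/-- `n = 4`, `q ≡ 1 mod 8` -/
theorem psl_four (hp2 : p ≠ 2) (ho : Odd (Fintype.card F)) (h8 : Fintype.card F % 8 = 1) :
    Row p (Matrix.ProjectiveSpecialLinearGroup (Fin 4) F) := by
  have hs : IsSimpleGroup (Matrix.ProjectiveSpecialLinearGroup (Fin (3 + 1)) F) := S0249.result (3 + 1) (by omega)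
  have N := ADESL.nice (F := F) (p := p) (n := 3) (odd_p hp2) ho (by omega)
  have := N.fin
  refine row_of_nf hp2 N.rgd N.gen fun x φ σ J g H hS hN => ?_
  rcases H286.PADE.p_A3 H (odd_p hp2) (q := Fintype.card F) (fun i => (psl_root (p := p) (by norm_num) i).1)
    (fun i => (psl_root (by norm_num) i).2) h8 Fintype.one_lt_card hS hN with h | h
  · exact Or.inl h
  · exact Or.inr (Or.inr h)

end SL

/-- **Row `PSL_n(q)`, `n ≥ 2`, `q` odd.** -/
theorem row_psl (F : Type) [Field F] [Fintype F] (p : ℕ) [Fact p.Prime] [CharP F p] (ho : Odd (Fintype.card F))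
    {n : ℕ} (hn : 2 ≤ n) : Row p (Matrix.ProjectiveSpecialLinearGroup (Fin n) F) := by
  have hp2 : p ≠ 2 := ADERows.ne_two ho
  have h2 : (2 : F) ≠ 0 := GH.LowRankLie.two_ne_zero_of_odd ho
  rcases (by omega : n = 2 ∨ n = 3 ∨ n = 4 ∨ 5 ≤ n) with rfl | rfl | rfl | hn
  · exact Row.of_rank (Cfsg.Agent.H815.RankL3.rank_psl_two h2)
  · exact Row.of_rank (Cfsg.Agent.H815.RankL3.rank_psl_three h2)
  · by_cases h8 : Fintype.card F % 8 = 1
    · exact psl_four hp2 ho h8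
    · exact Row.of_rank (Cfsg.Agent.H815.RankL4.rank_psl_four ho h8)
  · obtain ⟨m, rfl⟩ : ∃ m, n = m + 1 := ⟨n - 1, by omega⟩
    exact psl_five hp2 ho (by omega)

/-! ### `PΩ⁺_2m(q)` -/

/-- `m ≥ 5` -/
theorem plus_five (F : Type) [Field F] [Fintype F] (p : ℕ) [Fact p.Prime] [CharP F p] (hp2 : p ≠ 2)
    {k : ℕ} (hk : 2 ≤ k) : Row p (POmega F (quadFormPlus (k + 1 + 2) F)) := by
  have hs : IsSimpleGroup (POmega F (quadFormPlus (k + 1 + 2) F)) := S0296.result (k + 1 + 2) (by omega)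
  obtain ⟨T, n, X, N⟩ := ADED.nice_plus F (p := p) (odd_p hp2) k
  have := N.fin
  refine row_of_obs hp2 N.rgd N.gen fun x φ σ J g H => ?_
  let i0 : Fin (k + 1 + 2) := ⟨0, by omega⟩
  let i1 : Fin (k + 1 + 2) := ⟨1, by omega⟩
  let i2 : Fin (k + 1 + 2) := ⟨2, by omega⟩
  let i3 : Fin (k + 1 + 2) := ⟨3, by omega⟩
  have a1 : ∀ i j : Fin (k + 1 + 2), (i : ℕ) + 1 = j → (j : ℕ) < k + 2 →
      Nodes.TypeD.A (k + 1) i j = -1 ∧ Nodes.TypeD.A (k + 1) j i = -1 := by
    intro i j hij hj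
    have hne : i ≠ j := fun e => by rw [e] at hij; omega
    rw [Nodes.TypeD.A_apply, Nodes.TypeD.A_apply, if_neg hne, if_neg hne.symm]
    have h1 : Nodes.TypeD.Adj i j := Or.inl ⟨hj, hij⟩
    rw [if_pos (Or.inl h1), if_pos (Or.inr h1)]
    exact ⟨rfl, rfl⟩
  have a0 : ∀ i j : Fin (k + 1 + 2), (j : ℕ) < 2 → i ≠ j → (i : ℕ) + 1 ≠ j → (j : ℕ) + 1 ≠ i →
      Nodes.TypeD.A (k + 1) i j = 0 := by
    intro i j hj hne h1 h2
    rw [Nodes.TypeD.A_apply, if_neg hne, if_neg]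
    rintro (h | h)
    · rcases h with h | h
      · exact h1 h.2
      · omega
    · rcases h with h | h
      · exact h2 h.2
      · omega
  refine obs_chain (odd_p hp2) H (i0 := i0) (i1 := i1) (i2 := i2) (i3 := i3) ?_ ?_ ?_ ?_ ?_ ?_ ?_ ?_ ?_ ?_ ?_
  · simp [i0, i2, Fin.ext_iff]
  · simp [i1, i3, Fin.ext_iff]
  · simp [i0, i3, Fin.ext_iff]
  · exact (a1 i0 i1 rfl (by simp only [i1]; omega)).1
  · exact (a1 i0 i1 rfl (by simp only [i1]; omega)).2
  · exact (a1 i1 i2 rfl (by simp only [i2]; omega)).1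
  · exact (a1 i1 i2 rfl (by simp only [i2]; omega)).2
  · exact (a1 i2 i3 rfl (by simp only [i3]; omega)).1
  · exact (a1 i2 i3 rfl (by simp only [i3]; omega)).2
  · intro j h0 h1
    have h0' : (j : ℕ) ≠ 0 := fun e => h0 (Fin.ext e)
    have h1' : (j : ℕ) ≠ 1 := fun e => h1 (Fin.ext e)
    exact a0 j i0 (by simp only [i0]; omega) h0 (by simp only [i0]; omega) (by simp only [i0]; omega)
  · intro j h0 h1 h2
    have h0' : (j : ℕ) ≠ 0 := fun e => h0 (Fin.ext e)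
    have h1' : (j : ℕ) ≠ 1 := fun e => h1 (Fin.ext e)
    have h2' : (j : ℕ) ≠ 2 := fun e => h2 (Fin.ext e)
    exact a0 j i1 (by simp only [i1]; omega) h1 (by simp only [i1]; omega) (by simp only [i1]; omega)

section D

open QuadraticMap
open Cfsg.Agent.Tits.Core
open Cfsg.Agent.LieClassical Cfsg.Agent.LieClassical.OrthCore Cfsg.Agent.LieClassical.OrthTrans
open Cfsg.Agent.LieClassical.OrthSimple Cfsg.Agent.LieClassical.OrthFinite Cfsg.Agent.LieClassical.OrthForms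
open Cfsg.Agent.TitsThree Cfsg.Agent.TitsThree.Siegel Cfsg.Agent.TitsThree.SiegelGen
  Cfsg.Agent.TitsThree.WittFrame Cfsg.Agent.TitsThree.WittWeyl Cfsg.Agent.TitsThree.WBridge
  Cfsg.Agent.TitsThree.KSideO
open Cfsg.Agent.Nodes
open Cfsg.Agent.Nodes.WittRoot (Amb XG ZG PG PG_ne PG_self Mono XG_swap)
open Cfsg.Agent.Nodes.WittRGD (Tor mem_Tor b_ne_zero eq_or_ng)
open Cfsg.Agent.Nodes.RGDOrth
open Cfsg.Agent.OddHalf.LongSL Cfsg.Agent.OddHalf.LongSL.OrthPhi Cfsg.Agent.OddHalf.LongSL.Orth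
open Cfsg.Agent.UGT.U2.FOne.ADED (XP rgdP genP longOK_of_frame)

variable {ι : Type} [Fintype ι] [DecidableEq ι] {F : Type} [Field F] [Fintype F] {Q : QuadraticForm F (ι → F)}
  {m : ℕ}

/-- the root groups of the group of type `D_{m+3}` -/
theorem nice_D (hG : Good Q) {p : ℕ} [Fact p.Prime] [CharP F p] (hp2 : Odd p)
    (W : WFrame (PO Q) (m + 1 + 2)) (h0 : ∀ p : (toFrame W).Adm, p = 1) :
    ∃ (T : Subgroup (Cfsg.POmega F ⇑Q)) (n : Fin (m + 1 + 2) → Cfsg.POmega F ⇑Q)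
      (X : (Fin (m + 1 + 2) → ℤ) → Subgroup (Cfsg.POmega F ⇑Q)),
      Nice p (Fintype.card F) (TypeD.M (m + 1)) (TypeD.isCartan (m + 1)) T n X ∧
        ∀ a, IsRoot (TypeD.M (m + 1)).toCoxeterSystem (TypeD.isCartan (m + 1)) a →
          Nat.card (X a) = Fintype.card F ∧ ∀ u ∈ X a, u ^ p = 1 := by
  have hA := amb W (two_ne hp2)
  have hW : Finite (TypeD.M (m + 1)).Group := TypeD.finite_W (TypeD.M (m + 1)).toCoxeterSystem
  have hle : ∀ x, WittRGDD.rg (toFrame W) x ≤ E Q := fun x => iSup_le fun q => by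
    rintro _ ⟨t, rfl⟩; exact hA.X_mem _ _ _
  have hgen : E Q ≤ G1 (TypeD.M (m + 1)).toCoxeterSystem (TypeD.isCartan (m + 1)) (WittRGDD.rg (toFrame W)) := by
    set K := G1 (TypeD.M (m + 1)).toCoxeterSystem (TypeD.isCartan (m + 1)) (WittRGDD.rg (toFrame W)) with hK
    have key : ∀ a b : Fin (m + 1 + 2) × Bool, TypeD.Ok a b → ∀ t, (toFrame W).X a b t ∈ K := by
      intro a b hab t
      obtain ⟨z, hz, ez⟩ := TypeD.rt_of_ok (cs := (TypeD.M (m + 1)).toCoxeterSystem) hab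
      have h1 : XG (toFrame W) a b ≤ K := by
        rw [← WittRGDD.rg_eq (toFrame W) hab ez]
        exact X_le_G1 hz
      exact h1 ⟨t, rfl⟩
    have hkl : (0 : Fin (m + 1 + 2)) ≠ 1 := by simp
    refine E_le_of_contains W (contains_D W 0 1 hkl ?_ ?_ h0)
    · intro i j hij t
      have hne : i ≠ j := fun h => by rw [h] at hij; omega
      exact ⟨key (i, true) (j, false) hne t, key (j, true) (i, false) hne.symm t⟩
    · intro t
      exact ⟨key (0, true) (1, true) hkl t, key (0, false) (1, false) hkl t⟩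
  have hR := WittRGDD.rgd hA hp2 h0 (TypeD.M (m + 1)).toCoxeterSystem
  have hz : ∀ x y : Fin (m + 1 + 2) × Bool, ∃ z : Fin (m + 1 + 2), z ≠ x.1 ∧ z ≠ y.1 := by
    intro x y
    have h3 : ({x.1, y.1} : Finset (Fin (m + 1 + 2))).card < Fintype.card (Fin (m + 1 + 2)) := by
      rw [Fintype.card_fin]
      have := Finset.card_le_two (a := x.1) (b := y.1)
      omega
    obtain ⟨e, -, he⟩ := Finset.exists_mem_notMem_of_card_lt_card (s := {x.1, y.1}) (t := Finset.univ) h3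
    rw [Finset.mem_insert, Finset.mem_singleton, not_or] at he
    exact ⟨e, he⟩
  refine ⟨_, _, XP hG (WittRGDD.rg (toFrame W)), ⟨hW, rgdP hG hW hR (fun x _ => hle x) (fun i => WittRGDD.nn_mem hA i),
    genP hG (fun x _ => hle x) hgen, ?_⟩, ?_⟩
  · intro a ha
    obtain ⟨x, y, hxy, ea⟩ := TypeD.exists_of_isRoot _ ha
    obtain ⟨z, hzx, hzy⟩ := hz x y
    have ea' : TypeD.ee (-a) = TypeC.wt (TypeC.ng y) + TypeC.wt (TypeC.ng x) := by
      rw [TypeD.ee_neg, ea, TypeC.wt_ng, TypeC.wt_ng]; abel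
    refine longOK_of_frame W hG hp2 (odd_card hp2) hW hR (fun x _ => hle x) (fun i => WittRGDD.nn_mem hA i) hgen
      (x := x) (y := y) (z := (z, true)) hxy hzx hzy ha ?_ ?_ (j_mem_Tor W hxy) ?_
    · exact WittRGDD.rg_eq (toFrame W) hxy ea
    · rw [WittRGDD.rg_eq (toFrame W) (a := TypeC.ng y) (b := TypeC.ng x) (Ne.symm hxy) ea']
      rfl
    · intro r hr hra hra'
      obtain ⟨c, d, hcd, er⟩ := TypeD.exists_of_isRoot _ hr
      rw [WittRGDD.rg_eq (toFrame W) hcd er]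
      refine dich_X W hxy hA hcd ?_ ?_ ?_ ?_
      · rintro ⟨rfl, rfl⟩
        exact hra (TypeD.ee_injective (er.trans ea.symm))
      · rintro ⟨rfl, rfl⟩
        exact hra (TypeD.ee_injective (by rw [er, ea]; abel))
      · rintro ⟨rfl, rfl⟩
        exact hra' (TypeD.ee_injective (by rw [er, ea']; exact add_comm _ _))
      · rintro ⟨rfl, rfl⟩
        exact hra' (TypeD.ee_injective (by rw [er, ea']; rfl))
  · intro a ha
    obtain ⟨x, y, hxy, ea⟩ := TypeD.exists_of_isRoot _ ha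
    obtain ⟨z, hzx, hzy⟩ := hz x y
    have hXa : WittRGDD.rg (toFrame W) a = XG (toFrame W) x y := WittRGDD.rg_eq (toFrame W) hxy ea
    have hinj := phiP_injective W hG hxy (z := (z, true)) hzx hzy
    have hu := phiP_u W hG hxy
    refine card_exp _ (fun t => phiP W hG hxy (SLTwoUnipotent.u t)) ?_ ?_ ?_
    · intro s t hst
      have h1 := hinj hst
      have h2 := congrFun (congrFun (congrArg Subtype.val h1) 0) 1
      simpa [SLTwoUnipotent.u] using h2
    · intro s t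
      rw [← map_mul, SLTwoUnipotent.u_add]
    · intro v
      constructor
      · rintro ⟨w, hw, rfl⟩
        have h1 : (w : (ι → F) ≃ₗ[F] (ι → F)) ∈ WittRGDD.rg (toFrame W) a := hw
        rw [hXa] at h1
        obtain ⟨t, ht⟩ := h1
        refine ⟨t, ?_⟩
        rw [hu]
        exact congrArg (toPOmega hG) (Subtype.ext ht.symm)
      · rintro ⟨t, rfl⟩
        rw [hu]
        refine ⟨_, ?_, rfl⟩
        show (toFrame W).X x y t ∈ WittRGDD.rg (toFrame W) a
        rw [hXa]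
        exact ⟨t, rfl⟩

end D

/-- `m = 4` -/
theorem plus_four (F : Type) [Field F] [Fintype F] (p : ℕ) [Fact p.Prime] [CharP F p] (hp2 : p ≠ 2)
    (ho : Odd (Fintype.card F)) : Row p (POmega F (quadFormPlus 4 F)) := by
  have hs : IsSimpleGroup (POmega F (quadFormPlus 4 F)) := S0296.result 4 le_rfl
  have h1 : ∃ (T : Subgroup (POmega F (quadFormPlus (1 + 1 + 2) F)))
      (n : Fin (1 + 1 + 2) → POmega F (quadFormPlus (1 + 1 + 2) F))
      (X : (Fin (1 + 1 + 2) → ℤ) → Subgroup (POmega F (quadFormPlus (1 + 1 + 2) F))),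
      Nice p (Fintype.card F) (Nodes.TypeD.M (1 + 1)) (Nodes.TypeD.isCartan (1 + 1)) T n X ∧
        ∀ a, IsRoot (Nodes.TypeD.M (1 + 1)).toCoxeterSystem (Nodes.TypeD.isCartan (1 + 1)) a →
          Nat.card (X a) = Fintype.card F ∧ ∀ u ∈ X a, u ^ p = 1 := by
    rw [← LieClassical.OrthForms.coe_plusForm]
    have hG : LieClassical.OrthTrans.Good (LieClassical.OrthForms.plusForm (1 + 1 + 2) F) := by
      apply LieClassical.OrthFinite.good_of_finite (LieClassical.OrthForms.nondeg_plusForm (1 + 1 + 2) F)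
      rw [Module.finrank_fintype_fun_eq_card, Fintype.card_sum, Fintype.card_fin]
      omega
    exact nice_D hG (odd_p hp2) (Cfsg.Agent.Nodes.RGDOrth.wplus (1 + 1 + 2) F)
      (Cfsg.Agent.Nodes.RGDOrth.wplus_adm _ F)
  obtain ⟨T, n, X, N, hX⟩ := h1
  have := N.fin
  refine row_of_nf hp2 N.rgd N.gen fun x φ σ J g H hS hN => ?_
  rcases H286.PADE.p_D4 H (odd_p hp2) (q := Fintype.card F) (fun i => (hX _ (isRoot_sr _ _ i)).1)
    (fun i => (hX _ (isRoot_sr _ _ i)).2) ho Fintype.one_lt_card hS hN with h | h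
  · exact Or.inl h
  · exact Or.inr (Or.inr h)

/-- **Row `PΩ⁺_2m(q)`, `m ≥ 4`, `q` odd.** -/
theorem row_plus (F : Type) [Field F] [Fintype F] (p : ℕ) [Fact p.Prime] [CharP F p] (ho : Odd (Fintype.card F))
    {m : ℕ} (hm : 4 ≤ m) : Row p (POmega F (quadFormPlus m F)) := by
  have hp2 : p ≠ 2 := ADERows.ne_two ho
  rcases Nat.eq_or_lt_of_le hm with rfl | hm
  · exact plus_four F p hp2 ho
  · obtain ⟨k, rfl⟩ : ∃ k, m = k + 1 + 2 := ⟨m - 3, by omega⟩
    exact plus_five F p hp2 (by omega)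

end Cfsg.Agent.H783.RowADE
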