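import Cfsg.Agent.H783.RowSpU
import Cfsg.Agent.H783.RowADE
import Cfsg.Agent.UGT.U2.FOne.LongCls
import Cfsg.Agent.H716.RGDAb
import Cfsg.Agent.H107.RLongPSU

/-!
# The data of the root group datum of `PSU₄(q)`, `q` odd (task 1417)

For every Witt frame `W` of dimension `2` in dimension `4` (`V0_bot : W.V0 = ⊥`): `card_short`, `card_long` (orders and
exponents of the root groups), `ZM_eq` (`Z = X` for long roots), `longOK_four`; all together : `exists_data`.
-/

set_option autoImplicit false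
set_option linter.unusedSectionVars false

namespace Cfsg.Agent.H783.UFourData

open Cfsg Cfsg.Agent.LieClassical.HermBasic Cfsg.Agent.LieClassical.HermGen
open Cfsg.Agent.ChevalleyStructure.CoxeterGeom Cfsg.Agent.Tits.Roots Cfsg.Agent.Nodes.TypeC
open Cfsg.Agent.Nodes.Comb Cfsg.Agent.Nodes.Reps Cfsg.Agent.Nodes.WittRoot Cfsg.Agent.Nodes.BNOf
open Cfsg.Agent.Nodes.WittRGD Cfsg.Agent.Nodes.RGDLib Cfsg.Agent.Nodes.WittModel Cfsg.Agent.Nodes.WittU
open Cfsg.Agent.Nodes.WittBlock Cfsg.Agent.Nodes.KindBC Cfsg.Agent.Nodes.TypeCForm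
open Cfsg.Agent.TitsThree Cfsg.Agent.TitsThree.Siegel Cfsg.Agent.TitsThree.SiegelGen
  Cfsg.Agent.TitsThree.WittFrame Cfsg.Agent.TitsThree.WBridge Cfsg.Agent.TitsThree.WittWeyl
  Cfsg.Agent.TitsThree.FrameCN Cfsg.Agent.TitsThree.KSideU Cfsg.Agent.TitsThree.KSideUDesc
open Cfsg.Agent.FixBN.WittNodeA Cfsg.Agent.FixBN.WittNodeB
open Cfsg.Agent.Nodes.ClsWitt Cfsg.Agent.Nodes.Chart
open Cfsg.Agent.UGT.U2.FOne Cfsg.Agent.H783.RowSpU
open Cfsg.Agent.Cit.LongInst (KK card_KK mem_KK odd_KK)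
open Cfsg.Agent.H286.TypeI Cfsg.Agent.H858.UFour

variable {F : Type} [Field F] [Fintype F] {q N : ℕ} (hF : Fintype.card F = q ^ 2) (hN : 3 ≤ N) {m : ℕ}

theorem V0_bot (W : WFrame (PU hF N) m) (h : N = 2 * m) : W.V0 = ⊥ := by
  have h1 := Cfsg.Agent.H716.RGDAb.finrank_V0 (Fr := toFrame W)
  rw [Module.finrank_fintype_fun_eq_card, Fintype.card_fin] at h1
  exact Submodule.finrank_eq_zero.1 (by
    show Module.finrank F ↥(toFrame W).V0 = 0
    omega)

variable {W : WFrame (PU hF N) m} (hW : W.V0 = ⊥)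

include hW

theorem w_zero (s : (toFrame W).Adm) : s.w = 0 := by
  have h := s.ok.1
  rw [hW] at h
  exact (Submodule.mem_bot F).1 h

/-- **`Z = X`** for long roots -/
theorem ZM_eq {r : Fin m → ℤ} (hr : r ∈ LR m) : ZM (KInstU.model hF hN W) r = X (KInstU.model hF hN W) r := by
  obtain ⟨a, e⟩ := hr
  ext k
  rw [mem_ZM _ e, mem_X_long _ e]
  exact ⟨fun ⟨s, _, h⟩ => ⟨s, h⟩, fun ⟨s, h⟩ => ⟨s, w_zero hF hW s, h⟩⟩

/-- the long root groups -/
theorem card_long {p : ℕ} [Fact p.Prime] [CharP F p] {r : Fin m → ℤ} (hr : r ∈ LR m) :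
    Nat.card (X (KInstU.model hF hN W) r) = q ∧ ∀ u ∈ X (KInstU.model hF hN W) r, u ^ p = 1 := by
  obtain ⟨a, e⟩ := hr
  obtain ⟨c0, hc0, hc⟩ := exists_trace_zero_ne hF
  have hσc : c0 ^ q = -c0 := by linear_combination hc
  have hok : ∀ t : KK hF, (toFrame W).ok 0 ((t : F) * c0) := by
    intro t
    refine ⟨W.V0.zero_mem, ?_⟩
    rw [ok_iff, herm_zero_left, mul_pow, mem_KK hF |>.1 t.2, hσc]
    ring
  have : CharP (KK hF) p := inferInstance
  have h := H783.RowADE.card_exp (F := KK hF) (p := p) (X (KInstU.model hF hN W) r)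
    (fun t => (KInstU.model hF hN W).Z a ⟨0, (t : F) * c0, hok t⟩) ?_ ?_ ?_
  · rwa [card_KK] at h
  · intro s t hst
    have h1 := congrArg Frame.Adm.c (Z_inj _ hst)
    exact Subtype.ext (mul_right_cancel₀ hc0 h1)
  · intro s t
    rw [← Z_mul']
    congr 1
    apply Frame.Adm.ext
    · show (0 : Fin N → F) = 0 + 0
      rw [add_zero]
    · rw [Frame.Adm.mul_c]
      show ((s + t : KK hF) : F) * c0 = (s : F) * c0 + (t : F) * c0 - (HU hF N).ε⁻¹ * (HU hF N).h 0 0
      rw [HForm.zero_left]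
      push_cast
      ring
  · intro u
    rw [mem_X_long _ e]
    constructor
    · rintro ⟨s, rfl⟩
      have hs := s.ok
      have hs0 := w_zero hF hW s
      have hs1 := hs.2
      rw [hs0, ok_iff, herm_zero_left, neg_zero] at hs1
      refine ⟨⟨s.c * c0⁻¹, ?_⟩, ?_⟩
      · rw [mem_KK, mul_pow, inv_pow, hσc]
        have h1 : s.c ^ q = -s.c := by linear_combination hs1
        rw [h1]
        field_simp
      · congr 1
        apply Frame.Adm.ext
        · exact hs0.symm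
        · show s.c * c0⁻¹ * c0 = s.c
          field_simp
    · rintro ⟨t, rfl⟩
      exact ⟨_, rfl⟩

omit hW

/-- the short root groups -/
theorem card_short {p : ℕ} [Fact p.Prime] [CharP F p] {a b : Fin m × Bool} (hab : a.1 ≠ b.1) :
    Nat.card (X (KInstU.model hF hN W) (rt a b)) = q ^ 2 ∧ ∀ u ∈ X (KInstU.model hF hN W) (rt a b), u ^ p = 1 := by
  have h := H783.RowADE.card_exp (F := F) (p := p) (X (KInstU.model hF hN W) (rt a b))
    (fun t => Xb hF W a b t) ?_ ?_ ?_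
  · rwa [hF] at h
  · intro s t hst
    have h1 : (KInstU.model hF hN W).X a b (s - t) = 1 := by
      show Xb hF W a b (s - t) = 1
      rw [sub_eq_add_neg, Xb_mul, Xb_neg]
      show Xb hF W a b s * (Xb hF W a b t)⁻¹ = 1
      rw [mul_inv_eq_one]
      exact hst
    exact sub_eq_zero.1 (X_eq_one _ hab h1)
  · intro s t
    exact Xb_mul a b s t
  · intro u
    rw [mem_X_rt hab]
    exact ⟨fun ⟨t, h⟩ => ⟨t, h.symm⟩, fun ⟨t, h⟩ => ⟨t, h.symm⟩⟩

open Cfsg.Agent.Cit.LongAbs Cfsg.Agent.Cit.LongBlock Cfsg.Agent.Cit.LongQuot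
  Cfsg.Agent.Cit.LongMain Cfsg.Agent.Cit.LongModel Cfsg.Agent.Cit.LongLeafEnd

/-- **All data of `PSU₄(q)`**, `q` odd: the root group datum of a Witt frame `W` with `V0 = ⊥`. -/
theorem exists_data (hF : Fintype.card F = q ^ 2) (hq : Odd q) {p : ℕ} [Fact p.Prime] [CharP F p] (hN : 3 ≤ 4)
    [Fintype (CoxeterMatrix.B 2).Group] :
    ∃ (W : WFrame (PU hF 4) 2) (p0 : (toFrame W).Adm), W.V0 = ⊥ ∧ p0.c ≠ 0 ∧ p0.w = 0 ∧
      Cls (CoxeterMatrix.B 2).toCoxeterSystem (isCartan 2) p (T (KInstU.model hF hN W))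
        (nw (KInstU.model hF hN W) (amb_U hF W) p0) (X (KInstU.model hF hN W)) (LR 2) (ZM (KInstU.model hF hN W))
        (zM (KInstU.model hF hN W) (amb_U hF W) p0) ∧
      G1 (CoxeterMatrix.B 2).toCoxeterSystem (isCartan 2) (X (KInstU.model hF hN W)) = ⊤ ∧
      (∀ r ∈ LR 2, ZM (KInstU.model hF hN W) r = X (KInstU.model hF hN W) r) ∧
      (∀ r ∈ LR 2, Nat.card (X (KInstU.model hF hN W) r) = q) ∧
      (∀ a b : Fin 2 × Bool, a.1 ≠ b.1 → Nat.card (X (KInstU.model hF hN W) (rt a b)) = q ^ 2) ∧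
      Nat.card (X (KInstU.model hF hN W) (sr 0)) = q ^ 2 ∧ Nat.card (X (KInstU.model hF hN W) (sr 1)) = q ∧
      (∀ r, IsRoot (CoxeterMatrix.B 2).toCoxeterSystem (isCartan 2) r → ∀ u ∈ X (KInstU.model hF hN W) r, u ^ p = 1) ∧
      ∀ r ∈ LR 2, LongOK q (X (KInstU.model hF hN W)) r := by
  have hFo : Odd (Fintype.card F) := odd_card hF hq
  have hp2 : p ≠ 2 := ne_two hFo
  have hpo : Odd p := (Fact.out : p.Prime).odd_of_ne_two hp2
  have h2 : (2 : F) ≠ 0 := Cfsg.Agent.OddHalf.LongSL.two_ne_of_odd hFo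
  have hfin : Finite (CoxeterMatrix.B 2).Group := finite_W (CoxeterMatrix.B 2).toCoxeterSystem
  have : Finite (PSU 4 F q) := Quotient.finite _
  obtain ⟨W, hB⟩ := exists_wframe (N := 4) (m := 2) hF (Or.inl rfl)
  obtain ⟨p0, hp0, hw0⟩ := exists_adm hF W
  have hW : W.V0 = ⊥ := V0_bot hF W rfl
  have C := cls_model (KInstU.model hF hN W) (amb_U hF W) hp0 hw0 hpo (CoxeterMatrix.B 2).toCoxeterSystem
  have hG := Nodes.WittModel.G1_eq_top (KInstU.model hF hN W) (by norm_num) (CoxeterMatrix.B 2).toCoxeterSystem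
  have hnx : nx (0 : Fin 2) = (1, false) := by
    unfold nx
    rw [dif_pos (by norm_num)]
    rfl
  have hnx1 : nx (1 : Fin 2) = (1, true) := by
    unfold nx
    rw [dif_neg (by norm_num)]
  have r0 : sr (0 : Fin 2) = rt (0, true) (1, false) := by rw [sr_eq_rt, hnx]
  have r1 : sr (1 : Fin 2) = rt (1, true) (1, true) := by rw [sr_eq_rt, hnx1]
  have hcard : Fintype.card (KK hF) = q := card_KK hF
  refine ⟨W, p0, hW, hp0, hw0, C, hG, fun r hr => ZM_eq hF hN hW hr, fun r hr => (card_long hF hN hW (p := p) hr).1,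
    fun a b hab => (card_short hF hN (p := p) hab).1, ?_, ?_, ?_, ?_⟩
  · rw [r0]
    exact (card_short hF hN (p := p) (by decide)).1
  · rw [r1]
    exact (card_long hF hN hW (p := p) (rt_LR _)).1
  · intro r hr
    obtain ⟨a, b, hab, e⟩ := exists_of_isRoot _ hr
    have er : r = rt a b := ee_injective (by rw [e, ee_rt])
    rcases hab with hab | rfl
    · rw [er]
      exact (card_short hF hN hab).2
    · exact (card_long hF hN hW ⟨a, e⟩).2
  · -- `LongOK`
    obtain ⟨x, hx⟩ := exists_long (CoxeterMatrix.B 2).toCoxeterSystem ((0 : Fin 2), true)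
    have hxL : x ∈ LR 2 := ⟨_, hx⟩
    have hxL' : -x ∈ LR 2 := ⟨ng (0, true), by rw [ee_neg, hx, wt_ng]; abel⟩
    have hl : LongOK q (X (KInstU.model hF hN W)) x := by
      have h := longOK_of_cls C Fact.out hpo hG hxL hxL' (ZM_eq hF hN hW hxL) (ZM_eq hF hN hW hxL') (F := KK hF)
        (odd_KK hF hFo) ?_ (MonoidHom.id _) Function.surjective_id (by rw [MonoidHom.ker_id]; exact bot_le) ?_
      · rw [hcard] at h
        simpa only [Subgroup.map_id] using h
      · rw [sup_ZM_U hF hN W hB h2 0 (r := (Cit.LongInst.ee 2).symm (Sum.inl 0))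
          (s := (Cit.LongInst.ee 2).symm (Sum.inl 1)) (by rfl) (by rfl) hx, ← D1_su hF 2 (by norm_num)]
        obtain ⟨e1⟩ := (Cit.LongInst.suRep_model hF 2 (by norm_num)).toW.equiv1
        obtain ⟨e2⟩ := Cit.LongInst.un2_equiv hF
        exact ⟨(e1.trans e2).symm.trans (D1Equiv (Cit.LongInst.suRep hF 2 (by norm_num)))⟩
      · exact H107.RL.zM_ne_one (KInstU.model hF hN W) (amb_U hF W) h2 le_rfl hp0 hw0 hx
    intro r hr
    obtain ⟨w, rfl⟩ := Nodes.ChartTypeC.trans (CoxeterMatrix.B 2).toCoxeterSystem hxL hr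
    exact LongOK.act C.rgd (C.root x hxL) hl w

end Cfsg.Agent.H783.UFourData
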