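import Cfsg.Agent.H783.RowADE
import Cfsg.Agent.H783.RowSpU
import Cfsg.Agent.H783.UFourData
import Cfsg.Agent.H286.PU4
import Cfsg.Agent.H62.OrthRows
import Cfsg.Agent.H528.OddExc
import Cfsg.Agent.H815.RankG2
import Cfsg.Agent.H815.RankL4Inst
import Cfsg.Prelude.Def_LieTypeChar

/-!
# `Row` for all simple groups of Lie type of odd characteristic
-/

set_option autoImplicit false
set_option linter.unusedSectionVars false

namespace Cfsg.Agent.H783.RowAll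

open Cfsg Cfsg.Agent.LieClassical.HermBasic Cfsg.Agent.LieClassical.HermGen
open Cfsg.Agent.ChevalleyStructure.CoxeterGeom Cfsg.Agent.Tits.Roots Cfsg.Agent.Nodes.TypeC
open Cfsg.Agent.Nodes.Comb Cfsg.Agent.Nodes.Reps Cfsg.Agent.Nodes.WittRoot Cfsg.Agent.Nodes.BNOf
open Cfsg.Agent.Nodes.WittRGD Cfsg.Agent.Nodes.RGDLib Cfsg.Agent.Nodes.WittModel Cfsg.Agent.Nodes.WittU
open Cfsg.Agent.TitsThree Cfsg.Agent.TitsThree.Siegel Cfsg.Agent.TitsThree.SiegelGen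
  Cfsg.Agent.TitsThree.WittFrame Cfsg.Agent.TitsThree.WBridge Cfsg.Agent.TitsThree.WittWeyl
  Cfsg.Agent.TitsThree.FrameCN Cfsg.Agent.TitsThree.KSideU Cfsg.Agent.TitsThree.KSideUDesc
open Cfsg.Agent.Nodes.ClsWitt Cfsg.Agent.Nodes.Chart
open Cfsg.Agent.UGT.U2.FOne Cfsg.Agent.H286.Obs Cfsg.Agent.H286.Row Cfsg.Agent.H286.RowOf Cfsg.Agent.H783.RowSpU

section Congr

variable {I W Y : Type*} [Fintype I] [DecidableEq I] [Group W] [Fintype W] [Group Y] {M : CoxeterMatrix I}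
  {cs : CoxeterSystem M W} {A : I → I → ℤ} {h : IsCartan M A} {p : ℕ} {T : Subgroup Y} {n : I → Y}
  {X : (I → ℤ) → Subgroup Y} {R : Set (I → ℤ)} {Z Z' : (I → ℤ) → Subgroup Y} {z : (I → ℤ) → Y}

/-- `Cls` depends on `Z r`, `r ∈ R`, only. -/
theorem cls_congr (C : Cls cs h p T n X R Z z) (hZ : ∀ r ∈ R, Z r = Z' r) (hneg : ∀ r ∈ R, -r ∈ R) :
    Cls cs h p T n X R Z' z where
  rgd := C.rgd
  root := C.root
  act := C.act
  le r hr := by rw [← hZ r hr]; exact C.le r hr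
  ne_bot r hr := by rw [← hZ r hr]; exact C.ne_bot r hr
  conj i r hr := by rw [← hZ r hr, ← hZ _ (C.act r hr _)]; exact C.conj i r hr
  tor r hr := by rw [← hZ r hr]; exact C.tor r hr
  cent r hr := by rw [← hZ r hr]; exact C.cent r hr
  notp r hr := by rw [← hZ r hr, ← hZ _ (hneg r hr)]; exact C.notp r hr
  z_mem r hr := by rw [← hZ r hr, ← hZ _ (hneg r hr)]; exact C.z_mem r hr
  z_torus := C.z_torus
  z_T := C.z_T
  z_sq := C.z_sq
  z_conj := C.z_conj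
  z_neg := C.z_neg
  z_cent r hr := by rw [← hZ r hr]; exact C.z_cent r hr
  z_inv := C.z_inv
  z_inv_self r hr := by rw [← hZ r hr]; exact C.z_inv_self r hr

end Congr

section Unitary

variable {F : Type} [Field F] [Fintype F] {q : ℕ} (hF : Fintype.card F = q ^ 2)

include hF in
/-- **Row of `PSU₄(q)`**, `q` odd. -/
theorem row_psu_four (p : ℕ) [Fact p.Prime] [CharP F p] (hq : Odd q) : Row p (PSU 4 F q) := by
  by_cases h8 : q % 8 = 7
  swap
  · exact Row.of_rank (Cfsg.Agent.H815.RankL4.rank_psu_four hF hq h8)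
  have ho := odd_card hF hq
  have hp2 : p ≠ 2 := ne_two ho
  have hpo : Odd p := (Fact.out : p.Prime).odd_of_ne_two hp2
  have hN3 : 3 ≤ 4 := by omega
  have hfin : Finite (CoxeterMatrix.B 2).Group := finite_W (CoxeterMatrix.B 2).toCoxeterSystem
  have : Fintype (CoxeterMatrix.B 2).Group := Fintype.ofFinite _
  have hs := simple_U hF hN3 hq
  have : Finite (PSU 4 F q) := Quotient.finite _
  obtain ⟨W, p0, hW, hp0, hw0, C, hG, hZ, hcl, hcs, hc0, hc1, hexp, hlong⟩ :=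
    Cfsg.Agent.H783.UFourData.exists_data hF hq (p := p) hN3
  have C' := cls_congr C hZ fun r ⟨a, e⟩ => ⟨ng a, by rw [ee_neg, e, wt_ng]; abel⟩
  have h1L : (sr 1 : Fin 2 → ℤ) ∈ LR 2 := by
    have e1 : (sr 1 : Fin 2 → ℤ) = ![0, 1] := by decide +kernel
    rw [e1]
    exact Cfsg.Agent.H286.PU4.mem2
  refine row_of_nf hp2 C.rgd hG fun x φ σ J g Nf hS hN => ?_
  have h1 : 1 < q := by omega
  obtain ⟨-, -, -, -, -, h5⟩ := hlong _ h1L
  rcases Cfsg.Agent.H286.PU4.p_U4 Nf C' hpo hc0 hc1 (fun i => hexp _ (isRoot_sr _ _ i))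
    (Cfsg.Agent.H286.PU4.UInv.of_isSL2 h5) h1 h8 hS hN
    (fun hσ => Cfsg.Agent.H858.UFour.zero_notMem ho hW Nf hσ) with h6 | h6
  · exact Or.inl h6
  · exact Or.inr (Or.inr h6)

end Unitary

/-- **Row of all simple groups of Lie type of odd characteristic.** -/
theorem row_lie.{u} {K : Type u} [Group K] [Finite K] [IsSimpleGroup K] {p : ℕ} [Fact p.Prime] (hp : p ≠ 2)
    (h : Cfsg.IsLieTypeChar p K) : Row p K := by
  have hoc : ∀ (F : Type) [Field F] [Fintype F] [CharP F p], Odd (Fintype.card F) := fun F _ _ _ =>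
    Cfsg.Agent.H62.OrthRows.odd_card hp
  have tr : ∀ {L : Type} [Group L], (K ≃* L) → Row p L → Row p K := fun e h => by
    have := Finite.of_equiv K e.toEquiv
    exact Row.of_equiv e.symm h
  rcases h with ⟨F, i1, i2, i3, n, hn, hn2, ⟨e⟩⟩ | ⟨F, i1, i2, i3, m, hm, hm2, ⟨e⟩⟩ |
    ⟨F, i1, i2, i3, n, q, hF, hn, hn2, ⟨e⟩⟩ | h | ⟨F, i1, i2, i3, m, hm, ⟨e⟩⟩ | h |
    ⟨F, i1, i2, i3, h⟩ | ⟨F, i1, i2, i3, q, hq, h⟩ | ⟨rfl, -⟩ | ⟨rfl, -⟩ | ⟨-, h⟩
  · exact tr e (Cfsg.Agent.H783.RowADE.row_psl F p (hoc F) hn)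
  · exact tr e (row_psp F p (hoc F) hm)
  · have hqo : Odd q := by
      have h1 := hoc F
      rw [hF] at h1
      exact (Nat.odd_pow_iff (by norm_num)).1 h1
    rcases (by omega : n = 4 ∨ n = 3 ∨ 5 ≤ n) with rfl | h4
    · exact tr e (row_psu_four hF p hqo)
    · exact tr e (row_psu hF p hqo h4)
  · exact Cfsg.Agent.H62.OrthRows.row_isPOmegaOddChar hp h
  · exact tr e (Cfsg.Agent.H783.RowADE.row_plus F p (hoc F) hm)
  · exact Cfsg.Agent.H62.OrthRows.row_isPOmegaMinusChar hp h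
  · rcases h with ⟨h3, ⟨e⟩⟩ | ⟨⟨e⟩⟩ | ⟨⟨e⟩⟩ | ⟨⟨e⟩⟩ | ⟨⟨e⟩⟩
    · exact tr e (Row.of_rank (Cfsg.Agent.H815.RankG2.rank_g2 (hoc F)))
    · exact tr e (Cfsg.Agent.H528.OddExc.row_f4 F p (hoc F))
    · exact tr e (Cfsg.Agent.H528.OddExc.row_e6 F p (hoc F))
    · exact tr e (Cfsg.Agent.H528.OddExc.row_e7 F p (hoc F))
    · exact tr e (Cfsg.Agent.H528.OddExc.row_e8 F p (hoc F))
  · rcases h with ⟨hK, ⟨e⟩⟩ | ⟨hK, ⟨e⟩⟩
    · have hqo : Odd q := by
        have h1 := hoc F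
        rw [hK] at h1
        exact (Nat.odd_pow_iff (by norm_num)).1 h1
      exact tr e (Cfsg.Agent.H528.OddExc.row_twE6 F p q hq hqo hK)
    · have hqo : Odd q := by
        have h1 := hoc F
        rw [hK] at h1
        exact (Nat.odd_pow_iff (by norm_num)).1 h1
      exact tr e (Row.of_rank (Cfsg.Agent.H815.RankG2.rank_d4 hqo hK))
  · exact absurd rfl hp
  · exact absurd rfl hp
  · exact Row.of_rank (Cfsg.Agent.H815.RankG2.rank_ree h)

end Cfsg.Agent.H783.RowAll
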