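import Cfsg.Agent.H321.Ker.Base
import Cfsg.Agent.LieClassical.HermBasic

/-!
# S2187, kernel row: the normal form of a Heisenberg pair

`normalForm`, `normalFormU` : `a b = ζ b a`, `a ^ p`, `b ^ p` scalar, `ζ ≠ 1`: modulo scalars, and up to conjugation (in the
unitary group), `⟨a, b⟩` contains `diag(1, ζ', …)` and the weighted shift.
-/

set_option autoImplicit false

namespace Cfsg.Agent.H783.NormF

open Cfsg Cfsg.Geo
open Cfsg.Agent.H321.Ker
open Cfsg.Agent.LieClassical.HermBasic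
open scoped MatrixGroups Matrix

/-! ### Heisenberg pairs in a group -/

section Grp

variable {Γ : Type*} [Group Γ] {C : Type*} [CommGroup C]

theorem pow_comm_heis (s : C →* Γ) (hs : ∀ c g, s c * g = g * s c) {x y : Γ} {η : C}
    (h : y * x = s η * (x * y)) (n : ℕ) : y ^ n * x = s (η ^ n) * (x * y ^ n) := by
  induction n with
  | zero => simp
  | succ n ih =>
    rw [pow_succ', mul_assoc, ih, ← mul_assoc, ← hs, mul_assoc, ← mul_assoc y x, h, mul_assoc, mul_assoc,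
      ← mul_assoc (s _) (s _), ← map_mul, ← pow_succ, ← pow_succ']

theorem comm_pow_heis (s : C →* Γ) (hs : ∀ c g, s c * g = g * s c) {x y : Γ} {η : C}
    (h : y * x = s η * (x * y)) (n : ℕ) : y * x ^ n = s (η ^ n) * (x ^ n * y) := by
  induction n with
  | zero => simp
  | succ n ih =>
    rw [pow_succ, ← mul_assoc, ih, mul_assoc, mul_assoc, h, ← mul_assoc (x ^ n), ← hs, mul_assoc, ← mul_assoc (s _) (s _),
      ← map_mul, ← pow_succ]
    simp only [mul_assoc]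

theorem mul_pow_heis (s : C →* Γ) (hs : ∀ c g, s c * g = g * s c) {x y : Γ} {η : C}
    (h : y * x = s η * (x * y)) (n : ℕ) : (x * y) ^ n = s (η ^ (n.choose 2)) * (x ^ n * y ^ n) := by
  induction n with
  | zero => simp
  | succ n ih =>
    rw [pow_succ, ih]
    calc s (η ^ n.choose 2) * (x ^ n * y ^ n) * (x * y) = s (η ^ n.choose 2) * (x ^ n * (y ^ n * x) * y) := by
          simp only [mul_assoc]
      _ = s (η ^ n.choose 2) * ((x ^ n * s (η ^ n)) * (x * y ^ n) * y) := by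
          rw [pow_comm_heis s hs h]; simp only [mul_assoc]
      _ = (s (η ^ n.choose 2) * s (η ^ n)) * (x ^ (n + 1) * y ^ (n + 1)) := by
          rw [← hs, pow_succ, pow_succ]; simp only [mul_assoc]
      _ = s (η ^ ((n + 1).choose 2)) * (x ^ (n + 1) * y ^ (n + 1)) := by
          rw [← map_mul, ← pow_add]
          congr 3
          rw [Nat.choose_succ_succ' n 1, Nat.choose_one_right, add_comm]

end Grp

/-! ### `p`-th powers in a cyclic group -/

theorem exists_pow_mul {C : Type*} [CommGroup C] [Finite C] [IsCyclic C] {p : ℕ} [hp : Fact p.Prime]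
    (hdvd : p ∣ Nat.card C) {α : C} (hα : ∀ x : C, x ^ p ≠ α) (β : C) : ∃ (j : ℕ) (γ : C), α ^ j * β = γ ^ p := by
  let R : Subgroup C := (powMonoidHom p : C →* C).range
  have h1 : Nat.card (powMonoidHom p : C →* C).ker = p := by
    rw [IsCyclic.card_powMonoidHom_ker]
    exact Nat.gcd_eq_right hdvd
  have h2 : Nat.card (C ⧸ R) = p := by
    have a1 := Subgroup.card_eq_card_quotient_mul_card_subgroup R
    have a2 := Subgroup.card_eq_card_quotient_mul_card_subgroup (powMonoidHom p : C →* C).ker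
    rw [h1, Nat.card_congr (QuotientGroup.quotientKerEquivRange (powMonoidHom p : C →* C)).toEquiv] at a2
    have a3 : 0 < Nat.card R := Nat.card_pos
    have a4 : Nat.card (C ⧸ R) * Nat.card R = p * Nat.card R := by
      rw [← a1, a2, mul_comm]
    exact Nat.eq_of_mul_eq_mul_right a3 a4
  have h3 : (QuotientGroup.mk' R) α ≠ 1 := by
    intro h
    have : α ∈ R := (QuotientGroup.eq_one_iff α).1 h
    obtain ⟨x, hx⟩ := this
    exact hα x hx
  obtain ⟨j, hj⟩ := mem_powers_of_prime_card (g' := (QuotientGroup.mk' R) β⁻¹) h2 h3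
  refine ⟨j, ?_⟩
  have h4 : (QuotientGroup.mk' R) (α ^ j * β) = 1 := by
    have hj' : (QuotientGroup.mk' R) α ^ j = (QuotientGroup.mk' R) β⁻¹ := hj
    rw [map_mul, map_pow, hj', ← map_mul, inv_mul_cancel, map_one]
  have h5 : α ^ j * β ∈ R := (QuotientGroup.eq_one_iff _).1 h4
  obtain ⟨x, hx⟩ := h5
  exact ⟨x, hx.symm⟩

/-- After a change of generators, `a ^ p` is a `p`-th power of a scalar. -/
theorem replace {Γ : Type*} [Group Γ] {C : Type*} [CommGroup C] [Finite C] [IsCyclic C] {p : ℕ} [hp : Fact p.Prime]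
    (h2 : p ≠ 2) (s : C →* Γ) (hinj : Function.Injective s) (hs : ∀ c g, s c * g = g * s c) {a b : Γ} {ζ α β : C} (hζ : ζ ≠ 1)
    (hab : a * b = s ζ * (b * a)) (ha : a ^ p = s α) (hb : b ^ p = s β) :
    ∃ (a' b' : Γ) (ζ' γ β' : C), a' ∈ Subgroup.closure {a, b} ∧ b' ∈ Subgroup.closure {a, b} ∧ ζ' ≠ 1 ∧ ζ' ^ p = 1 ∧
      (ζ' = ζ ∨ ζ' = ζ⁻¹) ∧
      a' * b' = s ζ' * (b' * a') ∧ a' ^ p = s (γ ^ p) ∧ b' ^ p = s β' := by
  have hζp : ζ ^ p = 1 := by
    have h := pow_comm_heis s hs hab p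
    rw [ha, hs] at h
    have h3 : s (ζ ^ p) = 1 := mul_eq_right.1 h.symm
    exact hinj (by rw [h3, map_one])
  have hamem : a ∈ Subgroup.closure {a, b} := Subgroup.subset_closure (by simp)
  have hbmem : b ∈ Subgroup.closure {a, b} := Subgroup.subset_closure (by simp)
  by_cases hα : ∃ x : C, x ^ p = α
  · obtain ⟨γ, rfl⟩ := hα
    exact ⟨a, b, ζ, γ, β, hamem, hbmem, hζ, hζp, Or.inl rfl, hab, ha, hb⟩
  · push Not at hα
    have hord : orderOf ζ = p := orderOf_eq_prime hζp hζ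
    have hdvd : p ∣ Nat.card C := by rw [← hord]; exact orderOf_dvd_natCard ζ
    obtain ⟨j, γ, hγ⟩ := exists_pow_mul hdvd hα β
    have hba : b * a = s ζ⁻¹ * (a * b) := by
      rw [hab, ← mul_assoc, ← map_mul, inv_mul_cancel, map_one, one_mul]
    have hbaj : b * a ^ j = s ((ζ⁻¹) ^ j) * (a ^ j * b) := comm_pow_heis s hs hba j
    refine ⟨a ^ j * b, a, ζ⁻¹, γ, α, mul_mem (pow_mem hamem j) hbmem, hamem, by simpa using hζ, by simp [hζp], Or.inr rfl, ?_, ?_, ha⟩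
    · rw [mul_assoc, hba, ← mul_assoc (a ^ j), ← hs, mul_assoc, ← mul_assoc (a ^ j), ← pow_succ, ← mul_assoc a, ← pow_succ']
    · rw [mul_pow_heis s hs hbaj p]
      have h3 : p ∣ p.choose 2 := hp.out.dvd_choose_self (by norm_num) (by
        have := hp.out.two_le
        omega)
      obtain ⟨m, hm⟩ := h3
      have h4 : ((ζ⁻¹) ^ j) ^ (p.choose 2) = 1 := by
        rw [hm, ← pow_mul, mul_comm p m, ← mul_assoc, pow_mul, inv_pow, inv_pow]
        rw [← pow_mul, mul_comm, pow_mul, hζp, one_pow, inv_one]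
      rw [h4, map_one, one_mul, ← pow_mul, mul_comm j p, pow_mul, ha, hb, ← map_pow, ← map_mul, hγ]

/-! ### Eigenvectors -/

section Lin

variable {p : ℕ} [hp : Fact p.Prime] {F : Type*} [Field F]

theorem exists_eig {A : Matrix (Fin p) (Fin p) F} {ζ : F} (hζ : IsPrimitiveRoot ζ p) (hA : A ^ p = 1) :
    ∃ (i : ℕ) (w : Fin p → F), w ≠ 0 ∧ A *ᵥ w = ζ ^ i • w := by
  have hp0 : 0 < p := hp.out.pos
  have : NeZero p := ⟨hp0.ne'⟩
  let f : Module.End F (Fin p → F) := Matrix.toLin' A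
  have hf : f ^ p = 1 := by
    change (Matrix.toLin' A) ^ p = 1
    rw [← Matrix.toLin'_pow, hA, Matrix.toLin'_one]
    rfl
  have hd : minpoly F f ∣ (Polynomial.X ^ p - 1) := by
    refine minpoly.dvd F f ?_
    rw [map_sub, map_pow, Polynomial.aeval_X, map_one, hf, sub_self]
  have hsp : (Polynomial.X ^ p - 1 : Polynomial F).Splits := by
    have := Polynomial.X_pow_sub_one_splits hζ
    simpa using this
  have hne : (Polynomial.X ^ p - 1 : Polynomial F) ≠ 0 := Polynomial.X_pow_sub_C_ne_zero hp0 1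
  have hsp2 : (minpoly F f).Splits := hsp.of_dvd hne hd
  have hdeg : (minpoly F f).degree ≠ 0 := by
    have h1 : IsIntegral F f := Algebra.IsIntegral.isIntegral f
    exact (minpoly.degree_pos h1).ne'
  obtain ⟨μ, hμ⟩ := hsp2.exists_eval_eq_zero hdeg
  have hroot : (minpoly F f).IsRoot μ := hμ
  obtain ⟨w, hw⟩ := (Module.End.hasEigenvalue_of_isRoot hroot).exists_hasEigenvector
  have hμp : μ ^ p = 1 := by
    have h1 := hroot.dvd hd
    have h2 : (Polynomial.X ^ p - 1 : Polynomial F).eval μ = 0 := h1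
    rw [Polynomial.eval_sub, Polynomial.eval_pow, Polynomial.eval_X, Polynomial.eval_one] at h2
    exact sub_eq_zero.1 h2
  obtain ⟨i, -, hi⟩ := hζ.eq_pow_of_pow_eq_one hμp
  refine ⟨i, w, hw.2, ?_⟩
  have h3 := hw.apply_eq_smul
  rw [hi, ← h3]
  exact (Matrix.toLin'_apply A w).symm

omit hp in
theorem mulVec_pow_eig {A B : Matrix (Fin p) (Fin p) F} {ζ μ : F} (hab : A * B = ζ • (B * A)) {v : Fin p → F}
    (hAv : A *ᵥ v = μ • v) (k : ℕ) : A *ᵥ (B ^ k *ᵥ v) = (ζ ^ k * μ) • (B ^ k *ᵥ v) := by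
  induction k with
  | zero => simp [hAv]
  | succ k ih =>
    rw [pow_succ', ← Matrix.mulVec_mulVec, Matrix.mulVec_mulVec _ A B, hab, Matrix.smul_mulVec, ← Matrix.mulVec_mulVec, ih,
      Matrix.mulVec_smul, smul_smul, pow_succ']
    congr 1
    ring

/-- `a ^ p = 1`: a fixed vector. -/
theorem exists_fix {A B : GL (Fin p) F} {ζ : Fˣ} (hζ1 : ζ ≠ 1) (hζp : ζ ^ p = 1)
    (hab : (A : Matrix (Fin p) (Fin p) F) * B = (ζ : F) • ((B : Matrix (Fin p) (Fin p) F) * A))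
    (hA : (A : Matrix (Fin p) (Fin p) F) ^ p = 1) :
    ∃ v : Fin p → F, v ≠ 0 ∧ (A : Matrix (Fin p) (Fin p) F) *ᵥ v = v := by
  have hζ : IsPrimitiveRoot (ζ : F) p := by
    have h1 : orderOf ζ = p := orderOf_eq_prime hζp hζ1
    have h2 : IsPrimitiveRoot ζ p := by rw [← h1]; exact IsPrimitiveRoot.orderOf ζ
    exact h2.map_of_injective (f := Units.coeHom F) Units.val_injective
  obtain ⟨i, w, hw, hAw⟩ := exists_eig hζ hA
  obtain ⟨k, hk⟩ : ∃ k : ℕ, (ζ : F) ^ k * (ζ : F) ^ i = 1 := by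
    refine ⟨p * i - i, ?_⟩
    have h1 : i ≤ p * i := Nat.le_mul_of_pos_left i hp.out.pos
    rw [← pow_add, Nat.sub_add_cancel h1, pow_mul, hζ.pow_eq_one, one_pow]
  refine ⟨(B : Matrix (Fin p) (Fin p) F) ^ k *ᵥ w, ?_, ?_⟩
  · intro h
    apply hw
    have h1 : ((B ^ k : GL (Fin p) F)⁻¹ : GL (Fin p) F).1 *ᵥ ((B : Matrix (Fin p) (Fin p) F) ^ k *ᵥ w) = w := by
      rw [← Units.val_pow_eq_pow_val, Matrix.mulVec_mulVec, Units.inv_mul, Matrix.one_mulVec]
    rw [← h1, h, Matrix.mulVec_zero]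
  · rw [mulVec_pow_eig hab hAw, hk, one_smul]

theorem core {A B : GL (Fin p) F} {ζ β : Fˣ} (hζ1 : ζ ≠ 1) (hζp : ζ ^ p = 1)
    (hab : (A : Matrix (Fin p) (Fin p) F) * B = (ζ : F) • ((B : Matrix (Fin p) (Fin p) F) * A))
    (hB : (B : Matrix (Fin p) (Fin p) F) ^ p = (β : F) • 1) {v : Fin p → F} (hv : v ≠ 0)
    (hAv : (A : Matrix (Fin p) (Fin p) F) *ᵥ v = v) :
    ∃ P : GL (Fin p) F, (∀ i j : Fin p, (P : Matrix (Fin p) (Fin p) F) i j = ((B : Matrix (Fin p) (Fin p) F) ^ (j : ℕ) *ᵥ v) i) ∧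
      P * Dm p ζ * P⁻¹ = A ∧ P * Bm p β * P⁻¹ = B := by
  have hζord : orderOf ζ = p := orderOf_eq_prime hζp hζ1
  have hAv' : (A : Matrix (Fin p) (Fin p) F) *ᵥ v = (1 : F) • v := by rw [hAv, one_smul]
  have hk : ∀ k : ℕ, (A : Matrix (Fin p) (Fin p) F) *ᵥ ((B : Matrix (Fin p) (Fin p) F) ^ k *ᵥ v) =
      ((ζ : F) ^ k) • ((B : Matrix (Fin p) (Fin p) F) ^ k *ᵥ v) := by
    intro k
    rw [mulVec_pow_eig hab hAv', mul_one]
  have hne : ∀ k : ℕ, (B : Matrix (Fin p) (Fin p) F) ^ k *ᵥ v ≠ 0 := by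
    intro k h
    apply hv
    have h1 : ((B ^ k : GL (Fin p) F)⁻¹ : GL (Fin p) F).1 *ᵥ ((B : Matrix (Fin p) (Fin p) F) ^ k *ᵥ v) = v := by
      rw [← Units.val_pow_eq_pow_val, Matrix.mulVec_mulVec, Units.inv_mul, Matrix.one_mulVec]
    rw [← h1, h, Matrix.mulVec_zero]
  have hinj : Function.Injective (fun i : Fin p => (ζ : F) ^ (i : ℕ)) := by
    intro i j hij
    refine Fin.ext ?_
    have h1 : ζ ^ (i : ℕ) = ζ ^ (j : ℕ) := Units.ext (by simpa using hij)
    exact pow_injOn_Iio_orderOf (by rw [hζord]; exact i.2) (by rw [hζord]; exact j.2) h1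
  have hli : LinearIndependent F (fun j : Fin p => (B : Matrix (Fin p) (Fin p) F) ^ (j : ℕ) *ᵥ v) := by
    refine Module.End.eigenvectors_linearIndependent' (Matrix.toLin' (A : Matrix (Fin p) (Fin p) F))
      (fun i : Fin p => (ζ : F) ^ (i : ℕ)) hinj _ fun i => ?_
    rw [Module.End.hasEigenvector_iff, Module.End.mem_eigenspace_iff]
    exact ⟨by rw [Matrix.toLin'_apply]; exact hk i, hne i⟩
  let P₀ : Matrix (Fin p) (Fin p) F := Matrix.of fun i j => ((B : Matrix (Fin p) (Fin p) F) ^ (j : ℕ) *ᵥ v) i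
  have hcol : P₀.col = fun j : Fin p => (B : Matrix (Fin p) (Fin p) F) ^ (j : ℕ) *ᵥ v := by
    funext j i
    rfl
  have hu : IsUnit P₀ := by
    rw [← Matrix.linearIndependent_cols_iff_isUnit, hcol]
    exact hli
  have hval : ((hu.unit : GL (Fin p) F) : Matrix (Fin p) (Fin p) F) = P₀ := hu.unit_spec
  refine ⟨hu.unit, fun i j => by rw [hval]; rfl, ?_, ?_⟩
  · symm
    rw [eq_mul_inv_iff_mul_eq]
    refine Units.ext ?_
    rw [Units.val_mul, Units.val_mul, hval]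
    ext i j
    have h1 := congrFun (hk j) i
    change ((A : Matrix (Fin p) (Fin p) F) * P₀) i j = (P₀ * Matrix.diagonal fun i : Fin p => ((ζ ^ (i : ℕ) : Fˣ) : F)) i j
    rw [Matrix.mul_diagonal, Units.val_pow_eq_pow_val, mul_comm]
    exact h1
  · symm
    rw [eq_mul_inv_iff_mul_eq]
    refine Units.ext ?_
    rw [Units.val_mul, Units.val_mul, hval]
    ext i j
    change ((B : Matrix (Fin p) (Fin p) F) * P₀) i j =
      (P₀ * Matrix.of fun i j : Fin p => if i = j + 1 then (if i = 0 then (β : F) else 1) else 0) i j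
    have h1 : ((B : Matrix (Fin p) (Fin p) F) * P₀) i j = ((B : Matrix (Fin p) (Fin p) F) ^ ((j : ℕ) + 1) *ᵥ v) i := by
      rw [pow_succ', ← Matrix.mulVec_mulVec]
      rfl
    rw [h1, Matrix.mul_apply, Finset.sum_eq_single (j + 1)]
    · rw [Matrix.of_apply, if_pos rfl]
      split_ifs with h0
      · have h2 : (j : ℕ) + 1 = p := by
          have h3 : ((j + 1 : Fin p) : ℕ) = 0 := by rw [h0]; rfl
          have h4 := j.2
          by_contra hcon
          rw [Fin.val_add_one_of_lt' (by omega)] at h3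
          omega
        rw [h2, hB, h0, Matrix.smul_mulVec, Matrix.one_mulVec]
        change β * v i = ((B : Matrix (Fin p) (Fin p) F) ^ ((0 : Fin p) : ℕ) *ᵥ v) i * β
        rw [show ((0 : Fin p) : ℕ) = 0 from rfl, pow_zero, Matrix.one_mulVec, mul_comm]
      · have h2 : ((j + 1 : Fin p) : ℕ) = (j : ℕ) + 1 := by
          refine Fin.val_add_one_of_lt' ?_
          by_contra hcon
          have h4 := j.2
          apply h0
          refine Fin.ext ?_
          rw [Fin.val_add]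
          have h5 : ((1 : Fin p) : ℕ) = 1 := by
            have := hp.out.one_lt
            exact Nat.mod_eq_of_lt this
          rw [h5, show (j : ℕ) + 1 = p by omega, Nat.mod_self]
          rfl
        rw [mul_one]
        change _ = ((B : Matrix (Fin p) (Fin p) F) ^ ((j + 1 : Fin p) : ℕ) *ᵥ v) i
        rw [h2]
    · intro k _ hk2
      rw [Matrix.of_apply, if_neg hk2, mul_zero]
    · intro h
      exact absurd (Finset.mem_univ _) h

end Lin

/-! ### The normal form -/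

section Main

variable {p : ℕ} [hp : Fact p.Prime] {F : Type*} [Field F]

/-- the scalar matrices -/
def sc (p : ℕ) (F : Type*) [Field F] : Fˣ →* GL (Fin p) F :=
  Units.map (Matrix.scalar (Fin p) : F →+* Matrix (Fin p) (Fin p) F).toMonoidHom

omit hp in
theorem sc_val (c : Fˣ) : (sc p F c : Matrix (Fin p) (Fin p) F) = (c : F) • (1 : Matrix (Fin p) (Fin p) F) := by
  rw [sc, Matrix.smul_one_eq_diagonal]
  rfl

omit hp in
theorem sc_mem (c : Fˣ) : sc p F c ∈ scalars (Fin p) F := ⟨c, rfl⟩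

omit hp in
theorem sc_comm (c : Fˣ) (g : GL (Fin p) F) : sc p F c * g = g * sc p F c := by
  refine Units.ext ?_
  rw [Units.val_mul, Units.val_mul, sc_val, Matrix.smul_mul, Matrix.mul_smul, one_mul, mul_one]

theorem sc_inj : Function.Injective (sc p F) := by
  intro c d h
  have h1 := congrArg (fun g : GL (Fin p) F => (g : Matrix (Fin p) (Fin p) F) 0 0) h
  simp only [sc_val, Matrix.smul_apply, Matrix.one_apply_eq, smul_eq_mul, mul_one] at h1
  exact Units.ext h1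

omit hp in
theorem sc_mul_val (c : Fˣ) (g : GL (Fin p) F) :
    ((sc p F c * g : GL (Fin p) F) : Matrix (Fin p) (Fin p) F) = (c : F) • (g : Matrix (Fin p) (Fin p) F) := by
  rw [Units.val_mul, sc_val, Matrix.smul_mul, one_mul]

/-- scalars in the unitary group -/
theorem sc_mem_GU {q : ℕ} {c : Fˣ} : sc p F c ∈ Cfsg.GU p F q ↔ c ^ (q + 1) = 1 := by
  have h0 : ∀ u : Fin p → F, (sc p F c : Matrix (Fin p) (Fin p) F) *ᵥ u = (c : F) • u := by
    intro u
    rw [sc_val, Matrix.smul_mulVec, Matrix.one_mulVec]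
  rw [mem_GU_iff]
  constructor
  · intro h
    have h1 := h (Pi.single 0 1) (Pi.single 0 1)
    rw [h0, herm_smul_left, herm_smul_right, herm_single_left, Pi.single_eq_same, one_pow, mul_one, mul_one] at h1
    refine Units.ext ?_
    rw [Units.val_pow_eq_pow_val, pow_succ', h1, Units.val_one]
  · intro h u v
    have h1 := congrArg Units.val h
    rw [Units.val_pow_eq_pow_val, pow_succ', Units.val_one] at h1
    rw [h0, h0, herm_smul_left, herm_smul_right, ← mul_assoc, h1, one_mul]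

theorem pre [Fintype F] (h2 : p ≠ 2) {a b : GL (Fin p) F} {ζ : Fˣ} (hζ1 : ζ ≠ 1)
    (hab : (a : Matrix (Fin p) (Fin p) F) * b = (ζ : F) • ((b : Matrix (Fin p) (Fin p) F) * a))
    (ha : a ^ p ∈ scalars (Fin p) F) (hb : b ^ p ∈ scalars (Fin p) F) :
    ∃ (A B : GL (Fin p) F) (ζ' β : Fˣ), A ∈ Subgroup.closure {a, b} ⊔ scalars (Fin p) F ∧
      B ∈ Subgroup.closure {a, b} ⊔ scalars (Fin p) F ∧ ζ' ≠ 1 ∧ ζ' ^ p = 1 ∧
      A * B = sc p F ζ' * (B * A) ∧ A ^ p = 1 ∧ B ^ p = sc p F β ∧ (β = 1 ∨ ∀ x : Fˣ, x ^ p ≠ β) ∧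
      (∀ q : ℕ, Fintype.card F = q ^ 2 → ζ ^ (q + 1) = 1 → a ∈ Cfsg.GU p F q → b ∈ Cfsg.GU p F q →
        A ∈ Cfsg.GU p F q ∧ B ∈ Cfsg.GU p F q ∧ ζ' ^ (q + 1) = 1 ∧ β ^ (q + 1) = 1) := by
  obtain ⟨α, hα⟩ := ha
  obtain ⟨β₀, hβ₀⟩ := hb
  have hα' : a ^ p = sc p F α := hα.symm
  have hβ₀' : b ^ p = sc p F β₀ := hβ₀.symm
  have hab' : a * b = sc p F ζ * (b * a) := by
    refine Units.ext ?_
    rw [sc_mul_val, Units.val_mul, Units.val_mul]
    exact hab
  obtain ⟨a', b', ζ', γ, β', ha', hb', hζ', hζp', hor, hab1, hap, hbp⟩ :=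
    replace h2 (sc p F) sc_inj sc_comm hζ1 hab' hα' hβ₀'
  have hle : Subgroup.closure {a, b} ≤ Subgroup.closure {a, b} ⊔ scalars (Fin p) F := le_sup_left
  have hsc : ∀ c : Fˣ, sc p F c ∈ Subgroup.closure {a, b} ⊔ scalars (Fin p) F := fun c =>
    (le_sup_right : _ ≤ Subgroup.closure {a, b} ⊔ scalars (Fin p) F) (sc_mem c)
  have hcomm : ∀ (c : Fˣ) (g : GL (Fin p) F), Commute (sc p F c) g := fun c g => sc_comm c g
  -- the norm one property of a `p`-th root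
  have hnorm : ∀ (q : ℕ), Fintype.card F = q ^ 2 → ζ ^ (q + 1) = 1 → ∀ δ : Fˣ, sc p F (δ ^ p) ∈ Cfsg.GU p F q →
      δ ^ (q + 1) = 1 := by
    intro q hF hq δ hδ
    rw [sc_mem_GU] at hδ
    have hζp : ζ ^ p = 1 := by
      rcases hor with rfl | rfl
      · exact hζp'
      · rw [inv_pow, inv_eq_one] at hζp'
        exact hζp'
    have hord : orderOf ζ = p := orderOf_eq_prime hζp hζ1
    have hpq : p ∣ q + 1 := by rw [← hord]; exact orderOf_dvd_of_pow_eq_one hq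
    have hq2 := two_le hF
    have hcop : Nat.Coprime p (q - 1) := by
      rw [Nat.Prime.coprime_iff_not_dvd hp.out]
      intro hd
      have h3 : p ∣ (q + 1) - (q - 1) := Nat.dvd_sub hpq hd
      have h4 : (q + 1) - (q - 1) = 2 := by omega
      rw [h4] at h3
      have h5 := Nat.le_of_dvd (by norm_num) h3
      have h6 := hp.out.two_le
      omega
    have h5 : (δ ^ (q + 1)) ^ p = 1 := by rw [← pow_mul, mul_comm, pow_mul]; exact hδ
    have h6 : (δ ^ (q + 1)) ^ (q - 1) = 1 := by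
      rw [← pow_mul, ← card_units_eq hF]
      exact pow_card_eq_one'
    have h7 : orderOf (δ ^ (q + 1)) ∣ Nat.gcd p (q - 1) :=
      Nat.dvd_gcd (orderOf_dvd_of_pow_eq_one h5) (orderOf_dvd_of_pow_eq_one h6)
    rw [hcop] at h7
    exact orderOf_eq_one_iff.1 (Nat.dvd_one.1 h7)
  have hA : sc p F γ⁻¹ * a' ∈ Subgroup.closure {a, b} ⊔ scalars (Fin p) F := mul_mem (hsc _) (hle ha')
  have hAp : (sc p F γ⁻¹ * a') ^ p = 1 := by
    rw [(hcomm _ _).mul_pow, hap, ← map_pow, ← map_mul, inv_pow, inv_mul_cancel, map_one]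
  have hGU : ∀ q : ℕ, a ∈ Cfsg.GU p F q → b ∈ Cfsg.GU p F q → ∀ g ∈ Subgroup.closure {a, b}, g ∈ Cfsg.GU p F q := by
    intro q hau hbu
    have : Subgroup.closure {a, b} ≤ Cfsg.GU p F q := by
      rw [Subgroup.closure_le]
      rintro x (rfl | rfl)
      · exact hau
      · exact hbu
    exact this
  have hinv1 : ∀ {c : Fˣ} {n : ℕ}, c ^ n = 1 → (c⁻¹) ^ n = 1 := by
    intro c n h
    rw [inv_pow, h, inv_one]
  have hζq : ∀ q : ℕ, ζ ^ (q + 1) = 1 → ζ' ^ (q + 1) = 1 := by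
    intro q hq
    rcases hor with rfl | rfl
    · exact hq
    · exact hinv1 hq
  have hAB : ∀ (c d : Fˣ), (sc p F c * a') * (sc p F d * b') = sc p F ζ' * ((sc p F d * b') * (sc p F c * a')) := by
    intro c d
    calc (sc p F c * a') * (sc p F d * b') = sc p F c * (a' * sc p F d) * b' := by simp only [mul_assoc]
      _ = sc p F c * sc p F d * (a' * b') := by rw [← sc_comm]; simp only [mul_assoc]
      _ = (sc p F c * sc p F d) * sc p F ζ' * (b' * a') := by rw [hab1]; simp only [mul_assoc]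
      _ = (sc p F ζ' * sc p F d) * (sc p F c * b') * a' := by
          rw [← map_mul, ← map_mul, ← map_mul, ← mul_assoc (sc p F (ζ' * d)), ← map_mul, mul_assoc (sc p F _) b']
          congr 2
          rw [mul_comm c d, mul_comm _ ζ', mul_assoc]
      _ = sc p F ζ' * ((sc p F d * b') * (sc p F c * a')) := by rw [sc_comm c b']; simp only [mul_assoc]
  by_cases hβ : ∃ x : Fˣ, x ^ p = β'
  · obtain ⟨δ, rfl⟩ := hβ
    refine ⟨sc p F γ⁻¹ * a', sc p F δ⁻¹ * b', ζ', 1, hA, mul_mem (hsc _) (hle hb'), hζ', hζp', hAB _ _, hAp, ?_, Or.inl rfl, ?_⟩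
    · rw [(hcomm _ _).mul_pow, hbp, ← map_pow, ← map_mul, inv_pow, inv_mul_cancel]
    · intro q hF hq hau hbu
      have h3 : γ ^ (q + 1) = 1 := hnorm q hF hq γ (by rw [← hap]; exact pow_mem (hGU q hau hbu a' ha') p)
      have h4 : δ ^ (q + 1) = 1 := hnorm q hF hq δ (by rw [← hbp]; exact pow_mem (hGU q hau hbu b' hb') p)
      exact ⟨mul_mem (sc_mem_GU.2 (hinv1 h3)) (hGU q hau hbu a' ha'), mul_mem (sc_mem_GU.2 (hinv1 h4)) (hGU q hau hbu b' hb'),
        hζq q hq, one_pow _⟩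
  · push Not at hβ
    have hAB' := hAB γ⁻¹ 1
    rw [map_one, one_mul] at hAB'
    refine ⟨sc p F γ⁻¹ * a', b', ζ', β', hA, hle hb', hζ', hζp', hAB', hAp, hbp, Or.inr hβ, ?_⟩
    intro q hF hq hau hbu
    have h3 : γ ^ (q + 1) = 1 := hnorm q hF hq γ (by rw [← hap]; exact pow_mem (hGU q hau hbu a' ha') p)
    refine ⟨mul_mem (sc_mem_GU.2 (hinv1 h3)) (hGU q hau hbu a' ha'), hGU q hau hbu b' hb', hζq q hq, ?_⟩
    rw [← sc_mem_GU (p := p), ← hbp]
    exact pow_mem (hGU q hau hbu b' hb') p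

/-- membership of the conjugates -/
theorem fin_mem {A B P : GL (Fin p) F} {ζ β : Fˣ} {H : Subgroup (GL (Fin p) F)} (hs : scalars (Fin p) F ≤ H) (hA : A ∈ H) (hB : B ∈ H)
    (hPA : P * Dm p ζ * P⁻¹ = A) (hPB : P * Bm p β * P⁻¹ = B) : ∀ h ∈ Hs p ζ β, P * h * P⁻¹ ∈ H := by
  have h1 : Hs p ζ β ≤ H.comap (MulAut.conj P).toMonoidHom := by
    refine sup_le ((Subgroup.closure_le _).2 ?_) ?_
    · rintro x (rfl | rfl)
      · change P * Dm p ζ * P⁻¹ ∈ H
        rw [hPA]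
        exact hA
      · change P * Bm p β * P⁻¹ ∈ H
        rw [hPB]
        exact hB
    · intro x hx
      exact hs (conj_mem_scalars hx)
  exact h1

theorem normalForm (h2 : p ≠ 2) [Fintype F] {a b : GL (Fin p) F} {ζ : Fˣ} (hζ1 : ζ ≠ 1)
    (hab : (a : Matrix (Fin p) (Fin p) F) * b = (ζ : F) • ((b : Matrix (Fin p) (Fin p) F) * a))
    (ha : a ^ p ∈ Cfsg.Geo.scalars (Fin p) F) (hb : b ^ p ∈ Cfsg.Geo.scalars (Fin p) F) :
    ∃ (P : GL (Fin p) F) (ζ' β : Fˣ), ζ' ≠ 1 ∧ ζ' ^ p = 1 ∧ (β = 1 ∨ ∀ x : Fˣ, x ^ p ≠ β) ∧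
      ∀ h ∈ Hs p ζ' β, P * h * P⁻¹ ∈ Subgroup.closure {a, b} ⊔ Cfsg.Geo.scalars (Fin p) F := by
  obtain ⟨A, B, ζ', β, hA, hB, hζ', hζp', hAB, hAp, hBp, hβ, -⟩ := pre h2 hζ1 hab ha hb
  have hAB' : (A : Matrix (Fin p) (Fin p) F) * B = (ζ' : F) • ((B : Matrix (Fin p) (Fin p) F) * A) := by
    have h3 := congrArg Units.val hAB
    rw [sc_mul_val, Units.val_mul, Units.val_mul] at h3
    exact h3
  have hAp' : (A : Matrix (Fin p) (Fin p) F) ^ p = 1 := by
    rw [← Units.val_pow_eq_pow_val, hAp, Units.val_one]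
  have hBp' : (B : Matrix (Fin p) (Fin p) F) ^ p = (β : F) • 1 := by
    rw [← Units.val_pow_eq_pow_val, hBp, sc_val]
  obtain ⟨v, hv, hAv⟩ := exists_fix hζ' hζp' hAB' hAp'
  obtain ⟨P, -, hPA, hPB⟩ := core hζ' hζp' hAB' hBp' hv hAv
  exact ⟨P, ζ', β, hζ', hζp', hβ, fin_mem le_sup_right hA hB hPA hPB⟩

end Main

/-! ### The unitary case -/

section Unitary

variable {p : ℕ} [hp : Fact p.Prime] {F : Type*} [Field F] [Fintype F] {q : ℕ}

theorem normalFormU (h2 : p ≠ 2) (hF : Fintype.card F = q ^ 2) {a b : GL (Fin p) F} {ζ : Fˣ} (hζ1 : ζ ≠ 1)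
    (hq : ζ ^ (q + 1) = 1) (hau : a ∈ Cfsg.GU p F q) (hbu : b ∈ Cfsg.GU p F q)
    (hab : (a : Matrix (Fin p) (Fin p) F) * b = (ζ : F) • ((b : Matrix (Fin p) (Fin p) F) * a))
    (ha : a ^ p ∈ Cfsg.Geo.scalars (Fin p) F) (hb : b ^ p ∈ Cfsg.Geo.scalars (Fin p) F) :
    ∃ (P : GL (Fin p) F) (ζ' β : Fˣ), P ∈ Cfsg.GU p F q ∧ ζ' ≠ 1 ∧ ζ' ^ p = 1 ∧ (β = 1 ∨ ∀ x : Fˣ, x ^ p ≠ β) ∧
      β ^ (q + 1) = 1 ∧
      ∀ h ∈ Hs p ζ' β, P * h * P⁻¹ ∈ Subgroup.closure {a, b} ⊔ Cfsg.Geo.scalars (Fin p) F := by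
  obtain ⟨A, B, ζ', β, hA, hB, hζ', hζp', hAB, hAp, hBp, hβ, hU⟩ := pre h2 hζ1 hab ha hb
  obtain ⟨hAu, hBu, hζq, hβq⟩ := hU q hF hq hau hbu
  have hAB' : (A : Matrix (Fin p) (Fin p) F) * B = (ζ' : F) • ((B : Matrix (Fin p) (Fin p) F) * A) := by
    have h3 := congrArg Units.val hAB
    rw [sc_mul_val, Units.val_mul, Units.val_mul] at h3
    exact h3
  have hAp' : (A : Matrix (Fin p) (Fin p) F) ^ p = 1 := by
    rw [← Units.val_pow_eq_pow_val, hAp, Units.val_one]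
  have hBp' : (B : Matrix (Fin p) (Fin p) F) ^ p = (β : F) • 1 := by
    rw [← Units.val_pow_eq_pow_val, hBp, sc_val]
  obtain ⟨v, hv, hAv⟩ := exists_fix hζ' hζp' hAB' hAp'
  have hζord : orderOf ζ' = p := orderOf_eq_prime hζp' hζ'
  -- the vectors `B ^ i v` are pairwise orthogonal
  have horth : ∀ (w : Fin p → F), (A : Matrix (Fin p) (Fin p) F) *ᵥ w = w → ∀ i j : Fin p, i ≠ j →
      hermForm p F q ((B : Matrix (Fin p) (Fin p) F) ^ (i : ℕ) *ᵥ w) ((B : Matrix (Fin p) (Fin p) F) ^ (j : ℕ) *ᵥ w) = 0 := by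
    intro w hw i j hij
    have hw' : (A : Matrix (Fin p) (Fin p) F) *ᵥ w = (1 : F) • w := by rw [hw, one_smul]
    have h3 := (mem_GU_iff A).1 hAu ((B : Matrix (Fin p) (Fin p) F) ^ (i : ℕ) *ᵥ w)
      ((B : Matrix (Fin p) (Fin p) F) ^ (j : ℕ) *ᵥ w)
    rw [mulVec_pow_eig hAB' hw', mulVec_pow_eig hAB' hw', mul_one, mul_one, herm_smul_left, herm_smul_right, ← mul_assoc] at h3
    by_contra hne
    have h4 : (ζ' : F) ^ (i : ℕ) * ((ζ' : F) ^ (j : ℕ)) ^ q = 1 := by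
      have h5 : ((ζ' : F) ^ (i : ℕ) * ((ζ' : F) ^ (j : ℕ)) ^ q - 1) *
          hermForm p F q ((B : Matrix (Fin p) (Fin p) F) ^ (i : ℕ) *ᵥ w) ((B : Matrix (Fin p) (Fin p) F) ^ (j : ℕ) *ᵥ w) = 0 := by
        rw [sub_mul, one_mul, h3, sub_self]
      exact sub_eq_zero.1 ((mul_eq_zero.1 h5).resolve_right hne)
    have h6 : ζ' ^ (i : ℕ) * (ζ' ^ (j : ℕ)) ^ q = 1 := Units.ext (by simpa using h4)
    have h7 : (ζ' ^ (j : ℕ)) ^ q * ζ' ^ (j : ℕ) = 1 := by
      rw [← pow_succ, ← pow_mul, mul_comm, pow_mul, hζq, one_pow]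
    have h8 : ζ' ^ (i : ℕ) = ζ' ^ (j : ℕ) := by
      have h9 : ζ' ^ (i : ℕ) * ((ζ' ^ (j : ℕ)) ^ q * ζ' ^ (j : ℕ)) = ζ' ^ (j : ℕ) := by
        rw [← mul_assoc, h6, one_mul]
      rw [h7, mul_one] at h9
      exact h9
    exact hij (Fin.ext (pow_injOn_Iio_orderOf (by rw [hζord]; exact i.2) (by rw [hζord]; exact j.2) h8))
  -- `h(v, v) ≠ 0`
  have hvv : hermForm p F q v v ≠ 0 := by
    intro h0
    apply hv
    obtain ⟨P, hP, -, -⟩ := core hζ' hζp' hAB' hBp' hv hAv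
    refine herm_nondeg hF fun w => ?_
    have h3 : w = ∑ j, ((P⁻¹ : GL (Fin p) F).1 *ᵥ w) j • ((B : Matrix (Fin p) (Fin p) F) ^ (j : ℕ) *ᵥ v) := by
      have h4 : (P : Matrix (Fin p) (Fin p) F) *ᵥ ((P⁻¹ : GL (Fin p) F).1 *ᵥ w) = w := by
        rw [Matrix.mulVec_mulVec, Units.mul_inv, Matrix.one_mulVec]
      funext i
      conv_lhs => rw [← h4]
      rw [Matrix.mulVec, dotProduct, Finset.sum_apply]
      refine Finset.sum_congr rfl fun j _ => ?_
      rw [hP, Pi.smul_apply, smul_eq_mul, mul_comm]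
    rw [h3, herm_sum_right hF]
    refine Finset.sum_eq_zero fun j _ => ?_
    rw [herm_smul_right]
    rcases eq_or_ne (0 : Fin p) j with rfl | hj
    · have h5 : (B : Matrix (Fin p) (Fin p) F) ^ ((0 : Fin p) : ℕ) *ᵥ v = v := by
        rw [show ((0 : Fin p) : ℕ) = 0 from rfl, pow_zero, Matrix.one_mulVec]
      rw [h5, h0, mul_zero]
    · have h6 := horth v hAv 0 j hj
      rw [show ((0 : Fin p) : ℕ) = 0 from rfl, pow_zero, Matrix.one_mulVec] at h6
      rw [h6, mul_zero]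
  obtain ⟨c, hc0, hc⟩ := exists_norm_eq_ne hF (c := (hermForm p F q v v)⁻¹) (by rw [inv_pow, herm_self_pow hF])
    (inv_ne_zero hvv)
  have hcv : (c • v) ≠ 0 := smul_ne_zero hc0 hv
  have hAcv : (A : Matrix (Fin p) (Fin p) F) *ᵥ (c • v) = c • v := by rw [Matrix.mulVec_smul, hAv]
  have hcc : hermForm p F q (c • v) (c • v) = 1 := by
    rw [herm_smul_left, herm_smul_right, ← mul_assoc, hc, inv_mul_cancel₀ hvv]
  obtain ⟨P, hP, hPA, hPB⟩ := core hζ' hζp' hAB' hBp' hcv hAcv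
  refine ⟨P, ζ', β, ?_, hζ', hζp', hβ, hβq, fin_mem le_sup_right hA hB hPA hPB⟩
  -- `P` is unitary
  have hcol : ∀ w : Fin p → F, (P : Matrix (Fin p) (Fin p) F) *ᵥ w =
      ∑ j, w j • ((B : Matrix (Fin p) (Fin p) F) ^ (j : ℕ) *ᵥ (c • v)) := by
    intro w
    funext i
    rw [Matrix.mulVec, dotProduct, Finset.sum_apply]
    refine Finset.sum_congr rfl fun j _ => ?_
    rw [hP, Pi.smul_apply, smul_eq_mul, mul_comm]
  have hgram : ∀ i j : Fin p, hermForm p F q ((B : Matrix (Fin p) (Fin p) F) ^ (i : ℕ) *ᵥ (c • v))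
      ((B : Matrix (Fin p) (Fin p) F) ^ (j : ℕ) *ᵥ (c • v)) = if i = j then 1 else 0 := by
    intro i j
    split_ifs with h
    · subst h
      have h3 : (B ^ (i : ℕ)) ∈ Cfsg.GU p F q := pow_mem hBu _
      have h4 := (mem_GU_iff (B ^ (i : ℕ))).1 h3 (c • v) (c • v)
      rw [Units.val_pow_eq_pow_val] at h4
      rw [h4, hcc]
    · exact horth _ hAcv i j h
  rw [mem_GU_iff]
  intro u w
  rw [hcol u, hcol w, herm_sum_left]
  simp_rw [herm_smul_left, herm_sum_right hF, herm_smul_right, hgram]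
  rw [herm_def]
  refine Finset.sum_congr rfl fun i _ => ?_
  congr 1
  rw [Finset.sum_eq_single i]
  · rw [if_pos rfl, mul_one]
  · intro j _ hj
    rw [if_neg (Ne.symm hj), mul_zero]
  · intro h
    exact absurd (Finset.mem_univ i) h

end Unitary

end Cfsg.Agent.H783.NormF
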