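import Cfsg.Agent.LieRecognition.CoxClass
import Cfsg.Agent.H396.HasCG

/-!
# Stable sets of nodes of connected Coxeter diagrams (task 1839, S4898)
-/

set_option autoImplicit false

namespace Cfsg.Agent.H783.CoxNodes

open Cfsg.Agent.LieRecognition.CoxClass

/-- a stable set of one node, or of two nodes with a bond outside -/
def Good {n : ℕ} (m : Fin n → Fin n → ℕ) : Prop :=
  ∃ O : Finset (Fin n), (∀ σ : Equiv.Perm (Fin n), (∀ i j, m (σ i) (σ j) = m i j) → ∀ i ∈ O, σ i ∈ O) ∧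
    (O.card = 1 ∨ (O.card = 2 ∧ 4 ≤ n ∧ ∃ i j : Fin n, i ≠ j ∧ i ∉ O ∧ j ∉ O ∧ m i j ≠ 2))

theorem Good.transport {n l : ℕ} {m : Fin l → Fin l → ℕ} (v : Fin n ≃ Fin l) (h : Good fun i j => m (v i) (v j)) :
    Good m := by
  obtain ⟨O, h1, h2⟩ := h
  have hnl : n = l := by simpa using Fintype.card_congr v
  refine ⟨O.map v.toEmbedding, ?_, ?_⟩
  · intro σ hσ i hi
    rw [Finset.mem_map_equiv] at hi ⊢
    have h3 := h1 ((v.trans σ).trans v.symm) (fun i j => by simp [hσ]) _ hi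
    simpa using h3
  · rw [Finset.card_map]
    rcases h2 with h2 | ⟨h2, h3, i, j, h4, h5, h6, h7⟩
    · exact Or.inl h2
    · refine Or.inr ⟨h2, by omega, v i, v j, fun e => h4 (v.injective e), ?_, ?_, h7⟩
      · rw [Finset.mem_map_equiv]; simpa using h5
      · rw [Finset.mem_map_equiv]; simpa using h6

/-- two different neighbours -/
def Nb2 {n : ℕ} (m : Fin n → Fin n → ℕ) (i : Fin n) : Prop :=
  ∃ c d, c ≠ i ∧ d ≠ i ∧ c ≠ d ∧ m i c ≠ 2 ∧ m i d ≠ 2

/-- three different neighbours -/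
def Nb3 {n : ℕ} (m : Fin n → Fin n → ℕ) (i : Fin n) : Prop :=
  ∃ c d e, c ≠ i ∧ d ≠ i ∧ e ≠ i ∧ c ≠ d ∧ c ≠ e ∧ d ≠ e ∧ m i c ≠ 2 ∧ m i d ≠ 2 ∧ m i e ≠ 2

theorem Nb2.map {n : ℕ} {m : Fin n → Fin n → ℕ} {σ : Equiv.Perm (Fin n)} (hσ : ∀ i j, m (σ i) (σ j) = m i j) {i : Fin n}
    (h : Nb2 m i) : Nb2 m (σ i) := by
  obtain ⟨c, d, h1, h2, h3, h4, h5⟩ := h
  exact ⟨σ c, σ d, fun e => h1 (σ.injective e), fun e => h2 (σ.injective e), fun e => h3 (σ.injective e),
    by rwa [hσ], by rwa [hσ]⟩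

theorem Nb3.map {n : ℕ} {m : Fin n → Fin n → ℕ} {σ : Equiv.Perm (Fin n)} (hσ : ∀ i j, m (σ i) (σ j) = m i j) {i : Fin n}
    (h : Nb3 m i) : Nb3 m (σ i) := by
  obtain ⟨c, d, e, h1, h2, h3, h4, h5, h6, h7, h8, h9⟩ := h
  exact ⟨σ c, σ d, σ e, fun e => h1 (σ.injective e), fun e => h2 (σ.injective e), fun e => h3 (σ.injective e),
    fun e => h4 (σ.injective e), fun e => h5 (σ.injective e), fun e => h6 (σ.injective e),
    by rwa [hσ], by rwa [hσ], by rwa [hσ]⟩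

theorem inv {n : ℕ} {m : Fin n → Fin n → ℕ} {σ : Equiv.Perm (Fin n)} (hσ : ∀ i j, m (σ i) (σ j) = m i j) (i j : Fin n) :
    m (σ.symm i) (σ.symm j) = m i j := by
  rw [← hσ, Equiv.apply_symm_apply, Equiv.apply_symm_apply]

/-- one node with `Nb2` or one node with `Nb3` -/
theorem good_two {n : ℕ} {m : Fin n → Fin n → ℕ} (a : Fin n) (h : ∀ i, Nb2 m i ↔ i = a) : Good m := by
  refine ⟨{a}, ?_, Or.inl (Finset.card_singleton a)⟩
  intro σ hσ i hi
  rw [Finset.mem_singleton] at hi ⊢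
  exact (h _).1 (Nb2.map hσ ((h i).2 hi))

theorem good_three {n : ℕ} {m : Fin n → Fin n → ℕ} (a : Fin n) (h : ∀ i, Nb3 m i ↔ i = a) : Good m := by
  refine ⟨{a}, ?_, Or.inl (Finset.card_singleton a)⟩
  intro σ hσ i hi
  rw [Finset.mem_singleton] at hi ⊢
  exact (h _).1 (Nb3.map hσ ((h i).2 hi))

/-- two nodes without `Nb2` -/
theorem good_ends {n : ℕ} {m : Fin n → Fin n → ℕ} {a b i j : Fin n} (hab : a ≠ b) (hn : 4 ≤ n)
    (h : ∀ i, ¬ Nb2 m i ↔ i = a ∨ i = b) (hij : i ≠ j) (hia : i ≠ a) (hib : i ≠ b) (hja : j ≠ a) (hjb : j ≠ b)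
    (hm : m i j ≠ 2) : Good m := by
  refine ⟨{a, b}, ?_, Or.inr ⟨Finset.card_pair hab, hn, i, j, hij, by simp [hia, hib], by simp [hja, hjb], hm⟩⟩
  intro σ hσ i hi
  rw [Finset.mem_insert, Finset.mem_singleton] at hi ⊢
  rw [← h] at hi ⊢
  intro h1
  apply hi
  have h2 := Nb2.map (σ := σ.symm) (inv hσ) h1
  rwa [Equiv.symm_apply_apply] at h2

/-- a path -/
theorem good_path {n : ℕ} {m : Fin n → Fin n → ℕ} (hn : 3 ≤ n)
    (h : ∀ i j : Fin n, i ≠ j → (m i j ≠ 2 ↔ ((i : ℕ) + 1 = j ∨ (j : ℕ) + 1 = i))) : Good m := by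
  have key : ∀ i : Fin n, Nb2 m i ↔ (0 < (i : ℕ) ∧ (i : ℕ) + 1 < n) := by
    intro i
    constructor
    · rintro ⟨c, d, h1, h2, h3, h4, h5⟩
      rw [h _ _ h1.symm] at h4
      rw [h _ _ h2.symm] at h5
      have h6 : (c : ℕ) ≠ d := fun e => h3 (Fin.ext e)
      have := c.2
      have := d.2
      omega
    · rintro ⟨h1, h2⟩
      have hc : (⟨i - 1, by omega⟩ : Fin n) ≠ i := fun e => by
        have := congrArg Fin.val e
        simp only at this
        omega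
      have hd : (⟨i + 1, h2⟩ : Fin n) ≠ i := fun e => by
        have := congrArg Fin.val e
        simp only at this
        omega
      refine ⟨⟨i - 1, by omega⟩, ⟨i + 1, h2⟩, hc, hd, fun e => ?_, ?_, ?_⟩
      · have := congrArg Fin.val e
        simp only at this
        omega
      · rw [h _ _ hc.symm]
        right
        simp only
        omega
      · rw [h _ _ hd.symm]
        left
        rfl
  rcases Nat.lt_or_ge n 4 with h4 | h4
  · obtain rfl : n = 3 := by omega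
    refine good_two 1 fun i => ?_
    rw [key]
    constructor
    · intro h1
      exact Fin.ext (by
        show (i : ℕ) = 1
        omega)
    · rintro rfl
      decide
  · refine good_ends (a := ⟨0, by omega⟩) (b := ⟨n - 1, by omega⟩) (i := ⟨1, by omega⟩) (j := ⟨2, by omega⟩) ?_ h4 ?_
      ?_ ?_ ?_ ?_ ?_ ?_
    · intro e
      have := congrArg Fin.val e
      simp only at this
      omega
    · intro i
      rw [key, Fin.ext_iff, Fin.ext_iff]
      have := i.2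
      simp only
      omega
    · simp [Fin.ext_iff]
    · simp [Fin.ext_iff]
    · simp [Fin.ext_iff]; omega
    · simp [Fin.ext_iff]
    · simp [Fin.ext_iff]; omega
    · rw [h _ _ (by simp [Fin.ext_iff])]
      left
      rfl

/-- type `D_n` -/
theorem good_D {n : ℕ} (hn : 4 ≤ n) : Good (n := n) fun i j => mD n i j := by
  have key : ∀ i j : Fin n, i ≠ j → (mD n i j ≠ 2 ↔ ((i : ℕ) + 1 = j ∧ (j : ℕ) + 1 < n) ∨
      ((j : ℕ) + 1 = i ∧ (i : ℕ) + 1 < n) ∨ ((i : ℕ) + 3 = n ∧ (j : ℕ) + 1 = n) ∨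
      ((j : ℕ) + 3 = n ∧ (i : ℕ) + 1 = n)) := by
    intro i j hij
    have h1 : (i : ℕ) ≠ j := fun e => hij (Fin.ext e)
    unfold mD
    rw [if_neg h1]
    split_ifs with h2
    · simp [h2]
    · simp [h2]
  refine good_three ⟨n - 3, by omega⟩ fun i => ?_
  constructor
  · rintro ⟨c, d, e, h1, h2, h3, h4, h5, h6, h7, h8, h9⟩
    rw [key _ _ h1.symm] at h7
    rw [key _ _ h2.symm] at h8
    rw [key _ _ h3.symm] at h9
    have h4' : (c : ℕ) ≠ d := fun e => h4 (Fin.ext e)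
    have h5' : (c : ℕ) ≠ e := fun e => h5 (Fin.ext e)
    have h6' : (d : ℕ) ≠ e := fun e => h6 (Fin.ext e)
    apply Fin.ext
    simp only
    omega
  · rintro rfl
    have e : ∀ k : ℕ, ∀ hk : k < n, k ≠ n - 3 → (⟨k, hk⟩ : Fin n) ≠ ⟨n - 3, by omega⟩ := fun k hk h h' =>
      h (congrArg Fin.val h')
    have e' : ∀ k j : ℕ, ∀ (hk : k < n) (hj : j < n), k ≠ j → (⟨k, hk⟩ : Fin n) ≠ ⟨j, hj⟩ := fun k j hk hj h h' =>
      h (congrArg Fin.val h')
    refine ⟨⟨n - 4, by omega⟩, ⟨n - 2, by omega⟩, ⟨n - 1, by omega⟩, e _ _ (by omega), e _ _ (by omega),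
      e _ _ (by omega), e' _ _ _ _ (by omega), e' _ _ _ _ (by omega), e' _ _ _ _ (by omega), ?_, ?_, ?_⟩
    · rw [key _ _ (e _ _ (by omega)).symm]
      simp only
      omega
    · rw [key _ _ (e _ _ (by omega)).symm]
      simp only
      omega
    · rw [key _ _ (e _ _ (by omega)).symm]
      simp only
      omega

instance decNb3 {n : ℕ} (m : Fin n → Fin n → ℕ) (i : Fin n) : Decidable (Nb3 m i) := by
  unfold Nb3
  infer_instance

theorem good_E6 : Good (n := 6) fun i j => mE 6 i j := good_three 2 (by decide +kernel)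
theorem good_E7 : Good (n := 7) fun i j => mE 7 i j := good_three 2 (by decide +kernel)
theorem good_E8 : Good (n := 8) fun i j => mE 8 i j := good_three 2 (by decide +kernel)

theorem good_A {n : ℕ} (hn : 3 ≤ n) : Good (n := n) fun i j => mA i j := by
  refine good_path hn fun i j hij => ?_
  have h1 : (i : ℕ) ≠ j := fun e => hij (Fin.ext e)
  unfold mA
  rw [if_neg h1]
  split_ifs with h2
  · simp [h2]
  · simp [h2]

theorem good_C {n : ℕ} (hn : 3 ≤ n) : Good (n := n) fun i j => mC n i j := by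
  refine good_path hn fun i j hij => ?_
  have h1 : (i : ℕ) ≠ j := fun e => hij (Fin.ext e)
  unfold mC
  rw [if_neg h1]
  split_ifs with h2 h3 h3 h4 <;> simp [*]

theorem good_F : Good (n := 4) fun i j => mF i j := by
  refine good_path (by norm_num) fun i j hij => ?_
  have h1 : (i : ℕ) ≠ j := fun e => hij (Fin.ext e)
  unfold mF
  rw [if_neg h1]
  split_ifs with h2 h3
  · rcases h2 with ⟨h2, h3⟩ | ⟨h2, h3⟩ <;> simp [h2, h3]
  · simp [h3]
  · simp [h3]

theorem exists_nodes {l : ℕ} (hl : 3 ≤ l) (M : CoxeterMatrix (Fin l)) {W : Type*} [Group W] [Finite W] (cs : CoxeterSystem M W)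
    (h5 : ∀ a b, M a b ≠ 5) (hc : Cfsg.Agent.H396.Conn M) :
    ∃ O : Finset (Fin l), (∀ σ : Equiv.Perm (Fin l), (∀ i j, M (σ i) (σ j) = M i j) → ∀ i ∈ O, σ i ∈ O) ∧
      (O.card = 1 ∨ (O.card = 2 ∧ 4 ≤ l ∧ ∃ i j : Fin l, i ≠ j ∧ i ∉ O ∧ j ∉ O ∧ M i j ≠ 2)) := by
  have h := classify_coxeter cs h5 (fun J hJ hJc => by
    obtain ⟨a, ha, b, hb, hab⟩ := hc J hJ (fun e => by
      obtain ⟨x, hx⟩ := hJc
      rw [e] at hx
      exact hx trivial)
    exact ⟨a, ha, b, hb, hab⟩) (by rwa [Fintype.card_fin])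
  have key : ∀ {n : ℕ} (v : Fin n ≃ Fin l) (m : ℕ → ℕ → ℕ), Lab M v m → (Good (n := n) fun i j => m i j) →
      Good (n := l) fun i j => M i j := by
    intro n v m hv hg
    refine Good.transport v ?_
    have e : (fun i j : Fin n => M (v i) (v j)) = fun i j : Fin n => m i j := by
      funext i j
      exact hv i j
    rw [e]
    exact hg
  rcases h with ⟨n, v, hn, h⟩ | ⟨n, v, hn, h⟩ | ⟨n, v, hn, h⟩ | ⟨v, h⟩ | ⟨v, h⟩ | ⟨v, h⟩ | ⟨v, h⟩
  · exact key v _ h (good_A hn)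
  · exact key v _ h (good_C hn)
  · exact key v _ h (good_D hn)
  · exact key v _ h good_E6
  · exact key v _ h good_E7
  · exact key v _ h good_E8
  · exact key v _ h good_F

end Cfsg.Agent.H783.CoxNodes
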