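import Mathlib
import Cfsg.Agent.H394.SqBasic
import Cfsg.Agent.H394.SqAlt

/-!
# The double cover of `A₇` : group theory (for S4844, PS-11a)

`K` perfect, `z` a central involution, `K/⟨z⟩ ≅ A₇`; `u` over `(0 1 2 3)(4 5)`, `t` over `(0 2)(4 5)`.

* `u4` : `u ^ 4 = z`;
* `conj_zt` : the elements of the Sylow `2`-subgroup outside `⟨u⟩` are conjugate to their product with `z`.
-/

set_option autoImplicit false

namespace Cfsg.Agent.H783.PSqTwo

open Subgroup Equiv Equiv.Perm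

/-! ### elements of `A₇` -/

abbrev A7 : Type := alternatingGroup (Fin 7)

def up : Perm (Fin 7) := (swap 0 1 * swap 1 2 * swap 2 3) * swap 4 5
def tp : Perm (Fin 7) := swap 0 2 * swap 4 5

theorem up_mem : up ∈ alternatingGroup (Fin 7) := by
  rw [mem_alternatingGroup]
  simp only [up, Perm.sign_mul]
  rw [sign_swap (by decide), sign_swap (by decide), sign_swap (by decide), sign_swap (by decide)]
  rfl

theorem tp_mem : tp ∈ alternatingGroup (Fin 7) := by
  rw [mem_alternatingGroup]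
  simp only [tp, Perm.sign_mul]
  rw [sign_swap (by decide), sign_swap (by decide)]
  rfl

def ub : A7 := ⟨up, up_mem⟩
def tb : A7 := ⟨tp, tp_mem⟩

theorem up4 : up ^ 4 = 1 := by decide
theorem up2 : up ^ 2 ≠ 1 := by decide
theorem tup : tp * up * tp⁻¹ = up⁻¹ := by decide
theorem tp2 : tp * tp = 1 := by decide

theorem ub4 : ub ^ 4 = 1 := Subtype.ext up4
theorem ub2 : ub ^ 2 ≠ 1 := fun h => up2 (congrArg Subtype.val h)
theorem tub : tb * ub * tb⁻¹ = ub⁻¹ := Subtype.ext tup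
theorem tb2 : tb * tb = 1 := Subtype.ext tp2

def Lp : List (Perm (Fin 7)) := [1, up, up ^ 2, up ^ 3, tp, up * tp, up ^ 2 * tp, up ^ 3 * tp]

theorem up_inv : up⁻¹ = up ^ 3 := by decide
theorem tp_inv : tp⁻¹ = tp := by decide
theorem tup' : tp * up = up ^ 3 * tp := by decide

theorem pow_in (n : ℕ) : up ^ n ∈ Lp := by
  have h : up ^ n = up ^ (n % 4) := by
    conv_lhs => rw [← Nat.div_add_mod n 4, pow_add, pow_mul, up4, one_pow, one_mul]
  rw [h]
  have h4 : n % 4 < 4 := Nat.mod_lt _ (by norm_num)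
  interval_cases (n % 4) <;> simp [Lp]

theorem pow_tp_in (n : ℕ) : up ^ n * tp ∈ Lp := by
  have h : up ^ n = up ^ (n % 4) := by
    conv_lhs => rw [← Nat.div_add_mod n 4, pow_add, pow_mul, up4, one_pow, one_mul]
  rw [h]
  have h4 : n % 4 < 4 := Nat.mod_lt _ (by norm_num)
  interval_cases (n % 4) <;> simp [Lp]

theorem Lp_or' : ∀ d ∈ Lp, (∃ i : Fin 4, d = up ^ (i : ℕ)) ∨ (∃ i : Fin 4, d = up ^ (i : ℕ) * tp) := by
  intro d hd
  simp only [Lp, List.mem_cons, List.not_mem_nil, or_false] at hd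
  rcases hd with rfl | rfl | rfl | rfl | rfl | rfl | rfl | rfl
  · exact Or.inl ⟨0, by simp⟩
  · exact Or.inl ⟨1, by simp⟩
  · exact Or.inl ⟨2, by simp⟩
  · exact Or.inl ⟨3, rfl⟩
  · exact Or.inr ⟨0, by simp⟩
  · exact Or.inr ⟨1, by simp⟩
  · exact Or.inr ⟨2, by simp⟩
  · exact Or.inr ⟨3, rfl⟩

theorem tp_pow (n : ℕ) : tp * up ^ n = up ^ (3 * n) * tp := by
  induction n with
  | zero => simp
  | succ n ih =>
    rw [pow_succ, ← mul_assoc, ih, mul_assoc, tup', ← mul_assoc, ← pow_add]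
    rfl

theorem Lp_mul : ∀ a ∈ Lp, ∀ b ∈ Lp, a * b ∈ Lp := by
  intro a ha b hb
  rcases Lp_or' a ha with ⟨i, rfl⟩ | ⟨i, rfl⟩ <;> rcases Lp_or' b hb with ⟨j, rfl⟩ | ⟨j, rfl⟩
  · rw [← pow_add]
    exact pow_in _
  · rw [← mul_assoc, ← pow_add]
    exact pow_tp_in _
  · rw [mul_assoc, tp_pow, ← mul_assoc, ← pow_add]
    exact pow_tp_in _
  · rw [mul_assoc, ← mul_assoc tp, tp_pow, mul_assoc _ tp tp, tp2, mul_one, ← pow_add]
    exact pow_in _

theorem Lp_inv : ∀ a ∈ Lp, a⁻¹ ∈ Lp := by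
  intro a ha
  rcases Lp_or' a ha with ⟨i, rfl⟩ | ⟨i, rfl⟩
  · rw [← inv_pow, up_inv, ← pow_mul]
    exact pow_in _
  · rw [mul_inv_rev, ← inv_pow, up_inv, tp_inv, ← pow_mul, tp_pow]
    exact pow_tp_in _

theorem Lp_nodup : Lp.Nodup := by
  refine List.Nodup.of_map (fun d : Perm (Fin 7) => ((d 0 : Fin 7), (d 1 : Fin 7))) ?_
  have h : Lp.map (fun d : Perm (Fin 7) => ((d 0 : Fin 7), (d 1 : Fin 7))) =
    [(0, 1), (1, 2), (2, 3), (3, 0), (2, 1), (3, 2), (0, 3), (1, 0)] := by decide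
  rw [h]
  decide

theorem Lp_or (d : Perm (Fin 7)) (hd : d ∈ Lp) : (∃ i : Fin 4, d = up ^ (i : ℕ)) ∨
    (d * up * d⁻¹ = up⁻¹ ∧ ∃ i : Fin 4, d = up ^ (i : ℕ) * tp) := by
  rcases Lp_or' d hd with ⟨i, rfl⟩ | ⟨i, rfl⟩
  · exact Or.inl ⟨i, rfl⟩
  · refine Or.inr ⟨?_, i, rfl⟩
    rw [mul_inv_rev, mul_assoc _ tp up, mul_assoc _ (tp * up), ← mul_assoc (tp * up), tup, ← mul_assoc]
    have := ((Commute.refl up).pow_left (i : ℕ)).inv_right
    rw [this.eq, mul_assoc, mul_inv_cancel, mul_one]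

theorem one_in : (1 : Perm (Fin 7)) ∈ Lp := by simp [Lp]

theorem Lp_alt : ∀ d ∈ Lp, d ∈ alternatingGroup (Fin 7) := by
  intro d hd
  rcases Lp_or d hd with ⟨i, rfl⟩ | ⟨-, i, rfl⟩
  · exact Subgroup.pow_mem _ up_mem _
  · exact Subgroup.mul_mem _ (Subgroup.pow_mem _ up_mem _) tp_mem

def Nb : Subgroup A7 where
  carrier := {d | (d : Perm (Fin 7)) ∈ Lp}
  mul_mem' := fun {a b} ha hb => Lp_mul a ha b hb
  one_mem' := one_in
  inv_mem' := fun {a} ha => Lp_inv a ha

theorem card_Nb : Nat.card Nb = 8 := by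
  have h1 : Nat.card Nb = Nat.card {x // x ∈ Lp.toFinset} := Nat.card_congr
    { toFun := fun x => ⟨x.1.1, List.mem_toFinset.2 x.2⟩
      invFun := fun x => ⟨⟨x.1, Lp_alt _ (List.mem_toFinset.1 x.2)⟩, List.mem_toFinset.1 x.2⟩
      left_inv := fun x => rfl
      right_inv := fun x => rfl }
  rw [h1, Nat.card_eq_fintype_card, Fintype.card_coe, List.toFinset_card_of_nodup Lp_nodup]
  rfl

theorem card_A7 : Nat.card A7 = 2520 := Cfsg.Agent.H394.SqAlt.card_alt 7 (by norm_num)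

/-- the centralizer of `ub` -/
theorem cent_ub (g : A7) (h : g * ub = ub * g) : ∃ i : Fin 4, g = ub ^ (i : ℕ) := by
  have hx : ∀ x : Fin 7, (g : Perm (Fin 7)) (up x) = up ((g : Perm (Fin 7)) x) := by
    intro x
    exact congrArg (fun k : A7 => (k : Perm (Fin 7)) x) h
  have v0 : up 0 = 1 := by decide
  have v1 : up 1 = 2 := by decide
  have v2 : up 2 = 3 := by decide
  have v4 : up 4 = 5 := by decide
  have v5 : up 5 = 4 := by decide
  have v6 : up 6 = 6 := by decide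
  have h6 : (g : Perm (Fin 7)) 6 = 6 := by
    have h1 := hx 6
    rw [v6] at h1
    have h2 : ∀ y : Fin 7, y = up y → y = 6 := by decide
    exact h2 _ h1
  have h1 := hx 0
  have h2 := hx 1
  have h3 := hx 2
  have h4 := hx 4
  have h5 := hx 5
  rw [v0] at h1
  rw [v1, h1] at h2
  rw [v2, h2] at h3
  rw [v4] at h4
  rw [v5, h4] at h5
  have hinj := (g : Perm (Fin 7)).injective
  have hb : (g : Perm (Fin 7)) 4 = 4 ∨ (g : Perm (Fin 7)) 4 = 5 := by
    have k1 : ∀ y : Fin 7, y = up (up y) → y = 4 ∨ y = 5 ∨ y = 6 := by decide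
    rcases k1 _ h5 with k | k | k
    · exact Or.inl k
    · exact Or.inr k
    · exact absurd (hinj (k.trans h6.symm)) (by decide)
  have ha : (g : Perm (Fin 7)) 0 = 0 ∨ (g : Perm (Fin 7)) 0 = 1 ∨ (g : Perm (Fin 7)) 0 = 2 ∨ (g : Perm (Fin 7)) 0 = 3 := by
    have k1 : ∀ y : Fin 7, y ≠ up (up y) → y = 0 ∨ y = 1 ∨ y = 2 ∨ y = 3 := by decide
    refine k1 _ fun k => ?_
    have k2 := hinj (k.trans h2.symm)
    exact absurd k2 (by decide)
  have hs := g.2
  rw [mem_alternatingGroup] at hs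
  have key : ∀ k : Perm (Fin 7), k 0 = (g : Perm (Fin 7)) 0 → k 1 = (g : Perm (Fin 7)) 1 →
      k 2 = (g : Perm (Fin 7)) 2 → k 3 = (g : Perm (Fin 7)) 3 →
      k 4 = (g : Perm (Fin 7)) 4 → k 5 = (g : Perm (Fin 7)) 5 →
      k 6 = (g : Perm (Fin 7)) 6 → k = (g : Perm (Fin 7)) := by
    intro k e0 e1 e2 e3 e4 e5 e6
    ext x
    fin_cases x
    · exact congrArg Fin.val e0
    · exact congrArg Fin.val e1
    · exact congrArg Fin.val e2
    · exact congrArg Fin.val e3
    · exact congrArg Fin.val e4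
    · exact congrArg Fin.val e5
    · exact congrArg Fin.val e6
  -- all 8 possibilities
  have s45 : Perm.sign (swap (4 : Fin 7) 5) = -1 := sign_swap (by decide)
  have su : Perm.sign up = 1 := mem_alternatingGroup.1 up_mem
  have fin : ∀ (i : Fin 4), (up ^ (i : ℕ)) = (g : Perm (Fin 7)) → ∃ i : Fin 4, g = ub ^ (i : ℕ) :=
    fun i hi => ⟨i, Subtype.ext hi.symm⟩
  have fin' : ∀ (i : Fin 4), (up ^ (i : ℕ)) * swap 4 5 = (g : Perm (Fin 7)) → ∃ i : Fin 4, g = ub ^ (i : ℕ) := by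
    intro i hi
    exfalso
    rw [← hi, Perm.sign_mul, map_pow, su, one_pow, one_mul, s45] at hs
    exact absurd hs (by decide)
  rcases ha with ha | ha | ha | ha <;> rcases hb with hb | hb <;> rw [ha] at h1 h2 h3 <;> rw [hb] at h4
  · exact fin 0 (key _ (by rw [ha]; decide) (by rw [h1]; decide) (by rw [h2]; decide) (by rw [h3]; decide)
      (by rw [hb]; decide) (by rw [h4]; decide) (by rw [h6]; decide))
  · exact fin' 0 (key _ (by rw [ha]; decide) (by rw [h1]; decide) (by rw [h2]; decide) (by rw [h3]; decide)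
      (by rw [hb]; decide) (by rw [h4]; decide) (by rw [h6]; decide))
  · exact fin' 1 (key _ (by rw [ha]; decide) (by rw [h1]; decide) (by rw [h2]; decide) (by rw [h3]; decide)
      (by rw [hb]; decide) (by rw [h4]; decide) (by rw [h6]; decide))
  · exact fin 1 (key _ (by rw [ha]; decide) (by rw [h1]; decide) (by rw [h2]; decide) (by rw [h3]; decide)
      (by rw [hb]; decide) (by rw [h4]; decide) (by rw [h6]; decide))
  · exact fin 2 (key _ (by rw [ha]; decide) (by rw [h1]; decide) (by rw [h2]; decide) (by rw [h3]; decide)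
      (by rw [hb]; decide) (by rw [h4]; decide) (by rw [h6]; decide))
  · exact fin' 2 (key _ (by rw [ha]; decide) (by rw [h1]; decide) (by rw [h2]; decide) (by rw [h3]; decide)
      (by rw [hb]; decide) (by rw [h4]; decide) (by rw [h6]; decide))
  · exact fin' 3 (key _ (by rw [ha]; decide) (by rw [h1]; decide) (by rw [h2]; decide) (by rw [h3]; decide)
      (by rw [hb]; decide) (by rw [h4]; decide) (by rw [h6]; decide))
  · exact fin 3 (key _ (by rw [ha]; decide) (by rw [h1]; decide) (by rw [h2]; decide) (by rw [h3]; decide)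
      (by rw [hb]; decide) (by rw [h4]; decide) (by rw [h6]; decide))

end Cfsg.Agent.H783.PSqTwo
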