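import Mathlib
import Cfsg.Agent.H783.PSqTwoA

/-!
# The double cover of `A₇` : group theory, continued (for S4844, PS-11a)

`Cov K z π` : `K` perfect, `π : K → A₇` onto with kernel `{1, z}`, `z` a central involution.
-/

set_option autoImplicit false

namespace Cfsg.Agent.H783.PSqTwo

open Subgroup Equiv Equiv.Perm

universe u

variable {K : Type u} [Group K]

structure Cov (K : Type u) [Group K] (z : K) (π : K →* A7) : Prop where
  perf : commutator K = ⊤
  surj : Function.Surjective π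
  ker : ∀ g, π g = 1 ↔ g = 1 ∨ g = z
  cen : ∀ g, g * z = z * g
  z2 : z * z = 1
  z1 : z ≠ 1

theorem tu_pow {u t w : K} (h1 : Commute w u) (h : t * u = w * (u * t)) (k : ℕ) :
    t * u ^ k = w ^ k * (u ^ k * t) := by
  induction k with
  | zero => simp
  | succ k ih =>
    rw [pow_succ, ← mul_assoc, ih, mul_assoc, mul_assoc, h, ← mul_assoc (u ^ k) w, ← (h1.pow_right k).eq,
      pow_succ]
    simp only [mul_assoc]

theorem tj_uk {u t w : K} (h1 : Commute w u) (h2 : Commute w t) (h : t * u = w * (u * t)) (j k : ℕ) :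
    t ^ j * u ^ k = w ^ (j * k) * (u ^ k * t ^ j) := by
  induction j with
  | zero => simp
  | succ j ih =>
    rw [pow_succ', mul_assoc, ih, ← mul_assoc, ← (h2.pow_left (j * k)).eq, mul_assoc, ← mul_assoc t,
      tu_pow h1 h, add_mul, one_mul, pow_add]
    simp only [mul_assoc]

/-- in a group generated by `u`, `t` and a central element, commutators are powers of `w` -/
theorem mul_comm_w {u t w : K} (h1 : Commute w u) (h2 : Commute w t) (h : t * u = w * (u * t)) (hw : w * w = 1)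
    {d e : K} (hd : ∀ g, g * d = d * g) (he : ∀ g, g * e = e * g) (i j k l : ℕ) :
    (u ^ i * t ^ j * d) * (u ^ k * t ^ l * e) =
      w ^ (j * k + l * i) * ((u ^ k * t ^ l * e) * (u ^ i * t ^ j * d)) := by
  have a1 : (u ^ i * t ^ j * d) * (u ^ k * t ^ l * e) = w ^ (j * k) * (u ^ (i + k) * t ^ (j + l)) * (d * e) := by
    calc (u ^ i * t ^ j * d) * (u ^ k * t ^ l * e) = u ^ i * t ^ j * (d * (u ^ k * t ^ l)) * e := by
          simp only [mul_assoc]
      _ = u ^ i * (t ^ j * u ^ k) * t ^ l * (d * e) := by rw [← hd]; simp only [mul_assoc]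
      _ = (u ^ i * w ^ (j * k)) * (u ^ k * t ^ j) * t ^ l * (d * e) := by
          rw [tj_uk h1 h2 h]; simp only [mul_assoc]
      _ = w ^ (j * k) * (u ^ (i + k) * t ^ (j + l)) * (d * e) := by
          rw [← ((h1.pow_left (j * k)).pow_right i).eq, pow_add, pow_add]; simp only [mul_assoc]
  have a2 : (u ^ k * t ^ l * e) * (u ^ i * t ^ j * d) = w ^ (l * i) * (u ^ (i + k) * t ^ (j + l)) * (d * e) := by
    calc (u ^ k * t ^ l * e) * (u ^ i * t ^ j * d) = u ^ k * t ^ l * (e * (u ^ i * t ^ j)) * d := by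
          simp only [mul_assoc]
      _ = u ^ k * (t ^ l * u ^ i) * t ^ j * (e * d) := by rw [← he]; simp only [mul_assoc]
      _ = (u ^ k * w ^ (l * i)) * (u ^ i * t ^ l) * t ^ j * (e * d) := by
          rw [tj_uk h1 h2 h]; simp only [mul_assoc]
      _ = w ^ (l * i) * (u ^ (k + i) * t ^ (l + j)) * (e * d) := by
          rw [← ((h1.pow_left (l * i)).pow_right k).eq, pow_add, pow_add]; simp only [mul_assoc]
      _ = w ^ (l * i) * (u ^ (i + k) * t ^ (j + l)) * (d * e) := by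
          rw [add_comm k i, add_comm l j, hd e]
  rw [a1, a2]
  have a3 : w ^ (j * k + l * i) * w ^ (l * i) = w ^ (j * k) := by
    rw [pow_add, mul_assoc, ← (Commute.refl w).mul_pow, hw, one_pow, mul_one]
  rw [← a3]
  simp only [mul_assoc]

namespace Cov

variable {z : K} {π : K →* A7}

theorem pz (c : Cov K z π) : π z = 1 := (c.ker z).2 (Or.inr rfl)

theorem eq_or (c : Cov K z π) {a b : K} (h : π a = π b) : a = b ∨ a = b * z := by
  have h1 : π (b⁻¹ * a) = 1 := by rw [map_mul, map_inv, h, inv_mul_cancel]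
  rcases (c.ker _).1 h1 with h2 | h2
  · exact Or.inl (inv_mul_eq_one.1 h2).symm
  · exact Or.inr (inv_mul_eq_iff_eq_mul.1 h2)

/-- the preimage of the Sylow subgroup of `A₇` -/
abbrev S (_ : Cov K z π) : Subgroup K := Nb.comap π

theorem card_K (c : Cov K z π) : Nat.card K = 5040 := by
  have h1 : Nat.card π.ker = 2 := by
    have h2 : (π.ker : Set K) = {1, z} := by
      ext g
      simp only [SetLike.mem_coe, MonoidHom.mem_ker, Set.mem_insert_iff, Set.mem_singleton_iff]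
      exact c.ker g
    have h3 := Set.ncard_pair c.z1.symm
    rw [← h2] at h3
    exact h3
  have h2 := Subgroup.card_eq_card_quotient_mul_card_subgroup π.ker
  rw [h1, Nat.card_congr (QuotientGroup.quotientKerEquivOfSurjective π c.surj).toEquiv, card_A7] at h2
  exact h2

theorem index_S (c : Cov K z π) : c.S.index = 315 := by
  unfold S
  rw [Subgroup.index_comap_of_surjective _ c.surj]
  have h := Nb.card_mul_index
  rw [card_Nb, card_A7] at h
  omega

theorem card_S (c : Cov K z π) : Nat.card c.S = 16 := by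
  have h := c.S.card_mul_index
  rw [c.index_S, c.card_K] at h
  omega

theorem z_mem (c : Cov K z π) : z ∈ c.S := by
  change π z ∈ Nb
  rw [c.pz]
  exact Nb.one_mem

theorem z_pow (c : Cov K z π) (n : ℕ) : z ^ n = 1 ∨ z ^ n = z := by
  induction n with
  | zero => exact Or.inl (pow_zero _)
  | succ n ih =>
    rcases ih with h | h
    · right; rw [pow_succ, h, one_mul]
    · left; rw [pow_succ, h, c.z2]

/-- transfer : `z` lies in the commutator subgroup of the Sylow subgroup -/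
theorem z_comm [Finite K] (c : Cov K z π) : (⟨z, c.z_mem⟩ : c.S) ∈ commutator c.S := by
  have hfi : c.S.FiniteIndex := inferInstance
  let f : K →* Abelianization c.S := MonoidHom.transfer (Abelianization.of (G := c.S))
  have h1 : f z = 1 := by
    have h2 : z ∈ commutator K := by rw [c.perf]; exact mem_top z
    exact MonoidHom.mem_ker.1 (Abelianization.commutator_subset_ker f h2)
  have h3 : ∀ (k : ℕ) (g₀ : K), g₀⁻¹ * z ^ k * g₀ ∈ c.S → g₀⁻¹ * z ^ k * g₀ = z ^ k := by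
    intro k g₀ _
    have h4 : Commute z g₀ := (c.cen g₀).symm
    rw [mul_assoc, (h4.pow_left k).eq, ← mul_assoc, inv_mul_cancel, one_mul]
  have h5 := MonoidHom.transfer_eq_pow (Abelianization.of (G := c.S)) z h3
  have h6 : Abelianization.of (⟨z ^ c.S.index, MonoidHom.transfer_eq_pow_aux z h3⟩ : c.S) = 1 :=
    h5.symm.trans h1
  have h7 : z ^ c.S.index = z := by
    rw [c.index_S, show 315 = 2 * 157 + 1 by norm_num, pow_succ, pow_mul, pow_two, c.z2, one_pow, one_mul]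
  have h8 : (⟨z ^ c.S.index, MonoidHom.transfer_eq_pow_aux z h3⟩ : c.S) = ⟨z, c.z_mem⟩ := Subtype.ext h7
  rw [h8] at h6
  exact (QuotientGroup.eq_one_iff _).1 h6

theorem mem_S (c : Cov K z π) {u t : K} (hu : π u = ub) (ht : π t = tb) {s : K} (hs : s ∈ c.S) :
    (∃ i : Fin 4, ∃ d, (d = 1 ∨ d = z) ∧ s = u ^ (i : ℕ) * d) ∨
      (∃ i : Fin 4, ∃ d, (d = 1 ∨ d = z) ∧ s = u ^ (i : ℕ) * t * d) := by
  have h1 : ((π s : A7) : Perm (Fin 7)) ∈ Lp := hs
  have hup : ((ub : A7) : Perm (Fin 7)) = up := rfl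
  have htp : ((tb : A7) : Perm (Fin 7)) = tp := rfl
  rcases Lp_or _ h1 with ⟨i, hi⟩ | ⟨-, i, hi⟩
  · left
    have h2 : π s = π (u ^ (i : ℕ)) := by
      rw [map_pow, hu]
      exact Subtype.ext hi
    rcases c.eq_or h2 with h | h
    · exact ⟨i, 1, Or.inl rfl, by rw [h, mul_one]⟩
    · exact ⟨i, z, Or.inr rfl, h⟩
  · right
    have h2 : π s = π (u ^ (i : ℕ) * t) := by
      rw [map_mul, map_pow, hu, ht]
      exact Subtype.ext hi
    rcases c.eq_or h2 with h | h
    · exact ⟨i, 1, Or.inl rfl, by rw [h, mul_one]⟩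
    · exact ⟨i, z, Or.inr rfl, h⟩

theorem cen' (c : Cov K z π) {d : K} (hd : d = 1 ∨ d = z) (g : K) : g * d = d * g := by
  rcases hd with rfl | rfl
  · rw [mul_one, one_mul]
  · exact c.cen g

theorem mem_S' (c : Cov K z π) {u t : K} (hu : π u = ub) (ht : π t = tb) {s : K} (hs : s ∈ c.S) :
    ∃ i j : ℕ, ∃ d, (d = 1 ∨ d = z) ∧ s = u ^ i * t ^ j * d := by
  rcases c.mem_S hu ht hs with ⟨i, d, hd, h⟩ | ⟨i, d, hd, h⟩
  · exact ⟨i, 0, d, hd, by rw [pow_zero, mul_one]; exact h⟩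
  · exact ⟨i, 1, d, hd, by rw [pow_one]; exact h⟩

/-- `u ^ 4 = z` -/
theorem u4 [Finite K] (c : Cov K z π) {u t : K} (hu : π u = ub) (ht : π t = tb) : u ^ 4 = z := by
  have h0 : u ^ 4 = 1 ∨ u ^ 4 = z := (c.ker _).1 (by rw [map_pow, hu, ub4])
  refine h0.resolve_left fun h4 => ?_
  have h1 : t * u * t⁻¹ = u⁻¹ ∨ t * u * t⁻¹ = u⁻¹ * z :=
    c.eq_or (by rw [map_mul, map_mul, map_inv, map_inv, hu, ht, tub])
  obtain ⟨d, hd, h1⟩ : ∃ d, (d = 1 ∨ d = z) ∧ t * u * t⁻¹ = u⁻¹ * d := by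
    rcases h1 with h | h
    · exact ⟨1, Or.inl rfl, by rw [mul_one]; exact h⟩
    · exact ⟨z, Or.inr rfl, h⟩
  have hdc := c.cen' hd
  have hdd : d * d = 1 := by
    rcases hd with rfl | rfl
    · exact mul_one 1
    · exact c.z2
  let w : K := u⁻¹ * u⁻¹ * d
  have w1 : Commute w u := by
    have a1 : Commute (u⁻¹ * u⁻¹) u := ((Commute.refl u).inv_left).mul_left ((Commute.refl u).inv_left)
    exact a1.mul_left (hdc u).symm
  have hw : t * u = w * (u * t) := by
    have a1 : t * u = (u⁻¹ * d) * t := by rw [← h1, mul_assoc, inv_mul_cancel, mul_one]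
    rw [a1]
    change _ = u⁻¹ * u⁻¹ * d * (u * t)
    calc u⁻¹ * d * t = u⁻¹ * (t * d) := by rw [mul_assoc, hdc t]
      _ = u⁻¹ * u⁻¹ * (u * t * d) := by group
      _ = u⁻¹ * u⁻¹ * d * (u * t) := by rw [hdc (u * t), mul_assoc (u⁻¹ * u⁻¹)]
  have h44 : u⁻¹ * u⁻¹ = u * u := by
    have a1 : u * u * (u * u) = 1 := by
      have a2 : u ^ 4 = u * u * (u * u) := by
        rw [show 4 = 2 + 2 by norm_num, pow_add, pow_two]
      rw [← a2, h4]
    rw [← mul_inv_rev]
    exact inv_eq_of_mul_eq_one_right a1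
  have w2 : Commute w t := by
    have a1 : t * (u⁻¹ * u⁻¹) * t⁻¹ = u⁻¹ * u⁻¹ := by
      have a2 : t * (u⁻¹ * u⁻¹) * t⁻¹ = (t * u * t⁻¹)⁻¹ * (t * u * t⁻¹)⁻¹ := by group
      rw [a2, h1, mul_inv_rev, inv_inv]
      have a3 : d⁻¹ = d := inv_eq_of_mul_eq_one_left hdd
      rw [a3, h44, ← hdc u]
      calc u * d * (u * d) = u * (d * u) * d := by simp only [mul_assoc]
        _ = u * (u * d) * d := by rw [hdc u]
        _ = u * u * (d * d) := by simp only [mul_assoc]
        _ = u * u := by rw [hdd, mul_one]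
    have a4 : Commute (u⁻¹ * u⁻¹) t := by
      rw [mul_inv_eq_iff_eq_mul] at a1
      exact a1.symm
    exact a4.mul_left (hdc t).symm
  have ww : w * w = 1 := by
    change u⁻¹ * u⁻¹ * d * (u⁻¹ * u⁻¹ * d) = 1
    calc u⁻¹ * u⁻¹ * d * (u⁻¹ * u⁻¹ * d) = u⁻¹ * u⁻¹ * (d * (u⁻¹ * u⁻¹)) * d := by simp only [mul_assoc]
      _ = u⁻¹ * u⁻¹ * ((u⁻¹ * u⁻¹) * d) * d := by rw [hdc (u⁻¹ * u⁻¹)]
      _ = (u⁻¹ * u⁻¹ * (u⁻¹ * u⁻¹)) * (d * d) := by simp only [mul_assoc]
      _ = (u * u * (u⁻¹ * u⁻¹)) := by rw [hdd, mul_one]; exact congrArg (· * (u⁻¹ * u⁻¹)) h44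
      _ = 1 := by group
  have hpw : π w ≠ 1 := by
    intro h
    have a1 : π w = (π u)⁻¹ * (π u)⁻¹ * π d := by
      change π (u⁻¹ * u⁻¹ * d) = _
      rw [map_mul, map_mul, map_inv]
    have a2 : π d = 1 := by
      rcases hd with rfl | rfl
      · exact map_one π
      · exact c.pz
    rw [a1, a2, mul_one, hu, ← mul_inv_rev, inv_eq_one] at h
    exact ub2 (by rw [pow_two]; exact h)
  have hwS : w ∈ c.S := by
    have hu' : u ∈ c.S := by
      change π u ∈ Nb
      rw [hu]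
      change up ∈ Lp
      exact (pow_one up) ▸ pow_in 1
    have hd' : d ∈ c.S := by
      rcases hd with rfl | rfl
      · exact one_mem _
      · exact c.z_mem
    exact mul_mem (mul_mem (inv_mem hu') (inv_mem hu')) hd'
  have hle : commutator c.S ≤ Subgroup.zpowers (⟨w, hwS⟩ : c.S) := by
    rw [commutator_eq_closure, Subgroup.closure_le]
    rintro x ⟨a, b, rfl⟩
    obtain ⟨i, j, d₁, hd₁, h₁⟩ := c.mem_S' hu ht a.2
    obtain ⟨k, l, d₂, hd₂, h₂⟩ := c.mem_S' hu ht b.2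
    have a1 := mul_comm_w w1 w2 hw ww (c.cen' hd₁) (c.cen' hd₂) i j k l
    rw [← h₁, ← h₂] at a1
    refine Subgroup.mem_zpowers_iff.2 ⟨((j * k + l * i : ℕ) : ℤ), ?_⟩
    refine Subtype.ext ?_
    rw [zpow_natCast]
    change w ^ (j * k + l * i) = (a : K) * b * (a : K)⁻¹ * (b : K)⁻¹
    rw [a1]
    group
  obtain ⟨n, hn⟩ := Subgroup.mem_zpowers_iff.1 (hle c.z_comm)
  have hn' : w ^ n = z := congrArg Subtype.val hn
  have hww : w ^ (2 : ℤ) = 1 := by rw [zpow_ofNat, pow_two]; exact ww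
  rcases Int.even_or_odd' n with ⟨m, hm | hm⟩
  · rw [hm, zpow_mul, hww, one_zpow] at hn'
    exact c.z1 hn'.symm
  · rw [hm, zpow_add, zpow_mul, hww, one_zpow, one_mul, zpow_one] at hn'
    exact hpw (by rw [hn', c.pz])

/-- `u ^ 2` is inverted, that is multiplied by `z`, by the elements of `S` outside `⟨u⟩` -/
theorem t_u2 [Finite K] (c : Cov K z π) {u t : K} (hu : π u = ub) (ht : π t = tb) :
    t * (u * u) = (u * u) * z * t := by
  have h4 := c.u4 hu ht
  have h1 : t * u * t⁻¹ = u⁻¹ ∨ t * u * t⁻¹ = u⁻¹ * z :=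
    c.eq_or (by rw [map_mul, map_mul, map_inv, map_inv, hu, ht, tub])
  have h2 : t * (u * u) * t⁻¹ = u⁻¹ * u⁻¹ := by
    have a2 : t * (u * u) * t⁻¹ = (t * u * t⁻¹) * (t * u * t⁻¹) := by group
    rw [a2]
    rcases h1 with h | h
    · rw [h]
    · rw [h]
      calc u⁻¹ * z * (u⁻¹ * z) = u⁻¹ * (z * u⁻¹) * z := by simp only [mul_assoc]
        _ = u⁻¹ * (u⁻¹ * z) * z := by rw [c.cen u⁻¹]
        _ = u⁻¹ * u⁻¹ * (z * z) := by simp only [mul_assoc]
        _ = u⁻¹ * u⁻¹ := by rw [c.z2, mul_one]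
  have h3 : u⁻¹ * u⁻¹ = u * u * z := by
    have a2 : u ^ 4 = u * u * (u * u) := by
      rw [show 4 = 2 + 2 by norm_num, pow_add, pow_two]
    rw [← mul_inv_rev, inv_eq_iff_mul_eq_one, ← mul_assoc, ← a2, h4, c.z2]
  rw [h3, mul_inv_eq_iff_eq_mul] at h2
  exact h2

/-- the elements of `S` outside `⟨u⟩` are conjugate to their product with `z` -/
theorem conj_out [Finite K] (c : Cov K z π) {u t : K} (hu : π u = ub) (ht : π t = tb) (i : ℕ) {d : K}
    (hd : d = 1 ∨ d = z) : ∃ g : K, g * (u ^ i * t * d) * g⁻¹ = (u ^ i * t * d) * z := by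
  refine ⟨(u * u), ?_⟩
  rw [mul_inv_eq_iff_eq_mul]
  have hdc := c.cen' hd
  have h1 : Commute (u * u) (u ^ i) := ((Commute.refl u).mul_left (Commute.refl u)).pow_right i
  calc u * u * (u ^ i * t * d) = (u * u * u ^ i) * t * d := by simp only [mul_assoc]
    _ = u ^ i * ((u * u) * t) * d := by rw [h1.eq]; simp only [mul_assoc]
    _ = u ^ i * ((u * u) * z * t * z) * d := by
        congr 2
        rw [mul_assoc (u * u * z), c.cen t, ← mul_assoc, mul_assoc (u * u), c.z2, mul_one]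
    _ = u ^ i * (t * (u * u) * z) * d := by rw [← c.t_u2 hu ht]
    _ = u ^ i * t * (u * u * z * d) := by simp only [mul_assoc]
    _ = u ^ i * t * (d * (z * (u * u))) := by rw [hdc, c.cen (u * u)]
    _ = u ^ i * t * d * z * (u * u) := by simp only [mul_assoc]

theorem conj_u2 [Finite K] (c : Cov K z π) {u t : K} (hu : π u = ub) (ht : π t = tb) :
    t * (u ^ 2) * t⁻¹ = u ^ 2 * z := by
  rw [mul_inv_eq_iff_eq_mul, pow_two]
  exact c.t_u2 hu ht

/-- the centralizer of `u` -/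
theorem cent_u [Finite K] (c : Cov K z π) {u t : K} (hu : π u = ub) (ht : π t = tb) {a : K}
    (h : π (a * u) = π (u * a)) : a ∈ Subgroup.zpowers u := by
  rw [map_mul, map_mul, hu] at h
  obtain ⟨i, hi⟩ := cent_ub _ h
  have h2 : π a = π (u ^ (i : ℕ)) := by rw [map_pow, hu]; exact hi
  rcases c.eq_or h2 with h3 | h3
  · rw [h3]
    exact Subgroup.npow_mem_zpowers u _
  · rw [h3, ← c.u4 hu ht]
    exact mul_mem (Subgroup.npow_mem_zpowers u _) (Subgroup.npow_mem_zpowers u _)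

theorem order_u [Finite K] (c : Cov K z π) {u t : K} (hu : π u = ub) (ht : π t = tb) : orderOf u = 8 := by
  have h4 := c.u4 hu ht
  have h := orderOf_eq_prime_pow (p := 2) (n := 2) (x := u) (by
    rw [show 2 ^ 2 = 4 by norm_num, h4]; exact c.z1) (by
    rw [show 2 ^ (2 + 1) = 4 * 2 by norm_num, pow_mul, h4, pow_two, c.z2])
  rw [h]
  norm_num

theorem card_cent [Finite K] (c : Cov K z π) {u t : K} (hu : π u = ub) (ht : π t = tb) :
    Nat.card {a : K // a * u * a⁻¹ = u} = 8 := by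
  have h1 : Nat.card {a : K // a * u * a⁻¹ = u} = Nat.card (Subgroup.zpowers u) := by
    refine Nat.card_congr (Equiv.subtypeEquivRight fun a => ⟨fun h => ?_, fun h => ?_⟩)
    · exact c.cent_u hu ht (by rw [mul_inv_eq_iff_eq_mul.1 h])
    · obtain ⟨n, rfl⟩ := Subgroup.mem_zpowers_iff.1 h
      rw [mul_inv_eq_iff_eq_mul]
      exact ((Commute.refl u).zpow_left n).eq
  rw [h1, Nat.card_zpowers, c.order_u hu ht]

theorem card_nocent [Finite K] (c : Cov K z π) {u t : K} (hu : π u = ub) (ht : π t = tb) :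
    Nat.card {a : K // a * (u * z) * a⁻¹ = u} = 0 := by
  have h1 : IsEmpty {a : K // a * (u * z) * a⁻¹ = u} := by
    refine ⟨fun ⟨a, ha⟩ => ?_⟩
    rw [mul_inv_eq_iff_eq_mul] at ha
    have h2 : a ∈ Subgroup.zpowers u := by
      refine c.cent_u hu ht ?_
      rw [← ha, ← mul_assoc, map_mul π (a * u) z, c.pz, mul_one]
    obtain ⟨n, rfl⟩ := Subgroup.mem_zpowers_iff.1 h2
    rw [← mul_assoc, ((Commute.refl u).zpow_left n).eq] at ha
    exact c.z1 (mul_eq_left.1 ha)
  exact Nat.card_of_isEmpty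

end Cov

end Cfsg.Agent.H783.PSqTwo
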