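import Mathlib
import Cfsg.Agent.H783.PSqTwoB
import Cfsg.Agent.H33.IM
import Cfsg.Agent.S0848
import Cfsg.Agent.Blocks.Central
import Cfsg.Agent.CharactersDeep.SmallDegree

/-!
# The double cover of `A₇` has a character degree divisible by `4` (for S4844, PS-11a)

`seven_central` : `K` perfect, `V ≤ Z(K)`, `|V| = 2`, `K / V ≅ A₇`  ⟹  `IM 4 K`.
-/

set_option autoImplicit false

namespace Cfsg.Agent.H783.PSqTwo

open Subgroup Cfsg
open Cfsg.Agent
open scoped ComplexConjugate

universe u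

variable {K : Type u} [Group K]

namespace Cov

variable {z : K} {π : K →* A7}

theorem sgn [Finite K] (c : Cov K z π) {χ : K → ℂ} (hχ : IsIrrCharacter K χ) :
    (∀ g, χ (g * z) = χ g) ∨ (∀ g, χ (g * z) = - χ g) := by
  obtain ⟨ω, -, h⟩ := CharactersDeep.SmallDegree.exists_central_mul hχ c.cen
  have h1 : χ 1 ≠ 0 := Blocks.Central.irr_one_ne_zero hχ
  have h2 : ω * ω = 1 := by
    have h3 : χ 1 = ω * (ω * χ 1) := by
      rw [← h, ← h, one_mul, c.z2]
    have h4 : (ω * ω - 1) * χ 1 = 0 := by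
      rw [sub_mul, one_mul, mul_assoc, ← h3, sub_self]
    exact sub_eq_zero.1 ((mul_eq_zero.1 h4).resolve_right h1)
  rcases mul_self_eq_one_iff.1 h2 with h3 | h3
  · left; intro g; rw [h, h3, one_mul]
  · right; intro g; rw [h, h3, neg_one_mul]

/-- the faithful characters -/
def Gen (z : K) (χ : K → ℂ) : Prop := ∀ g, χ (g * z) = - χ g

open scoped Classical in
/-- the set of the faithful irreducible characters -/
noncomputable def gens (z : K) [Fintype (IrrCharacter K)] : Finset (IrrCharacter K) :=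
  Finset.univ.filter (fun χ : IrrCharacter K => Gen z (χ : K → ℂ))

theorem mem_gens (z : K) [Fintype (IrrCharacter K)] (χ : IrrCharacter K) : χ ∈ gens z ↔ Gen z (χ : K → ℂ) := by
  classical
  simp [gens]

theorem sum_gen [Finite K] [Fintype (IrrCharacter K)] (c : Cov K z π) (x y : K) :
    2 * ∑ χ ∈ gens z, (χ : K → ℂ) x * conj ((χ : K → ℂ) y) =
      (Nat.card {a : K // a * x * a⁻¹ = y} : ℂ) - (Nat.card {a : K // a * (x * z) * a⁻¹ = y} : ℂ) := by
  classical
  rw [S0848.column_orth, S0848.column_orth, ← Finset.sum_sub_distrib, gens, Finset.sum_filter, Finset.mul_sum]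
  refine Finset.sum_congr rfl fun χ _ => ?_
  split_ifs with h
  · rw [h x]; ring
  · rcases c.sgn χ.2 with h1 | h1
    · rw [h1 x]; ring
    · exact absurd h1 h

/-- The values on the elements of the Sylow subgroup outside `⟨u⟩`, and on `u ^ 2`, are `0`. -/
theorem zero_of_conj {χ : K → ℂ} (hχ : IsIrrCharacter K χ) (hG : Gen z χ) {s : K}
    (h : ∃ g : K, g * s * g⁻¹ = s * z) : χ s = 0 := by
  obtain ⟨g, hg⟩ := h
  have h1 : χ (s * z) = χ s := by
    rw [← hg]
    exact Characters.Core.isIrr_isClassFunction hχ _ _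
  rw [hG s] at h1
  have h2 : (2 : ℂ) * χ s = 0 := by linear_combination -h1
  exact (mul_eq_zero.1 h2).resolve_left two_ne_zero

open scoped Classical in
/-- the norm of the restriction to the Sylow subgroup -/
theorem norm_S [Finite K] (c : Cov K z π) {u t : K} (hu : π u = ub) (ht : π t = tb)
    {χ : K → ℂ} (hχ : IsIrrCharacter K χ) (hG : Gen z χ) :
    ∃ n : ℕ, (16 : ℝ) * n = 2 * (charDegree χ : ℝ) ^ 2 + 4 * Complex.normSq (χ u) := by
  have := Fintype.ofFinite K
  have h4 := c.u4 hu ht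
  have hc := Characters.Core.isIrr_isCharacter hχ
  obtain ⟨n, hn⟩ := Characters.Core.classInner_isNat
    (Characters.Core.isCharacter_comp c.S.subtype hc) (Characters.Core.isCharacter_comp c.S.subtype hc)
  refine ⟨n, ?_⟩
  rw [Characters.Core.classInner_self_eq_ofReal, c.card_S] at hn
  have h1 : (((16 : ℕ) : ℝ)⁻¹ * ∑ g : c.S, Complex.normSq (χ g) : ℝ) = n := by
    have := congrArg Complex.re hn
    simpa using this
  have h2 : ∑ g : c.S, Complex.normSq (χ g) = ∑ k : Fin 8, Complex.normSq (χ (u ^ (k : ℕ))) := by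
    have hord := c.order_u hu ht
    have hinj : Function.Injective (fun k : Fin 8 => u ^ (k : ℕ)) := by
      intro a b hab
      refine Fin.ext ?_
      exact pow_injOn_Iio_orderOf (by rw [hord]; exact a.2) (by rw [hord]; exact b.2) hab
    have huS : ∀ k : ℕ, u ^ k ∈ c.S := by
      intro k
      refine pow_mem ?_ k
      change π u ∈ Nb
      rw [hu]
      change up ∈ Lp
      exact (pow_one up) ▸ pow_in 1
    let f : Fin 8 → c.S := fun k => ⟨u ^ (k : ℕ), huS k⟩
    have hf : Function.Injective f := fun a b hab => hinj (congrArg Subtype.val hab)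
    have h3 : ∑ k : Fin 8, Complex.normSq (χ (u ^ (k : ℕ))) =
        ∑ g ∈ Finset.univ.image f, Complex.normSq (χ g) := by
      rw [Finset.sum_image (fun a _ b _ hab => hf hab)]
    rw [h3]
    symm
    refine Finset.sum_subset (Finset.subset_univ _) fun s _ hs => ?_
    rcases c.mem_S hu ht s.2 with ⟨i, d, hd, h⟩ | ⟨i, d, hd, h⟩
    · exfalso
      apply hs
      rw [Finset.mem_image]
      rcases hd with rfl | rfl
      · exact ⟨⟨(i : ℕ), by omega⟩, Finset.mem_univ _, Subtype.ext (by rw [h, mul_one])⟩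
      · refine ⟨⟨(i : ℕ) + 4, by omega⟩, Finset.mem_univ _, Subtype.ext ?_⟩
        rw [h]
        change u ^ ((i : ℕ) + 4) = _
        rw [pow_add, h4]
    · have h5 : χ s = 0 := by
        rw [h]
        exact zero_of_conj hχ hG (c.conj_out hu ht i hd)
      rw [h5, map_zero]
  have v0 : Complex.normSq (χ 1) = (charDegree χ : ℝ) ^ 2 := by
    rw [Blocks.Knorr.charDegree_eq hχ, Complex.normSq_natCast, pow_two]
  have hinv : ∀ g, Complex.normSq (χ g⁻¹) = Complex.normSq (χ g) := by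
    intro g
    rw [Characters.Core.isCharacter_apply_inv hc, Complex.normSq_conj]
  have hz : ∀ g, Complex.normSq (χ (g * z)) = Complex.normSq (χ g) := by
    intro g
    rw [hG g, Complex.normSq_neg]
  have v2 : Complex.normSq (χ (u ^ 2)) = 0 := by
    rw [zero_of_conj hχ hG ⟨t, c.conj_u2 hu ht⟩, map_zero]
  have v4 : Complex.normSq (χ (u ^ 4)) = (charDegree χ : ℝ) ^ 2 := by
    rw [← v0, ← hz 1, h4, one_mul]
  have v3 : Complex.normSq (χ (u ^ 3)) = Complex.normSq (χ u) := by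
    have e : u ^ 3 = u⁻¹ * z := by rw [← h4]; group
    rw [e, hz, hinv]
  have v5 : Complex.normSq (χ (u ^ 5)) = Complex.normSq (χ u) := by
    have e : u ^ 5 = u * z := by rw [← h4]; group
    rw [e, hz]
  have v6 : Complex.normSq (χ (u ^ 6)) = 0 := by
    have e : u ^ 6 = u ^ 2 * z := by rw [← h4]; group
    rw [e, hz, v2]
  have v7 : Complex.normSq (χ (u ^ 7)) = Complex.normSq (χ u) := by
    have e : u ^ 7 = u⁻¹ * z * z := by rw [← h4]; group
    rw [e, hz, hz, hinv]
  rw [h2, Fin.sum_univ_eight] at h1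
  have e0 : ((0 : Fin 8) : ℕ) = 0 := rfl
  have e1 : ((1 : Fin 8) : ℕ) = 1 := rfl
  have e2 : ((2 : Fin 8) : ℕ) = 2 := rfl
  have e3 : ((3 : Fin 8) : ℕ) = 3 := rfl
  have e4 : ((4 : Fin 8) : ℕ) = 4 := rfl
  have e5 : ((5 : Fin 8) : ℕ) = 5 := rfl
  have e6 : ((6 : Fin 8) : ℕ) = 6 := rfl
  have e7 : ((7 : Fin 8) : ℕ) = 7 := rfl
  rw [e0, e1, e2, e3, e4, e5, e6, e7, pow_zero, pow_one, v0, v2, v3, v4, v5, v6, v7] at h1
  push_cast at h1
  linarith

/-- if `4 ∤ χ(1)` then `|χ(u)|² ≥ 2` -/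
theorem two_le [Finite K] (c : Cov K z π) {u t : K} (hu : π u = ub) (ht : π t = tb)
    {χ : K → ℂ} (hχ : IsIrrCharacter K χ) (hG : Gen z χ) (h4 : ¬ 4 ∣ charDegree χ) :
    2 ≤ Complex.normSq (χ u) := by
  obtain ⟨n, hn⟩ := c.norm_S hu ht hχ hG
  have hc := Characters.Core.isIrr_isCharacter hχ
  set T : ℝ := Complex.normSq (χ u) with hT
  have hT0 : 0 ≤ T := Complex.normSq_nonneg _
  set d : ℕ := charDegree χ with hd
  have hint : IsIntegral ℤ ((T : ℝ) : ℂ) := by
    have h1 : ((T : ℝ) : ℂ) = χ u * χ u⁻¹ := by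
      rw [Characters.Core.isCharacter_apply_inv hc, Complex.mul_conj]
    rw [h1]
    exact (Blocks.Central.isIntegral_irr hχ _).mul (Blocks.Central.isIntegral_irr hχ _)
  let q : ℚ := 4 * n - (d : ℚ) ^ 2 / 2
  have hq : ((q : ℚ) : ℂ) = ((T : ℝ) : ℂ) := by
    have h1 : T = 4 * n - (d : ℝ) ^ 2 / 2 := by linarith
    rw [h1]
    change (((4 * n - (d : ℚ) ^ 2 / 2 : ℚ)) : ℂ) = _
    push_cast
    rfl
  rw [← hq] at hint
  have hint2 : IsIntegral ℤ q := by
    have h1 : ((q : ℚ) : ℂ) = algebraMap ℚ ℂ q := rfl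
    rw [h1] at hint
    exact (isIntegral_algebraMap_iff (algebraMap ℚ ℂ).injective).1 hint
  obtain ⟨k, hk⟩ := IsIntegrallyClosed.isIntegral_iff.1 hint2
  have hk1 : (k : ℚ) = 4 * n - (d : ℚ) ^ 2 / 2 := hk
  have hk2 : 2 * k = 8 * (n : ℤ) - (d : ℤ) ^ 2 := by
    have h1 : (2 * k : ℚ) = 8 * n - (d : ℚ) ^ 2 := by linarith
    exact_mod_cast h1
  have hTk : T = k := by
    have h1 : T = 4 * n - (d : ℝ) ^ 2 / 2 := by linarith
    have h2 : (2 * k : ℝ) = 8 * (n : ℝ) - (d : ℝ) ^ 2 := by exact_mod_cast hk2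
    linarith
  rw [hTk] at hT0 ⊢
  have hk0 : 0 ≤ k := by exact_mod_cast hT0
  have hk3 : 2 ≤ k := by
    have hev : Even (d : ℤ) := by
      by_contra hcon
      rw [Int.not_even_iff_odd] at hcon
      have h1 := hcon.pow (n := 2)
      obtain ⟨r, hr⟩ := h1
      omega
    have hev2 : Even d := by exact_mod_cast hev
    obtain ⟨m, hm⟩ := hev2
    have hm2 : ¬ Even m := by
      rintro ⟨l, hl⟩
      exact h4 ⟨l, by omega⟩
    rw [Nat.not_even_iff_odd] at hm2
    obtain ⟨l, hl⟩ := hm2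
    rw [hm, hl] at hk2
    push_cast at hk2
    have h5 : k = 4 * ((n : ℤ) - 2 * (l : ℤ) ^ 2 - 2 * l) - 2 := by linarith
    omega
  exact_mod_cast hk3

theorem sum_u [Finite K] [Fintype (IrrCharacter K)] (c : Cov K z π) {u t : K} (hu : π u = ub) (ht : π t = tb) :
    ∑ χ ∈ gens z, Complex.normSq ((χ : K → ℂ) u) = 4 := by
  have h := c.sum_gen u u
  rw [c.card_cent hu ht, c.card_nocent hu ht] at h
  simp only [Complex.mul_conj] at h
  rw [← Complex.ofReal_sum] at h
  have h2 : ((2 * ∑ χ ∈ gens z, Complex.normSq ((χ : K → ℂ) u) : ℝ) : ℂ) = ((8 : ℝ) : ℂ) := by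
    push_cast
    push_cast at h
    rw [h]
    norm_num
  have h3 := Complex.ofReal_injective h2
  linarith

theorem sum_one [Finite K] [Fintype (IrrCharacter K)] (c : Cov K z π) :
    ∑ χ ∈ gens z, (charDegree (χ : K → ℂ)) ^ 2 = 2520 := by
  have h := c.sum_gen 1 1
  have h1 : Nat.card {a : K // a * 1 * a⁻¹ = 1} = 5040 := by
    rw [← c.card_K]
    exact Nat.card_congr (Equiv.subtypeUnivEquiv fun a => by group)
  have h2 : Nat.card {a : K // a * (1 * z) * a⁻¹ = 1} = 0 := by
    have : IsEmpty {a : K // a * (1 * z) * a⁻¹ = 1} := by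
      refine ⟨fun ⟨a, ha⟩ => ?_⟩
      rw [one_mul, c.cen, mul_assoc, mul_inv_cancel, mul_one] at ha
      exact c.z1 ha
    exact Nat.card_of_isEmpty
  rw [h1, h2] at h
  have h3 : ∑ χ ∈ gens z, (χ : K → ℂ) 1 * conj ((χ : K → ℂ) 1) =
      ((∑ χ ∈ gens z, (charDegree (χ : K → ℂ)) ^ 2 : ℕ) : ℂ) := by
    push_cast
    refine Finset.sum_congr rfl fun χ _ => ?_
    rw [Blocks.Knorr.charDegree_eq χ.2, Complex.conj_natCast, pow_two]
  rw [h3] at h
  have h4 : ((2 * ∑ χ ∈ gens z, (charDegree (χ : K → ℂ)) ^ 2 : ℕ) : ℂ) = ((5040 : ℕ) : ℂ) := by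
    rw [Nat.cast_mul, Nat.cast_ofNat, h]
    push_cast
    ring
  have h5 : 2 * ∑ χ ∈ gens z, (charDegree (χ : K → ℂ)) ^ 2 = 5040 := Nat.cast_injective h4
  omega

theorem sum_uone [Finite K] [Fintype (IrrCharacter K)] (c : Cov K z π) {u : K} (hu : π u = ub) :
    ∑ χ ∈ gens z, (χ : K → ℂ) u * (charDegree (χ : K → ℂ) : ℂ) = 0 := by
  have h := c.sum_gen u 1
  have hu1 : π u ≠ 1 := by
    rw [hu]
    intro h
    exact ub2 (by rw [h, one_pow])
  have h1 : Nat.card {a : K // a * u * a⁻¹ = 1} = 0 := by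
    have : IsEmpty {a : K // a * u * a⁻¹ = 1} := by
      refine ⟨fun ⟨a, ha⟩ => ?_⟩
      rw [conj_eq_one_iff] at ha
      exact hu1 (by rw [ha, map_one])
    exact Nat.card_of_isEmpty
  have h2 : Nat.card {a : K // a * (u * z) * a⁻¹ = 1} = 0 := by
    have : IsEmpty {a : K // a * (u * z) * a⁻¹ = 1} := by
      refine ⟨fun ⟨a, ha⟩ => ?_⟩
      rw [conj_eq_one_iff] at ha
      have h3 := congrArg π ha
      rw [map_mul, c.pz, mul_one, map_one] at h3
      exact hu1 h3
    exact Nat.card_of_isEmpty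
  rw [h1, h2, sub_self] at h
  have h3 := (mul_eq_zero.1 h).resolve_left two_ne_zero
  rw [← h3]
  refine Finset.sum_congr rfl fun χ _ => ?_
  rw [Blocks.Knorr.charDegree_eq χ.2, Complex.conj_natCast]

theorem exists_four [Finite K] (c : Cov K z π) : ∃ χ : IrrCharacter K, 4 ∣ charDegree (χ : K → ℂ) := by
  classical
  obtain ⟨u, hu⟩ := c.surj ub
  obtain ⟨t, ht⟩ := c.surj tb
  by_contra hcon
  push Not at hcon
  have : Finite (IrrCharacter K) := Characters.Core.finite_irr
  have : Fintype (IrrCharacter K) := Fintype.ofFinite _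
  have h2 : ∀ χ ∈ gens z, 2 ≤ Complex.normSq ((χ : K → ℂ) u) := fun χ hχ =>
    c.two_le hu ht χ.2 ((mem_gens z χ).1 hχ) (hcon χ)
  have hs := c.sum_u hu ht
  have h1 := c.sum_one
  have h0 := c.sum_uone hu
  have hcard : (gens z : Finset (IrrCharacter K)).card ≤ 2 := by
    have h3 := Finset.card_nsmul_le_sum (gens z) (fun χ : IrrCharacter K => Complex.normSq ((χ : K → ℂ) u)) 2 h2
    rw [hs, nsmul_eq_mul] at h3
    have h4 : ((gens z : Finset (IrrCharacter K)).card : ℝ) ≤ 2 := by linarith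
    exact_mod_cast h4
  have hc3 : (gens z : Finset (IrrCharacter K)).card = 0 ∨ (gens z : Finset (IrrCharacter K)).card = 1 ∨
      (gens z : Finset (IrrCharacter K)).card = 2 := by omega
  rcases hc3 with h | h | h
  · rw [Finset.card_eq_zero] at h
    rw [h, Finset.sum_empty] at h1
    exact absurd h1 (by norm_num)
  · obtain ⟨χ, hχ⟩ := Finset.card_eq_one.1 h
    rw [hχ, Finset.sum_singleton] at h1
    generalize charDegree (χ : K → ℂ) = d at h1
    have h5 : d ≤ 50 := by nlinarith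
    have h6 : 51 ≤ d := by nlinarith
    omega
  · obtain ⟨χ, ψ, hne, hχ⟩ := Finset.card_eq_two.1 h
    have m1 := h2 χ (by rw [hχ]; simp)
    have m2 := h2 ψ (by rw [hχ]; simp)
    rw [hχ, Finset.sum_pair hne] at h1 hs h0
    have t1 : Complex.normSq ((χ : K → ℂ) u) = 2 := by linarith
    have t2 : Complex.normSq ((ψ : K → ℂ) u) = 2 := by linarith
    have e : (χ : K → ℂ) u * (charDegree (χ : K → ℂ) : ℂ) = -((ψ : K → ℂ) u * (charDegree (ψ : K → ℂ) : ℂ)) :=
      eq_neg_of_add_eq_zero_left h0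
    have e2 := congrArg Complex.normSq e
    rw [Complex.normSq_neg, Complex.normSq_mul, Complex.normSq_mul, t1, t2, Complex.normSq_natCast,
      Complex.normSq_natCast] at e2
    have e3 : charDegree (χ : K → ℂ) * charDegree (χ : K → ℂ) =
        charDegree (ψ : K → ℂ) * charDegree (ψ : K → ℂ) := by
      have e4 : ((charDegree (χ : K → ℂ) : ℝ) * charDegree (χ : K → ℂ)) =
        (charDegree (ψ : K → ℂ) : ℝ) * charDegree (ψ : K → ℂ) := by linarith
      exact_mod_cast e4
    have e5 : charDegree (χ : K → ℂ) ^ 2 = 1260 := by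
      rw [pow_two, pow_two, ← e3] at h1
      rw [pow_two]
      omega
    generalize charDegree (χ : K → ℂ) = d at e5
    have h5 : d ≤ 35 := by nlinarith
    have h6 : 36 ≤ d := by nlinarith
    omega

end Cov

/-- **PS-11a**: a perfect central extension of `A₇` by a group of order `2` has a character degree divisible
by `4`. -/
theorem seven_central [Finite K] (hK : commutator K = ⊤) {V : Subgroup K} [V.Normal] (hV : V ≤ center K)
    (hV2 : Nat.card V = 2) (e : Nonempty (K ⧸ V ≃* alternatingGroup (Fin 7))) : H33.IM 4 K := by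
  obtain ⟨e⟩ := e
  obtain ⟨z, hz1, hz⟩ : ∃ z : K, z ≠ 1 ∧ ∀ g, g ∈ V ↔ g = 1 ∨ g = z := by
    have h1 : (V : Set K).ncard = 2 := hV2
    obtain ⟨a, b, hab, h2⟩ := Set.ncard_eq_two.1 h1
    have hm : ∀ g, g ∈ V ↔ g = a ∨ g = b := by
      intro g
      rw [← SetLike.mem_coe, h2]
      simp
    rcases (hm 1).1 V.one_mem with h | h
    · exact ⟨b, fun hb => hab (h.symm.trans hb.symm), by rw [h]; exact hm⟩
    · refine ⟨a, fun hb => hab (hb.trans h), fun g => ?_⟩
      rw [hm g, h, or_comm]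
  have hzV : z ∈ V := (hz z).2 (Or.inr rfl)
  let π : K →* A7 := e.toMonoidHom.comp (QuotientGroup.mk' V)
  have c : Cov K z π := by
    refine ⟨hK, e.surjective.comp (QuotientGroup.mk'_surjective V), fun g => ?_, fun g => ?_, ?_, hz1⟩
    · rw [← hz g]
      change e (QuotientGroup.mk' V g) = 1 ↔ _
      rw [map_eq_one_iff e e.injective]
      exact QuotientGroup.eq_one_iff g
    · exact mem_center_iff.1 (hV hzV) g
    · rcases (hz (z * z)).1 (mul_mem hzV hzV) with h | h
      · exact h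
      · exact absurd (mul_eq_left.1 h) hz1
  exact c.exists_four

/-- the form for helper932 -/
theorem seven_two_central [Finite K] (hK : commutator K = ⊤) {V : Subgroup K} [V.Normal] (hV : V ≤ center K)
    (h2 : Nat.card V = 2) (e : Nonempty (K ⧸ V ≃* alternatingGroup (Fin 7))) : H33.IM 4 K :=
  seven_central hK hV h2 e

end Cfsg.Agent.H783.PSqTwo
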