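import Cfsg.Agent.LieClassical.HermBasic

/-!
# A character sum over `F_{q²}`, `q` even (helper783, for S3463)

`exists_c` : "a hermitian form in two variables is isotropic", for characters.
-/

set_option autoImplicit false

namespace Cfsg.Agent.H783.CharSum

open Cfsg.Agent.LieClassical.HermBasic Finset

/-- a translation which changes the sign kills the sum -/
theorem sum_eq_zero_of_neg {F : Type*} [AddCommGroup F] (K : Finset F) (f : F → ℤ) (x₀ : F)
    (hK : ∀ x, x + x₀ ∈ K ↔ x ∈ K) (h : ∀ x ∈ K, f (x + x₀) = - f x) : ∑ x ∈ K, f x = 0 := by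
  have h1 : ∑ x ∈ K, f (x + x₀) = ∑ x ∈ K, f x := by
    refine sum_bij (fun x _ => x + x₀) (fun x hx => (hK x).2 hx) (fun x _ y _ hxy => add_right_cancel hxy) ?_
      (fun x _ => rfl)
    intro y hy
    refine ⟨y - x₀, ?_, sub_add_cancel y x₀⟩
    rw [← hK, sub_add_cancel]
    exact hy
  rw [sum_congr rfl h, sum_neg_distrib] at h1
  omega

theorem exists_c {F : Type*} [Field F] [Fintype F] [CharP F 2] {q : ℕ} (hF : Fintype.card F = q ^ 2) (a b κ : F → ℤ)
    (ha : ∀ x, a x = 1 ∨ a x = -1) (hb : ∀ x, b x = 1 ∨ b x = -1) (hκ : ∀ x, κ x = 1 ∨ κ x = -1)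
    (ha' : ∀ x y, x ^ q = x → y ^ q = y → a (x + y) = a x * a y)
    (hb' : ∀ x y, x ^ q = x → y ^ q = y → b (x + y) = b x * b y) (hκ' : ∀ x y, κ (x + y) = κ x * κ y)
    (h1 : ∃ x, x ^ q = x ∧ a x = -1) :
    ∃ c : F, ∀ μ : F, μ ^ q = μ → b μ * a (μ * (c * c ^ q)) * κ (μ * c) = 1 := by
  classical
  by_contra hno
  push Not at hno
  have h0 : (0 : F) ^ q = 0 := zero_pow_q hF
  have sq : ∀ {f : F → ℤ} (_ : ∀ x, f x = 1 ∨ f x = -1) (x : F), f x * f x = 1 := by
    intro f hf x
    rcases hf x with h | h <;> rw [h] <;> norm_num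
  have a0 : a 0 = 1 := by
    have := ha' 0 0 h0 h0
    rw [add_zero, sq ha] at this
    exact this
  have b0 : b 0 = 1 := by
    have := hb' 0 0 h0 h0
    rw [add_zero, sq hb] at this
    exact this
  have κ0 : κ 0 = 1 := by
    have := hκ' 0 0
    rw [add_zero, sq hκ] at this
    exact this
  have hmul : ∀ {x y : F}, x ^ q = x → y ^ q = y → (x * y) ^ q = x * y := by
    intro x y hx hy
    rw [mul_pow, hx, hy]
  have hadd : ∀ {x y : F}, x ^ q = x → y ^ q = y → (x + y) ^ q = x + y := by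
    intro x y hx hy
    rw [add_pow_q hF, hx, hy]
  set K : Finset F := univ.filter (fun x : F => x ^ q = x) with hK
  have memK : ∀ {x : F}, x ∈ K ↔ x ^ q = x := by
    intro x
    rw [hK, mem_filter]
    exact ⟨fun h => h.2, fun h => ⟨mem_univ _, h⟩⟩
  have cardK : K.card = q := by
    have := card_fixed hF
    rw [Nat.card_eq_fintype_card, Fintype.card_subtype] at this
    exact this
  have hq : 2 ≤ q := two_le hF
  let χ : F → F → ℤ := fun c μ => b μ * a (μ * (c * c ^ q)) * κ (μ * c)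
  -- first order of summation
  have hT : ∑ c : F, ∑ μ ∈ K, χ c μ = 0 := by
    refine sum_eq_zero fun c _ => ?_
    obtain ⟨μ₀, hμ₀, hne⟩ := hno c
    have hneg : χ c μ₀ = -1 := by
      change b μ₀ * a (μ₀ * (c * c ^ q)) * κ (μ₀ * c) = -1
      rcases hb μ₀ with h2 | h2 <;> rcases ha (μ₀ * (c * c ^ q)) with h3 | h3 <;> rcases hκ (μ₀ * c) with h4 | h4 <;>
        rw [h2, h3, h4] at hne ⊢ <;> first | rfl | exact absurd rfl hne
    refine sum_eq_zero_of_neg K (χ c) μ₀ ?_ ?_
    · intro x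
      rw [memK, memK]
      constructor
      · intro h
        rw [add_pow_q hF, hμ₀] at h
        exact add_right_cancel h
      · intro h
        exact hadd h hμ₀
    · intro x hx
      rw [memK] at hx
      have hN := norm_pow_q hF c
      have e : χ c (x + μ₀) = χ c x * χ c μ₀ := by
        change b (x + μ₀) * a ((x + μ₀) * (c * c ^ q)) * κ ((x + μ₀) * c) = _
        rw [hb' _ _ hx hμ₀, add_mul, ha' _ _ (hmul hx hN) (hmul hμ₀ hN), add_mul, hκ']
        ring
      rw [e, hneg]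
      ring
  -- second order of summation
  rw [sum_comm] at hT
  have hS0 : ∑ c : F, χ c 0 = (q : ℤ) ^ 2 := by
    have : ∀ c ∈ (univ : Finset F), χ c 0 = 1 := by
      intro c _
      change b 0 * a (0 * (c * c ^ q)) * κ (0 * c) = 1
      rw [zero_mul, zero_mul, a0, b0, κ0]
      norm_num
    rw [sum_congr rfl this, sum_const, card_univ, hF]
    simp
  obtain ⟨x₀, hx₀, hax₀⟩ := h1
  have hS : ∀ μ ∈ K, μ ≠ 0 → -(q : ℤ) ≤ ∑ c : F, χ c μ := by
    intro μ hμ hμ0
    rw [memK] at hμ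
    have hsq : (∑ c : F, χ c μ) * (∑ c : F, χ c μ) = (q : ℤ) ^ 2 := by
      rw [sum_mul]
      have e1 : ∀ c : F, χ c μ * ∑ c' : F, χ c' μ = ∑ δ : F, χ c μ * χ (c + δ) μ := by
        intro c
        rw [mul_sum]
        refine (Fintype.sum_equiv (Equiv.addLeft c) _ _ fun δ => ?_).symm
        rfl
      simp only [e1]
      rw [sum_comm]
      have e2 : ∀ δ c : F, χ c μ * χ (c + δ) μ =
          (κ (μ * δ) * a (μ * (δ * δ ^ q))) * a (μ * (c * δ ^ q + (c * δ ^ q) ^ q)) := by
        intro δ c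
        change b μ * a (μ * (c * c ^ q)) * κ (μ * c) *
          (b μ * a (μ * ((c + δ) * (c + δ) ^ q)) * κ (μ * (c + δ))) = _
        have hN := norm_pow_q hF c
        have hNδ := norm_pow_q hF δ
        have hTr := trace_pow_q hF (c * δ ^ q)
        have e3 : μ * ((c + δ) * (c + δ) ^ q) =
            μ * (c * c ^ q) + (μ * (δ * δ ^ q) + μ * (c * δ ^ q + (c * δ ^ q) ^ q)) := by
          rw [add_pow_q hF, mul_pow, pow_q_pow_q hF]
          ring
        have hA := hmul hμ hN
        have hB := hmul hμ hNδ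
        have hC := hmul hμ hTr
        rw [e3, ha' _ _ hA (hadd hB hC), ha' _ _ hB hC, mul_add μ c δ, hκ']
        have s1 := sq hb μ
        have s2 := sq ha (μ * (c * c ^ q))
        have s3 := sq hκ (μ * c)
        calc _ = (b μ * b μ) * (a (μ * (c * c ^ q)) * a (μ * (c * c ^ q))) * (κ (μ * c) * κ (μ * c)) *
              ((κ (μ * δ) * a (μ * (δ * δ ^ q))) * a (μ * (c * δ ^ q + (c * δ ^ q) ^ q))) := by ring
          _ = _ := by rw [s1, s2, s3]; ring
      simp only [e2]
      simp only [← mul_sum]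
      rw [sum_eq_single (0 : F)]
      · rw [mul_zero, κ0, zero_mul, mul_zero, a0]
        have : ∀ c ∈ (univ : Finset F), a (μ * (c * 0 ^ q + (c * 0 ^ q) ^ q)) = 1 := by
          intro c _
          rw [h0, mul_zero, h0, add_zero, mul_zero, a0]
        rw [sum_congr rfl this, sum_const, card_univ, hF]
        simp
      · intro δ _ hδ
        have : ∑ c : F, a (μ * (c * δ ^ q + (c * δ ^ q) ^ q)) = 0 := by
          obtain ⟨y, hy⟩ := exists_trace_eq hF (c := x₀ / μ) (by rw [div_pow, hx₀, hμ])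
          have hδq : δ ^ q ≠ 0 := pow_ne_zero _ hδ
          refine sum_eq_zero_of_neg univ _ (y / δ ^ q) (fun x => by simp) ?_
          intro c _
          have hTr := trace_pow_q hF (c * δ ^ q)
          have e4 : μ * ((c + y / δ ^ q) * δ ^ q + ((c + y / δ ^ q) * δ ^ q) ^ q) =
              μ * (c * δ ^ q + (c * δ ^ q) ^ q) + x₀ := by
            rw [add_mul, div_mul_cancel₀ _ hδq, add_pow_q hF]
            have : μ * (c * δ ^ q + y + ((c * δ ^ q) ^ q + y ^ q)) =
              μ * (c * δ ^ q + (c * δ ^ q) ^ q) + μ * (y + y ^ q) := by ring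
            rw [this, hy, mul_div_cancel₀ _ hμ0]
          rw [e4, ha' _ _ (hmul hμ hTr) hx₀, hax₀]
          ring
        rw [this, mul_zero]
      · intro h
        exact absurd (mem_univ _) h
    nlinarith [hsq, sq_nonneg ((∑ c : F, χ c μ) - q)]
  have h0K : (0 : F) ∈ K := memK.2 h0
  rw [← add_sum_erase K _ h0K, hS0] at hT
  have h5 : -(q : ℤ) * ((q : ℤ) - 1) ≤ ∑ μ ∈ K.erase 0, ∑ c : F, χ c μ := by
    have h6 : ∑ μ ∈ K.erase 0, (-(q : ℤ)) ≤ ∑ μ ∈ K.erase 0, ∑ c : F, χ c μ :=
      sum_le_sum fun μ hμ => hS μ (mem_of_mem_erase hμ) (ne_of_mem_erase hμ)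
    rw [sum_const, card_erase_of_mem h0K, cardK, nsmul_eq_mul, Nat.cast_sub (by omega)] at h6
    rw [Nat.cast_one] at h6
    linarith
  have h7 : (2 : ℤ) ≤ q := by exact_mod_cast hq
  nlinarith

end Cfsg.Agent.H783.CharSum
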