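import Mathlib

/-!
# Linear groups of dimension `6` over the field with two elements containing an element of order `31`

`red` : such a group `M` is transitive on the nonzero vectors, fixes a nonzero vector, or stabilises a hyperplane.
`two_small` : a `2`-group fixing the vector `v0` and normalised by the element of order `31` has order at most `64`.
-/

set_option autoImplicit false
set_option linter.unusedSectionVars false

namespace Cfsg.Agent.H783.L62Lin

open Module

variable {F V : Type*} [Field F] [Fintype F] [AddCommGroup V] [Module F V] [Module.Finite F V]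

theorem card_sub (hF : Fintype.card F = 2) (W : Submodule F V) : Nat.card W = 2 ^ finrank F W := by
  rw [Module.natCard_eq_pow_finrank (K := F), Nat.card_eq_fintype_card, hF]

theorem card_V (hF : Fintype.card F = 2) (hV : finrank F V = 6) : Nat.card V = 64 := by
  rw [Module.natCard_eq_pow_finrank (K := F), Nat.card_eq_fintype_card, hF, hV]
  norm_num

theorem two_smul' (hF : Fintype.card F = 2) (v : V) : v + v = 0 := by
  have h2 : (2 : F) = 0 := by
    have h := Nat.cast_card_eq_zero F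
    rw [hF] at h
    exact_mod_cast h
  rw [← two_smul F v, h2, zero_smul]

theorem modEq {g : V ≃ₗ[F] V} (hg : g ^ 31 = 1) (Z : Set V) (hZ : ∀ z ∈ Z, g z ∈ Z) :
    Z.ncard ≡ {z | z ∈ Z ∧ g z = z}.ncard [MOD 31] := by
  classical
  have hfin : Finite V := Module.finite_of_finite F
  have : Fintype Z := Fintype.ofFinite _
  let f : Function.End Z := fun z => ⟨g z, hZ z z.2⟩
  have hf : ∀ (n : ℕ) (z : Z), ((f ^ n) z : V) = (g ^ n) z := by
    intro n
    induction n with
    | zero => intro z; rfl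
    | succ n ih =>
      intro z
      rw [pow_succ', pow_succ']
      change g ((f ^ n) z : V) = g ((g ^ n) z)
      rw [ih]
  have hf1 : f ^ 31 ^ 1 = 1 := by
    funext z
    apply Subtype.ext
    rw [pow_one, hf, hg]
    rfl
  have hp : Fact (Nat.Prime 31) := ⟨by norm_num⟩
  have h := Equiv.Perm.card_fixedPoints_modEq hf1
  rw [← Nat.card_eq_fintype_card, ← Nat.card_eq_fintype_card] at h
  have h2 : Nat.card f.fixedPoints = {z | z ∈ Z ∧ g z = z}.ncard := by
    rw [← Nat.card_coe_set_eq]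
    apply Nat.card_congr
    exact
      { toFun := fun z => ⟨z.1, z.1.2, congrArg Subtype.val z.2⟩
        invFun := fun z => ⟨⟨z.1, z.2.1⟩, Subtype.ext z.2.2⟩
        left_inv := fun z => rfl
        right_inv := fun z => rfl }
  rw [h2] at h
  rwa [Nat.card_coe_set_eq] at h

/-- the fixed vector -/
theorem exists_v0 (hF : Fintype.card F = 2) (hV : finrank F V = 6) {g : V ≃ₗ[F] V} (hg : g ^ 31 = 1) (h1 : g ≠ 1) :
    ∃ v0 : V, v0 ≠ 0 ∧ g v0 = v0 ∧ ∀ v, g v = v → v = 0 ∨ v = v0 := by
  have hfin : Finite V := Module.finite_of_finite F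
  let W : Submodule F V := LinearMap.ker (g.toLinearMap - LinearMap.id)
  have hW : ∀ v, v ∈ W ↔ g v = v := fun v => by
    rw [LinearMap.mem_ker, LinearMap.sub_apply, sub_eq_zero]
    rfl
  have h := modEq hg Set.univ (fun z _ => trivial)
  have h2 : {z : V | z ∈ Set.univ ∧ g z = z} = (W : Set V) := by
    ext v
    simp [hW]
  rw [h2, Set.ncard_univ, card_V hF hV, ← Nat.card_coe_set_eq] at h
  have h3 : Nat.card (W : Set V) = 2 ^ finrank F W := card_sub hF W
  rw [h3] at h
  have h4 : finrank F W ≤ 6 := by rw [← hV]; exact W.finrank_le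
  have h5 : finrank F W ≠ 6 := by
    intro h6
    rw [← hV] at h6
    have h7 := Submodule.eq_top_of_finrank_eq h6
    apply h1
    ext v
    exact (hW v).1 (by rw [h7]; trivial)
  have h6 : finrank F W = 1 := by
    unfold Nat.ModEq at h
    generalize finrank F W = k at *
    interval_cases k <;> omega
  have h7 : Nat.card W = 2 := by rw [card_sub hF, h6]; rfl
  obtain ⟨y, hy, hy1⟩ := (Nat.card_eq_two_iff' (0 : W)).1 h7
  refine ⟨y, fun h => hy (Subtype.ext h), (hW _).1 y.2, fun v hv => ?_⟩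
  by_cases h0 : v = 0
  · exact Or.inl h0
  · right
    have := hy1 ⟨v, (hW v).2 hv⟩ (fun h => h0 (congrArg Subtype.val h))
    exact congrArg Subtype.val this

/-- the invariant hyperplane -/
theorem exists_U (hF : Fintype.card F = 2) (hV : finrank F V = 6) {g : V ≃ₗ[F] V} (hg : g ^ 31 = 1)
    {v0 : V} (h0 : v0 ≠ 0) (hv0 : g v0 = v0) (hu : ∀ v, g v = v → v = 0 ∨ v = v0) :
    ∃ U : Submodule F V, finrank F U = 5 ∧ v0 ∉ U ∧ (∀ u ∈ U, g u ∈ U) ∧
      (∀ x y, x ∉ U → y ∉ U → x + y ∈ U) ∧ (U : Set V).ncard = 32 := by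
  have hfin : Finite V := Module.finite_of_finite F
  let φ : V →ₗ[F] V := g.toLinearMap - LinearMap.id
  let U : Submodule F V := LinearMap.range φ
  have hk : LinearMap.ker φ = F ∙ v0 := by
    ext v
    rw [LinearMap.mem_ker, LinearMap.sub_apply, sub_eq_zero, Submodule.mem_span_singleton]
    constructor
    · intro h
      rcases hu v h with h1 | h1
      · exact ⟨0, by rw [zero_smul, h1]⟩
      · exact ⟨1, by rw [one_smul, h1]⟩
    · rintro ⟨a, rfl⟩
      change g (a • v0) = a • v0
      rw [map_smul, hv0]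
  have hr := LinearMap.finrank_range_add_finrank_ker φ
  rw [hk, finrank_span_singleton h0, hV] at hr
  have hU5 : finrank F U = 5 := by
    change finrank F (LinearMap.range φ) = 5
    omega
  have hcU : Nat.card U = 32 := by rw [card_sub hF, hU5]; norm_num
  have hv0U : v0 ∉ U := by
    rintro ⟨w, hw⟩
    have h1 : ∀ n : ℕ, (g ^ n) w = w + n • v0 := by
      intro n
      induction n with
      | zero => simp
      | succ n ih =>
        rw [pow_succ']
        change g ((g ^ n) w) = _
        rw [ih, map_add, map_nsmul, hv0]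
        have h2 : g w = w + v0 := by
          have h3 : g w - w = v0 := hw
          rw [← h3]; abel
        rw [h2, succ_nsmul]; abel
    have h2 := h1 31
    rw [hg] at h2
    have h3 : (31 : ℕ) • v0 = v0 := by
      have h4 : (31 : ℕ) • v0 = 15 • (v0 + v0) + v0 := by
        rw [← two_nsmul, ← mul_nsmul', ← succ_nsmul]
      rw [h4, two_smul' hF, smul_zero, zero_add]
    rw [h3] at h2
    apply h0
    have h5 : w + v0 = w + 0 := by rw [← h2, add_zero]; rfl
    exact add_left_cancel h5
  refine ⟨U, hU5, hv0U, ?_, ?_, by rw [← Nat.card_coe_set_eq]; exact hcU⟩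
  · rintro u ⟨w, rfl⟩
    refine ⟨g w, ?_⟩
    change g (g w) - g w = g (g w - w)
    rw [map_sub]
  · have hi : U.toAddSubgroup.index = 2 := by
      have h1 := U.toAddSubgroup.card_mul_index
      have h2 : Nat.card U.toAddSubgroup = 32 := hcU
      rw [h2, card_V hF hV] at h1
      omega
    intro x y hx hy
    exact ((AddSubgroup.add_mem_iff_of_index_two hi).2 (by simp [hx, hy]) : x + y ∈ U.toAddSubgroup)

/-- **Transitive, or reducible in a point or a hyperplane.** -/
theorem red (hF : Fintype.card F = 2) (hV : finrank F V = 6) {M : Subgroup (V ≃ₗ[F] V)} {g : V ≃ₗ[F] V} (hgM : g ∈ M)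
    (hg : g ^ 31 = 1) (h1 : g ≠ 1) :
    (∀ v w : V, v ≠ 0 → w ≠ 0 → ∃ m ∈ M, m v = w) ∨ (∃ v : V, v ≠ 0 ∧ ∀ m ∈ M, m v = v) ∨
      ∃ U : Submodule F V, finrank F U = 5 ∧ ∀ m ∈ M, ∀ u ∈ U, m u ∈ U := by
  classical
  have hfin : Finite V := Module.finite_of_finite F
  obtain ⟨v0, h0, hv0, hu⟩ := exists_v0 hF hV hg h1
  obtain ⟨U, hU5, hv0U, hgU, hUU, hUc⟩ := exists_U hF hV hg h0 hv0 hu
  let O : Set V := {w | ∃ m ∈ M, m v0 = w}
  have hOM : ∀ m ∈ M, ∀ w, m w ∈ O ↔ w ∈ O := by
    intro m hm w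
    constructor
    · rintro ⟨k, hk, hkw⟩
      refine ⟨m⁻¹ * k, M.mul_mem (M.inv_mem hm) hk, ?_⟩
      change m⁻¹ (k v0) = w
      rw [hkw]
      exact m.symm_apply_apply w
    · rintro ⟨k, hk, rfl⟩
      exact ⟨m * k, M.mul_mem hm hk, rfl⟩
  have hO0 : (0 : V) ∉ O := by
    rintro ⟨m, _, hm⟩
    exact h0 (m.map_eq_zero_iff.1 hm)
  have hv0O : v0 ∈ O := ⟨1, M.one_mem, rfl⟩
  by_cases hall : ∀ w, w ≠ 0 → w ∈ O
  · left
    intro v w hv hw
    obtain ⟨a, ha, rfl⟩ := hall v hv
    obtain ⟨b, hb, rfl⟩ := hall w hw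
    refine ⟨b * a⁻¹, M.mul_mem hb (M.inv_mem ha), ?_⟩
    change b (a⁻¹ (a v0)) = b v0
    congr 1
    exact a.symm_apply_apply v0
  push Not at hall
  obtain ⟨w, hw0, hwO⟩ := hall
  right
  by_cases hfix : ∀ m ∈ M, m v0 = v0
  · exact Or.inl ⟨v0, h0, hfix⟩
  push Not at hfix
  obtain ⟨m1, hm1, hm1v⟩ := hfix
  right
  refine ⟨U, hU5, ?_⟩
  -- the complement of the orbit
  let Z : Set V := {z | z ≠ 0 ∧ z ∉ O}
  have hZM : ∀ m ∈ M, ∀ z, z ∈ Z → m z ∈ Z := by
    rintro m hm z ⟨hz0, hzO⟩
    exact ⟨fun h => hz0 (m.map_eq_zero_iff.1 h), fun h => hzO ((hOM m hm z).1 h)⟩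
  have hOc : O.ncard ≡ 1 [MOD 31] := by
    have h2 := modEq hg O (fun z hz => (hOM g hgM z).2 hz)
    have h3 : {z | z ∈ O ∧ g z = z} = {v0} := by
      ext z
      rw [Set.mem_ofPred_eq, Set.mem_singleton_iff]
      constructor
      · rintro ⟨hzO, hz⟩
        rcases hu z hz with rfl | rfl
        · exact absurd hzO hO0
        · rfl
      · rintro rfl
        exact ⟨hv0O, hv0⟩
    rwa [h3, Set.ncard_singleton] at h2
  have hO2 : 1 < O.ncard := by
    rw [Set.one_lt_ncard]
    exact ⟨v0, hv0O, m1 v0, ⟨m1, hm1, rfl⟩, fun h => hm1v h.symm⟩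
  have hOZ : O.ncard + Z.ncard = 63 := by
    have hd : Disjoint O Z := Set.disjoint_left.2 fun z h1 h2 => h2.2 h1
    rw [← Set.ncard_union_eq hd]
    have h2 : O ∪ Z = {0}ᶜ := by
      ext z
      rw [Set.mem_compl_iff, Set.mem_singleton_iff]
      constructor
      · rintro (h | h)
        · rintro rfl; exact hO0 h
        · exact h.1
      · intro h
        by_cases hz : z ∈ O
        · exact Or.inl hz
        · exact Or.inr ⟨h, hz⟩
    have h3 := Set.ncard_add_ncard_compl ({0} : Set V)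
    rw [Set.ncard_singleton, card_V hF hV] at h3
    rw [h2]
    omega
  have hfixZ : ∀ Y : Set V, Y ⊆ Z → (∀ y ∈ Y, g y ∈ Y) → Y.ncard ≡ 0 [MOD 31] := by
    intro Y hY hgY
    have h2 := modEq hg Y hgY
    have h3 : {z | z ∈ Y ∧ g z = z} = ∅ := by
      rw [Set.eq_empty_iff_forall_notMem]
      rintro z ⟨hzY, hz⟩
      rcases hu z hz with rfl | rfl
      · exact (hY hzY).1 rfl
      · exact (hY hzY).2 hv0O
    rwa [h3, Set.ncard_empty] at h2
  have hZc : Z.ncard = 31 := by
    have h2 := hfixZ Z subset_rfl (hZM g hgM)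
    have h3 : 0 < Z.ncard := (Set.ncard_pos).2 ⟨w, hw0, hwO⟩
    unfold Nat.ModEq at h2 hOc
    omega
  have hcase := hfixZ (Z ∩ U) Set.inter_subset_left (fun y hy => ⟨hZM g hgM y hy.1, hgU y hy.2⟩)
  have hle : (Z ∩ U).ncard ≤ Z.ncard := Set.ncard_le_ncard Set.inter_subset_left
  rw [hZc] at hle
  intro m hm u huU
  by_cases hu0 : u = 0
  · rw [hu0, map_zero]; exact U.zero_mem
  have h31 : (Z ∩ U).ncard = 31 ∨ (Z ∩ U).ncard = 0 := by
    unfold Nat.ModEq at hcase
    omega
  rcases h31 with h31 | h31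
  · -- `Z = U \ 0`
    have h2 : Z ∩ U = Z := Set.eq_of_subset_of_ncard_le Set.inter_subset_left (by rw [h31, hZc])
    have h3 : Z ⊆ (U : Set V) \ {0} := fun z hz => by
      have h4 : z ∈ Z ∩ U := by rw [h2]; exact hz
      exact ⟨h4.2, hz.1⟩
    have h5 : ((U : Set V) \ {0}).ncard = 31 := by
      rw [Set.ncard_sdiff_singleton_of_mem U.zero_mem, hUc]
    have h6 : Z = (U : Set V) \ {0} := Set.eq_of_subset_of_ncard_le h3 (by rw [h5, hZc])
    have h7 : u ∈ Z := by rw [h6]; exact ⟨huU, hu0⟩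
    have h8 := hZM m hm u h7
    rw [h6] at h8
    exact h8.1
  · have h2 : Z ∩ U = ∅ := (Set.ncard_eq_zero).1 h31
    have h3 : Z ⊆ (U : Set V)ᶜ \ {v0} := fun z hz => by
      refine ⟨fun h => ?_, fun h => ?_⟩
      · have : z ∈ Z ∩ U := ⟨hz, h⟩
        rw [h2] at this
        exact this
      · rw [Set.mem_singleton_iff] at h
        exact hz.2 (h ▸ hv0O)
    have h4 : ((U : Set V)ᶜ).ncard = 32 := by
      have := Set.ncard_add_ncard_compl (U : Set V)
      rw [hUc, card_V hF hV] at this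
      omega
    have h5 : ((U : Set V)ᶜ \ {v0}).ncard = 31 := by
      rw [Set.ncard_sdiff_singleton_of_mem (by exact hv0U), h4]
    have h6 : Z = (U : Set V)ᶜ \ {v0} := Set.eq_of_subset_of_ncard_le h3 (by rw [h5, hZc])
    -- a good `z`
    obtain ⟨z, hz, hz2⟩ : ∃ z ∈ Z, z + u ≠ v0 := by
      by_contra hcon
      push Not at hcon
      have h7 : Z ⊆ {v0 - u} := fun z hz => by
        rw [Set.mem_singleton_iff, ← hcon z hz]; abel
      have h8 := Set.ncard_le_ncard h7
      rw [Set.ncard_singleton, hZc] at h8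
      omega
    have hz3 : z ∉ U := by
      rw [h6] at hz
      exact hz.1
    have hzu : z + u ∈ Z := by
      rw [h6]
      refine ⟨fun h => hz3 ?_, hz2⟩
      have := U.sub_mem h huU
      rwa [add_sub_cancel_right] at this
    have h7 := hZM m hm z hz
    have h8 := hZM m hm _ hzu
    rw [h6] at h7 h8
    have h9 := hUU _ _ h7.1 h8.1
    rw [map_add, ← add_assoc, two_smul' hF, zero_add] at h9
    exact h9

/-- the stabiliser of a vector in a transitive group has index `63` -/
theorem card_stab (hF : Fintype.card F = 2) (hV : finrank F V = 6) {M : Subgroup (V ≃ₗ[F] V)} {v0 : V} (h0 : v0 ≠ 0)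
    (htr : ∀ v w : V, v ≠ 0 → w ≠ 0 → ∃ m ∈ M, m v = w) :
    Nat.card (MulAction.stabilizer M v0) * 63 = Nat.card M := by
  have hfin : Finite V := Module.finite_of_finite F
  have h1 : MulAction.orbit M v0 = {0}ᶜ := by
    ext w
    rw [Set.mem_compl_iff, Set.mem_singleton_iff]
    constructor
    · rintro ⟨m, rfl⟩ h
      exact h0 ((m : V ≃ₗ[F] V).map_eq_zero_iff.1 h)
    · intro h
      obtain ⟨m, hm, hmw⟩ := htr v0 w h0 h
      exact ⟨⟨m, hm⟩, hmw⟩
  have h2 := MulAction.index_stabilizer M v0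
  have h3 := Set.ncard_add_ncard_compl ({0} : Set V)
  rw [Set.ncard_singleton, card_V hF hV] at h3
  rw [h1] at h2
  have h4 := (MulAction.stabilizer M v0).card_mul_index
  rw [← h4, h2]
  congr 1
  omega

/-- **A `2`-group fixing `v0` and normalised by `g` is small.** -/
theorem two_small (hF : Fintype.card F = 2) (hV : finrank F V = 6) {g : V ≃ₗ[F] V} (hg : g ^ 31 = 1)
    {v0 : V} (h0 : v0 ≠ 0) (hv0 : g v0 = v0) (hu : ∀ v, g v = v → v = 0 ∨ v = v0) {R : Subgroup (V ≃ₗ[F] V)}
    (hR : IsPGroup 2 R) (hgR : ∀ r ∈ R, g⁻¹ * r * g ∈ R) (hRv : ∀ r ∈ R, r v0 = v0) : Nat.card R ≤ 64 := by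
  classical
  have hfin : Finite V := Module.finite_of_finite F
  let L0 : Submodule F V := F ∙ v0
  have hL0 : finrank F L0 = 1 := finrank_span_singleton h0
  have hRL : ∀ r ∈ R, L0 ≤ L0.comap (r : V ≃ₗ[F] V).toLinearMap := by
    intro r hr x hx
    obtain ⟨a, rfl⟩ := Submodule.mem_span_singleton.1 hx
    rw [Submodule.mem_comap]
    change r (a • v0) ∈ L0
    rw [map_smul, hRv r hr]
    exact Submodule.smul_mem _ _ (Submodule.mem_span_singleton_self v0)
  let act : MulAction R (V ⧸ L0) :=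
    { smul := fun r q => L0.mapQ L0 ((r : V ≃ₗ[F] V).toLinearMap) (hRL r r.2) q
      one_smul := fun q => by
        obtain ⟨x, rfl⟩ := L0.mkQ_surjective q
        rfl
      mul_smul := fun r s q => by
        obtain ⟨x, rfl⟩ := L0.mkQ_surjective q
        rfl }
  have hsm : ∀ (r : R) (x : V), r • (L0.mkQ x) = L0.mkQ ((r : V ≃ₗ[F] V) x) := fun r x => rfl
  have hp : Fact (Nat.Prime 2) := ⟨Nat.prime_two⟩
  have hcQ : Nat.card (V ⧸ L0) = 32 := by
    have h1 := Submodule.card_eq_card_quotient_mul_card (S := L0)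
    rw [card_V hF hV, card_sub hF, hL0] at h1
    omega
  have hfQ : Finite (V ⧸ L0) := Nat.finite_of_card_ne_zero (by rw [hcQ]; norm_num)
  have hfP : Finite (MulAction.fixedPoints R (V ⧸ L0)) := Subtype.finite
  have hmod := hR.card_modEq_card_fixedPoints (V ⧸ L0)
  rw [hcQ] at hmod
  -- a fixed point
  obtain ⟨v, hvL, hv⟩ : ∃ v : V, v ∉ L0 ∧ ∀ r ∈ R, r v - v ∈ L0 := by
    have h1 : (0 : V ⧸ L0) ∈ MulAction.fixedPoints R (V ⧸ L0) := by
      intro r
      have := hsm r 0
      rw [map_zero, map_zero, map_zero] at this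
      exact this
    have h2 : 0 < Nat.card (MulAction.fixedPoints R (V ⧸ L0)) := by
      have : Nonempty (MulAction.fixedPoints R (V ⧸ L0)) := ⟨⟨0, h1⟩⟩
      exact Nat.card_pos
    have h3 : 1 < Nat.card (MulAction.fixedPoints R (V ⧸ L0)) := by
      unfold Nat.ModEq at hmod
      omega
    have h4 : Nontrivial (MulAction.fixedPoints R (V ⧸ L0)) := (Finite.one_lt_card_iff_nontrivial).1 h3
    obtain ⟨q, hq⟩ := exists_ne (⟨0, h1⟩ : MulAction.fixedPoints R (V ⧸ L0))
    obtain ⟨x, hx⟩ := L0.mkQ_surjective (q : V ⧸ L0)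
    refine ⟨x, fun h => hq (Subtype.ext ?_), fun r hr => ?_⟩
    · rw [← hx]
      exact (Submodule.Quotient.mk_eq_zero L0).2 h
    · have h5 := q.2 ⟨r, hr⟩
      rw [← hx, hsm] at h5
      exact (Submodule.Quotient.eq L0).1 h5
  let W : Submodule F V :=
    { carrier := {x | ∀ r ∈ R, r x - x ∈ L0}
      add_mem' := fun {a b} ha hb r hr => by
        have h1 := L0.add_mem (ha r hr) (hb r hr)
        have h2 : r (a + b) - (a + b) = r a - a + (r b - b) := by rw [map_add]; abel
        rw [h2]; exact h1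
      zero_mem' := fun r _ => by rw [map_zero, sub_zero]; exact L0.zero_mem
      smul_mem' := fun c x hx r hr => by
        have h1 := L0.smul_mem c (hx r hr)
        have h2 : r (c • x) - c • x = c • (r x - x) := by rw [map_smul, smul_sub]
        rw [h2]; exact h1 }
  have hgW : ∀ x ∈ (W : Set V), g x ∈ (W : Set V) := by
    intro x hx r hr
    have h1 := hx _ (hgR r hr)
    have h2 : r (g x) - g x = g ((g⁻¹ * r * g) x - x) := by
      have h3 : (g⁻¹ * r * g) x = g.symm (r (g x)) := rfl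
      rw [h3, map_sub, g.apply_symm_apply]
    change r (g x) - g x ∈ L0
    rw [h2]
    obtain ⟨a, ha⟩ := Submodule.mem_span_singleton.1 h1
    rw [← ha, map_smul, hv0]
    exact Submodule.smul_mem _ _ (Submodule.mem_span_singleton_self v0)
  have hv0W : v0 ∈ W := fun r hr => by rw [hRv r hr, sub_self]; exact L0.zero_mem
  have hWtop : W = ⊤ := by
    have h1 := modEq hg (W : Set V) hgW
    have h2 : {z | z ∈ (W : Set V) ∧ g z = z} = {0, v0} := by
      ext z
      rw [Set.mem_ofPred_eq, Set.mem_insert_iff, Set.mem_singleton_iff]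
      constructor
      · exact fun h => hu z h.2
      · rintro (rfl | rfl)
        · exact ⟨W.zero_mem, map_zero _⟩
        · exact ⟨hv0W, hv0⟩
    rw [h2, Set.ncard_pair h0.symm, ← Nat.card_coe_set_eq] at h1
    have h3 : Nat.card (W : Set V) = 2 ^ finrank F W := card_sub hF W
    rw [h3] at h1
    have h4 : finrank F W ≤ 6 := by rw [← hV]; exact W.finrank_le
    have h5 : finrank F W ≠ 1 := by
      intro h5
      have h6 : L0 ≤ W := by rw [Submodule.span_singleton_le_iff_mem]; exact hv0W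
      have h7 := Submodule.eq_of_le_of_finrank_eq h6 (by rw [hL0, h5])
      apply hvL
      rw [h7]
      exact hv
    have h6 : finrank F W = 6 := by
      unfold Nat.ModEq at h1
      generalize finrank F W = k at *
      interval_cases k <;> omega
    exact Submodule.eq_top_of_finrank_eq (by rw [h6, hV])
  -- the embedding
  let f : R → (V →ₗ[F] L0) := fun r =>
    LinearMap.codRestrict L0 (((r : V ≃ₗ[F] V)).toLinearMap - LinearMap.id) (fun x => by
      have h1 : x ∈ W := by rw [hWtop]; trivial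
      exact h1 r r.2)
  have hf : Function.Injective f := by
    intro r s hrs
    apply Subtype.ext
    ext x
    have h1 := congrArg Subtype.val (LinearMap.congr_fun hrs x)
    have h2 : (r : V ≃ₗ[F] V) x - x = (s : V ≃ₗ[F] V) x - x := h1
    exact sub_left_injective h2
  have hc : Nat.card (V →ₗ[F] L0) = 64 := by
    rw [Module.natCard_eq_pow_finrank (K := F), Nat.card_eq_fintype_card, hF, Module.finrank_linearMap, hV, hL0]
    norm_num
  have : Finite (V →ₗ[F] L0) := Nat.finite_of_card_ne_zero (by rw [hc]; norm_num)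
  rw [← hc]
  exact Nat.card_le_card_of_injective f hf

end Cfsg.Agent.H783.L62Lin
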