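import Cfsg.Agent.H783.FacTop
import Cfsg.Agent.H783.L62Lin
import Cfsg.Agent.H503.El.L62
import Cfsg.Agent.H183.OutPSL

/-!
# Full subgroups of `L₆(2)`; primitive factorizations (task 3002, for S3522)

* `exists_sub` : a full proper subgroup of `GL(V)`, `dim V = 6`, `|F| = 2`, stabilises a point or a hyperplane;
* `fac_l62` : `L₆(2)` is not the socle of a primitive factorization.
-/

set_option autoImplicit false
set_option maxRecDepth 100000
set_option linter.unusedSectionVars false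

namespace Cfsg.Agent.H783.FacL62

open Subgroup Module Cfsg.Agent.H970.StabNum Cfsg.Agent.H278.El Cfsg.Agent Cfsg.Agent.H938.Sax Cfsg.Agent.H997.PF
  Cfsg.Agent.H783.L62Lin Cfsg.Agent.H503.El

universe u

/-! ### subspaces -/

section sub

variable {F V : Type*} [Field F] [AddCommGroup V] [Module F V] [Module.Finite F V]

/-- `GL(V)` is transitive on the subspaces of a given dimension -/
theorem exists_map_eq {W W' : Submodule F V} (h : finrank F W = finrank F W') :
    ∃ g : V ≃ₗ[F] V, W.map g.toLinearMap = W' := by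
  obtain ⟨C, hC⟩ := W.exists_isCompl
  obtain ⟨C', hC'⟩ := W'.exists_isCompl
  have h1 := Submodule.finrank_add_eq_of_isCompl hC
  have h2 := Submodule.finrank_add_eq_of_isCompl hC'
  obtain ⟨e1⟩ := FiniteDimensional.nonempty_linearEquiv_of_finrank_eq h
  obtain ⟨e2⟩ := FiniteDimensional.nonempty_linearEquiv_of_finrank_eq (R := F) (M := C) (M' := C') (by omega)
  let g : V ≃ₗ[F] V := (Submodule.prodEquivOfIsCompl W C hC).symm.trans
    ((e1.prodCongr e2).trans (Submodule.prodEquivOfIsCompl W' C' hC'))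
  refine ⟨g, Submodule.eq_of_le_of_finrank_eq ?_ ?_⟩
  · rintro _ ⟨w, hw, rfl⟩
    have h3 : (Submodule.prodEquivOfIsCompl W C hC).symm w = (⟨w, hw⟩, 0) := by
      rw [LinearEquiv.symm_apply_eq]
      simp
    change g w ∈ W'
    have h4 : g w = (Submodule.prodEquivOfIsCompl W' C' hC') ((e1.prodCongr e2)
      ((Submodule.prodEquivOfIsCompl W C hC).symm w)) := rfl
    rw [h4, h3]
    simp
  · rw [← h]
    exact LinearEquiv.finrank_map_eq g W

/-- the stabiliser of a subspace -/
def stab (W : Submodule F V) : Subgroup (V ≃ₗ[F] V) where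
  carrier := {g | W.map g.toLinearMap = W}
  one_mem' := Submodule.map_id W
  mul_mem' := by
    intro a b ha hb
    change W.map ((a : V ≃ₗ[F] V).toLinearMap.comp b.toLinearMap) = W
    rw [Submodule.map_comp, show W.map b.toLinearMap = W from hb]
    exact ha
  inv_mem' := by
    intro a ha
    change W.map (a.symm.toLinearMap) = W
    conv_lhs => rw [← show W.map a.toLinearMap = W from ha]
    rw [← Submodule.map_comp]
    have h1 : a.symm.toLinearMap.comp a.toLinearMap = LinearMap.id := by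
      ext x
      exact a.symm_apply_apply x
    rw [h1, Submodule.map_id]

theorem mem_stab {W : Submodule F V} {g : V ≃ₗ[F] V} : g ∈ stab W ↔ W.map g.toLinearMap = W := Iff.rfl

theorem mem_stab_of_le {W : Submodule F V} {g : V ≃ₗ[F] V} (h : ∀ w ∈ W, g w ∈ W) : g ∈ stab W := by
  apply Submodule.eq_of_le_of_finrank_eq
  · rintro _ ⟨w, hw, rfl⟩
    exact h w hw
  · exact LinearEquiv.finrank_map_eq g W

theorem map_mul' (a b : V ≃ₗ[F] V) (W : Submodule F V) :
    W.map (a * b : V ≃ₗ[F] V).toLinearMap = (W.map b.toLinearMap).map a.toLinearMap := by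
  rw [← Submodule.map_comp]
  rfl

/-- a point outside -/
theorem stab_ne_top {W : Submodule F V} (h0 : W ≠ ⊥) (h1 : W ≠ ⊤) : stab W ≠ ⊤ := by
  intro h
  obtain ⟨v, hv, hv0⟩ := W.exists_mem_ne_zero_of_ne_bot h0
  obtain ⟨w, hw⟩ : ∃ w, w ∉ W := by
    by_contra hcon
    push Not at hcon
    exact h1 (eq_top_iff.2 fun x _ => hcon x)
  have hw0 : w ≠ 0 := fun h2 => hw (h2 ▸ W.zero_mem)
  obtain ⟨g, hg⟩ := exists_map_eq (W := F ∙ v) (W' := F ∙ w) (by
    rw [finrank_span_singleton hv0, finrank_span_singleton hw0])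
  have h2 : g ∈ stab W := by rw [h]; trivial
  apply hw
  have h3 : F ∙ v ≤ W := by rw [Submodule.span_singleton_le_iff_mem]; exact hv
  have h4 := Submodule.map_mono (f := g.toLinearMap) h3
  rw [hg, mem_stab.1 h2, Submodule.span_singleton_le_iff_mem] at h4
  exact h4

/-- conjugate stabilisers -/
theorem map_stab (g : V ≃ₗ[F] V) (W : Submodule F V) :
    (stab W).map (MulAut.conj g).toMonoidHom = stab (W.map g.toLinearMap) := by
  ext x
  constructor
  · rintro ⟨y, hy, rfl⟩
    rw [mem_stab]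
    change (W.map g.toLinearMap).map (g * y * g⁻¹ : V ≃ₗ[F] V).toLinearMap = _
    rw [← map_mul', inv_mul_cancel_right, map_mul', mem_stab.1 hy]
  · intro hx
    refine ⟨g⁻¹ * x * g, ?_, ?_⟩
    · change W.map (g⁻¹ * x * g : V ≃ₗ[F] V).toLinearMap = W
      rw [map_mul', map_mul', mem_stab.1 hx, ← map_mul', inv_mul_cancel]
      exact Submodule.map_id W
    · change g * (g⁻¹ * x * g) * g⁻¹ = x
      group

/-- the incidence argument -/
theorem not_fac {P H : Submodule F V} (hP : finrank F P = 1) (hH0 : H ≠ ⊥) (hH1 : H ≠ ⊤) :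
    (∀ g : V ≃ₗ[F] V, ∃ a ∈ stab P, ∃ b ∈ stab H, g = a * b) → False := by
  intro hf
  obtain ⟨v, hv, hv0⟩ := H.exists_mem_ne_zero_of_ne_bot hH0
  obtain ⟨w, hw⟩ : ∃ w, w ∉ H := by
    by_contra hcon
    push Not at hcon
    exact hH1 (eq_top_iff.2 fun x _ => hcon x)
  have hw0 : w ≠ 0 := fun h2 => hw (h2 ▸ H.zero_mem)
  obtain ⟨g1, hg1⟩ := exists_map_eq (W := F ∙ v) (W' := P) (by rw [finrank_span_singleton hv0, hP])
  obtain ⟨g2, hg2⟩ := exists_map_eq (W := F ∙ w) (W' := P) (by rw [finrank_span_singleton hw0, hP])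
  have key : ∀ g : V ≃ₗ[F] V, P ≤ H.map g.toLinearMap ↔ P ≤ H := by
    intro g
    obtain ⟨a, ha, b, hb, rfl⟩ := hf g
    rw [map_mul', mem_stab.1 hb]
    constructor
    · intro h
      have h1 := Submodule.map_mono (f := (a⁻¹ : V ≃ₗ[F] V).toLinearMap) h
      rw [mem_stab.1 (inv_mem ha), ← map_mul', inv_mul_cancel] at h1
      exact h1.trans (le_of_eq (Submodule.map_id H))
    · intro h
      have h1 := Submodule.map_mono (f := a.toLinearMap) h
      rwa [mem_stab.1 ha] at h1
  have h1 : P ≤ H.map g1.toLinearMap := by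
    rw [← hg1]
    exact Submodule.map_mono (by rw [Submodule.span_singleton_le_iff_mem]; exact hv)
  have h2 : P ≤ H.map g2.toLinearMap := (key g2).2 ((key g1).1 h1)
  rw [← hg2, Submodule.map_le_iff_le_comap, Submodule.comap_map_eq_of_injective g2.injective,
    Submodule.span_singleton_le_iff_mem] at h2
  exact hw h2

/-- the incidence argument, other order -/
theorem not_fac' {P H : Submodule F V} (hP : finrank F P = 1) (hH0 : H ≠ ⊥) (hH1 : H ≠ ⊤) :
    (∀ g : V ≃ₗ[F] V, ∃ a ∈ stab H, ∃ b ∈ stab P, g = a * b) → False := by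
  intro hf
  refine not_fac hP hH0 hH1 fun g => ?_
  obtain ⟨a, ha, b, hb, hab⟩ := hf g⁻¹
  exact ⟨b⁻¹, inv_mem hb, a⁻¹, inv_mem ha, by rw [← mul_inv_rev, ← hab, inv_inv]⟩

end sub

section main

variable {F : Type} [Field F] [Fintype F]

theorem out_psl62 (hF : Fintype.card F = 2) : Nat.card (Cfsg.Out (Matrix.ProjectiveSpecialLinearGroup (Fin 6) F)) = 2 := by
  have : Fact (Nat.Prime 2) := ⟨Nat.prime_two⟩
  obtain ⟨φ, h1, -, h2⟩ := Cfsg.Agent.H183.OutPSL.out_three (p := 2) (f := 1) (n := 6) (F := F) le_rfl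
    (by rw [hF]; rfl) (by norm_num)
  have h3 := φ.ker.card_mul_index
  rw [Subgroup.index_ker, MonoidHom.range_eq_top.2 h1, Subgroup.card_top, h2] at h3
  rw [← h3]
  have h4 : Nat.card (Multiplicative (ZMod 1 × ZMod 2)) = 2 := by
    rw [Nat.card_congr Multiplicative.toAdd, Nat.card_prod, Nat.card_zmod, Nat.card_zmod]
  rw [h4]
  rfl

/-- `SL₆(2)` is the full linear group -/
noncomputable def slEquiv (hF : Fintype.card F = 2) :
    Matrix.SpecialLinearGroup (Fin 6) F ≃* ((Fin 6 → F) ≃ₗ[F] (Fin 6 → F)) :=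
  MulEquiv.ofBijective Matrix.SpecialLinearGroup.toLin' ⟨Matrix.SpecialLinearGroup.toLin'_injective, fun f => by
    classical
    have h1 : ∀ a : F, a ≠ 0 → a = 1 := by
      intro a ha
      by_contra h
      have h2 : ({0, 1, a} : Finset F).card ≤ Fintype.card F := Finset.card_le_univ _
      rw [Finset.card_eq_three.2 ⟨0, 1, a, zero_ne_one, ha.symm, fun h3 => h h3.symm, rfl⟩, hF] at h2
      omega
    have h2 : (LinearMap.toMatrix' f.toLinearMap).det ≠ 0 := by
      rw [LinearMap.det_toMatrix']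
      exact (LinearEquiv.isUnit_det' f).ne_zero
    let A : Matrix.SpecialLinearGroup (Fin 6) F := ⟨LinearMap.toMatrix' f.toLinearMap, h1 _ h2⟩
    refine ⟨A, ?_⟩
    apply LinearEquiv.toLinearMap_injective
    exact Matrix.toLin'_toMatrix' _⟩

/-- `L₆(2)` is the full linear group -/
noncomputable def E (hF : Fintype.card F = 2) :
    Matrix.ProjectiveSpecialLinearGroup (Fin 6) F ≃* ((Fin 6 → F) ≃ₗ[F] (Fin 6 → F)) :=
  (pslEquiv (n := 6) (by rw [H809.SelfCent.card_center_SL 6 (by norm_num), hF]; rfl)).symm.trans (slEquiv hF)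

theorem card_gl (hF : Fintype.card F = 2) : Nat.card ((Fin 6 → F) ≃ₗ[F] (Fin 6 → F)) = 20158709760 := by
  rw [← Nat.card_congr (E hF).toEquiv, card_psl62 hF]

variable (OT : OrdDiv.OrderTable.{0})
  (hS : ∀ (X : Type) [Group X] [Finite X] [IsSimpleGroup X], Cfsg.IsKnownSimple' X)

theorem entry (hF : Fintype.card F = 2) : ∀ P : Subgroup (Matrix.ProjectiveSpecialLinearGroup (Fin 6) F), Nat.card P = 31 →
    Nat.card (centralizer (P : Set (Matrix.ProjectiveSpecialLinearGroup (Fin 6) F))) ∣ 31 * 1 ∧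
    Nat.card (normalizer (P : Set (Matrix.ProjectiveSpecialLinearGroup (Fin 6) F))) ∣ 31 * 5 := by
  have : IsSimpleGroup (Matrix.ProjectiveSpecialLinearGroup (Fin 6) F) := S0249.result 6 (by norm_num)
  exact entry_of_ex (by norm_num) (card_psl62 hF) (by norm_num) (by norm_num) (by decide +kernel)
      (H809.SelfCent.psl_selfcent 6 2 31 (by simp) F hF)

include OT hS

theorem data (hF : Fintype.card F = 2) : Data (Matrix.ProjectiveSpecialLinearGroup (Fin 6) F) [(31, 1, 5)]
    [2, 3, 5, 7, 31]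
    [60, 168, 360, 504, 2520, 6048, 14880, 20160, 25920, 181440, 1451520, 9999360, 20158709760] := by
  refine mk_data OT hS (l := [(2, 15), (3, 4), (5, 1), (7, 2), (31, 1)]) (card_psl62 hF) (by decide +kernel) ?_
  intro x hx
  rw [List.mem_singleton] at hx
  subst hx
  exact entry hF

/-- a full proper subgroup has order `|L₅(2)|` or `|2⁵ L₅(2)|` -/
theorem card_of_full (hF : Fintype.card F = 2) (R : Subgroup ((Fin 6 → F) ≃ₗ[F] (Fin 6 → F))) (hR : R ≠ ⊤)
    (hf : ¬ PGap ((Fin 6 → F) ≃ₗ[F] (Fin 6 → F)) R) :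
    ∃ a, 7 ≤ a ∧ a ≤ 15 ∧ Nat.card R = 63 * (2 ^ a * 155) := by
  have hfin : Finite ((Fin 6 → F) ≃ₗ[F] (Fin 6 → F)) := Nat.finite_of_card_ne_zero (by rw [card_gl hF]; norm_num)
  set R' := R.comap (E hF).toMonoidHom with hR'
  have hcR' : Nat.card R' = Nat.card R := H938.Sax.card_comap (E hF) R
  have hv : OrdDiv.valid [(2, 15), (3, 4), (5, 1), (7, 2), (31, 1)] 20158709760 = true := by decide +kernel
  have hdiv : Nat.card R' ∣ 20158709760 := by
    rw [← card_psl62 hF]; exact Subgroup.card_subgroup_dvd_card R'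
  have hmem : Nat.card R' ∈ sub 20158709760 [(2, 15), (3, 4), (5, 1), (7, 2), (31, 1)] [(31, 1, 5)] [2, 3, 5, 7, 31]
      [60, 168, 360, 504, 2520, 6048, 14880, 20160, 25920, 181440, 1451520, 9999360, 20158709760] := by
    unfold sub
    rw [List.mem_filter]
    refine ⟨mem_divs_of_valid hv hdiv, bandI ?_ (bandI ?_ ((data OT hS hF).feas R'))⟩
    · rw [List.all_eq_true]
      intro x hx
      apply beqI
      by_contra h1
      have hx2 : x.1.Prime ∧ x.1 ∣ 20158709760 := by
        refine ⟨OrdDiv.valid_prime hv x hx, ?_⟩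
        simp only [List.mem_cons, List.not_mem_nil, or_false] at hx
        rcases hx with rfl | rfl | rfl | rfl | rfl <;> norm_num
      exact hf ⟨x.1, hx2.1, by rw [card_gl hF]; exact hx2.2, fun h3 => h1 (by
        rw [hcR']; exact Nat.mod_eq_zero_of_dvd h3)⟩
    · rw [Nat.blt_eq]
      refine lt_of_le_of_ne (Nat.le_of_dvd (by norm_num) hdiv) fun h1 => hR ?_
      apply Subgroup.eq_top_of_card_eq
      rw [← hcR', h1, card_gl hF]
  have h1 : (sub 20158709760 [(2, 15), (3, 4), (5, 1), (7, 2), (31, 1)] [(31, 1, 5)] [2, 3, 5, 7, 31]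
      [60, 168, 360, 504, 2520, 6048, 14880, 20160, 25920, 181440, 1451520, 9999360, 20158709760]).all
        (fun h => h == 63 * (2 ^ 10 * 155) || h == 63 * (2 ^ 15 * 155)) = true := by decide +kernel
  rw [List.all_eq_true] at h1
  have h2 := h1 _ hmem
  rw [Bool.or_eq_true, beq_iff_eq, beq_iff_eq, hcR'] at h2
  rcases h2 with h2 | h2
  · exact ⟨10, by norm_num, by norm_num, h2⟩
  · exact ⟨15, by norm_num, by norm_num, h2⟩

/-- **A full proper subgroup stabilises a point or a hyperplane.** -/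
theorem exists_sub (hF : Fintype.card F = 2) (R : Subgroup ((Fin 6 → F) ≃ₗ[F] (Fin 6 → F))) (hR : R ≠ ⊤)
    (hf : ¬ PGap ((Fin 6 → F) ≃ₗ[F] (Fin 6 → F)) R) :
    ∃ W : Submodule F (Fin 6 → F), (finrank F W = 1 ∨ finrank F W = 5) ∧ R ≤ stab W := by
  obtain ⟨a, ha7, ha15, hRa⟩ := card_of_full OT hS hF R hR hf
  have hfin : Finite ((Fin 6 → F) ≃ₗ[F] (Fin 6 → F)) := Nat.finite_of_card_ne_zero (by rw [card_gl hF]; norm_num)
  have : Fact (Nat.Prime 31) := ⟨by norm_num⟩
  have hV : finrank F (Fin 6 → F) = 6 := by simp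
  obtain ⟨⟨x, hxR⟩, hx⟩ := exists_prime_orderOf_dvd_card' (G := R) 31
    (by rw [hRa]; exact Dvd.dvd.mul_left (Dvd.dvd.mul_left (by norm_num) _) _)
  rw [Subgroup.orderOf_mk] at hx
  have hx31 : x ^ 31 = 1 := by rw [← hx]; exact pow_orderOf_eq_one x
  have hx1 : x ≠ 1 := by
    rintro rfl
    rw [orderOf_one] at hx
    omega
  rcases red hF hV hxR hx31 hx1 with htr | ⟨v, hv0, hv⟩ | ⟨U, hU, hUR⟩
  · exfalso
    obtain ⟨v0, h0, hv0, hu⟩ := exists_v0 hF hV hx31 hx1
    have hcs := card_stab hF hV h0 htr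
    set H : Subgroup R := MulAction.stabilizer R v0 with hH
    have hcH : Nat.card H = 2 ^ a * 155 := by
      rw [hRa, mul_comm 63] at hcs
      exact Nat.eq_of_mul_eq_mul_right (by norm_num) hcs
    set ι : H →* ((Fin 6 → F) ≃ₗ[F] (Fin 6 → F)) := R.subtype.comp H.subtype with hι
    have hιi : Function.Injective ι := by
      intro g h hgh
      exact Subtype.ext (Subtype.ext hgh)
    set xH : H := ⟨⟨x, hxR⟩, hv0⟩ with hxH
    have hιx : ι xH = x := rfl
    have hox : orderOf xH = 31 := by rw [← hx, ← hιx, orderOf_injective ι hιi]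
    have hP : Nat.card (zpowers xH) = 31 := by rw [Nat.card_zpowers, hox]
    set j : H →* Matrix.ProjectiveSpecialLinearGroup (Fin 6) F := (E hF).symm.toMonoidHom.comp ι with hj
    have hji : Function.Injective j := (E hF).symm.injective.comp hιi
    have hPj : Nat.card ((zpowers xH).map j) = 31 := by
      rw [← Nat.card_congr ((zpowers xH).equivMapOfInjective j hji).toEquiv, hP]
    obtain ⟨A, hA, hAP⟩ := Fix.exists_two (zpowers xH) hP
      ((Fix.card_cent_map hji _).trans (entry hF _ hPj).1)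
      ((Fix.card_norm_map hji _).trans (entry hF _ hPj).2) hcH
      (fun K _ _ hK hK' hd => by
        rw [hcH] at hd
        have h15 : 2 ^ a * 155 ∣ 2 ^ 15 * 155 := Nat.mul_dvd_mul_right (pow_dvd_pow 2 ha15) _
        have hd' := hd.trans h15
        have h3 : Nat.card K ∣ Nat.card (Matrix.ProjectiveSpecialLinearGroup (Fin 6) F) := by
          rw [card_psl62 hF]
          exact hd'.trans (by norm_num)
        have h4 := (data OT hS hF).tbl K hK hK' h3
        have h5 : ∀ s ∈ [60, 168, 360, 504, 2520, 6048, 14880, 20160, 25920, 181440, 1451520, 9999360, 20158709760],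
            ¬ s ∣ 2 ^ 15 * 155 := by decide +kernel
        exact h5 _ h4 hd')
    have hcA : Nat.card (A.map ι) = 2 ^ a := by
      rw [← hA]; exact (Nat.card_congr (A.equivMapOfInjective ι hιi).toEquiv).symm
    have h5 := two_small hF hV hx31 h0 hv0 hu (R := A.map ι) (IsPGroup.of_card hcA)
      (by
        rintro _ ⟨y, hy, rfl⟩
        have h6 : xH⁻¹ ∈ normalizer (A : Set H) := inv_mem (hAP (mem_zpowers xH))
        have h7 := (Subgroup.mem_normalizer_iff.1 h6 y).1 hy
        rw [inv_inv] at h7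
        exact ⟨_, h7, by rw [map_mul, map_mul, map_inv, hιx]⟩)
      (by
        rintro _ ⟨y, -, rfl⟩
        exact y.2)
    rw [hcA] at h5
    have h6 : 2 ^ 7 ≤ 2 ^ a := Nat.pow_le_pow_right (by norm_num) ha7
    omega
  · refine ⟨F ∙ v, Or.inl (finrank_span_singleton hv0), fun m hm => mem_stab_of_le fun w hw => ?_⟩
    obtain ⟨c, rfl⟩ := Submodule.mem_span_singleton.1 hw
    rw [map_smul, hv m hm]
    exact hw
  · exact ⟨U, Or.inr hU, fun m hm => mem_stab_of_le (hUR m hm)⟩

/-- the same for `PSL₆(2)`: PGap or in the stabiliser of a point or a hyperplane -/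
theorem pgap_or_sub (hF : Fintype.card F = 2) (R : Subgroup (Matrix.ProjectiveSpecialLinearGroup (Fin 6) F))
    (hR : R ≠ ⊤) : PGap _ R ∨
    ∃ W : Submodule F (Fin 6 → F), (finrank F W = 1 ∨ finrank F W = 5) ∧ R ≤ (stab W).comap (E hF).toMonoidHom := by
  by_cases hf : PGap _ R
  · exact Or.inl hf
  right
  have hc : Nat.card (R.map (E hF).toMonoidHom) = Nat.card R :=
    (Nat.card_congr ((E hF).subgroupMap R).toEquiv).symm
  obtain ⟨W, hW, hle⟩ := exists_sub OT hS hF (R.map (E hF).toMonoidHom) (fun h1 => hR (by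
    have hfin : Finite (Matrix.ProjectiveSpecialLinearGroup (Fin 6) F) :=
      Nat.finite_of_card_ne_zero (by rw [card_psl62 hF]; norm_num)
    apply Subgroup.eq_top_of_card_eq
    rw [← hc, h1, Subgroup.card_top, Nat.card_congr (E hF).toEquiv])) (by
    rintro ⟨r, hr, h1, h2⟩
    exact hf ⟨r, hr, by rwa [Nat.card_congr (E hF).toEquiv], by rwa [hc] at h2⟩)
  exact ⟨W, hW, Subgroup.map_le_iff_le_comap.1 hle⟩

/-- **`L₆(2)` is not the socle of a primitive factorization.** -/
theorem fac_l62 {G : Type u} [Group G] {T A : Subgroup G} {φ : G ≃* G} (h : Cfsg.Agent.H997.PF.Fac T A φ)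
    (hF : Fintype.card F = 2) (e : T ≃* Matrix.ProjectiveSpecialLinearGroup (Fin 6) F)
    (hf : ¬ Cfsg.Agent.H938.Sax.PGap T (A.subgroupOf T)) : False := by
  have := h.fin
  have hT : T = ⊤ := by
    have h1 := h.index_dvd_out
    have h2 := h.index_ne
    rw [card_out_congr e, out_psl62 hF] at h1 h2
    exact Subgroup.index_eq_one.1 (((Nat.dvd_prime Nat.prime_two).1 h1).resolve_right h2)
  obtain ⟨M, ψ, hM, hMf, hnc, hfac⟩ := FacTop.exists_of_top h hT (e.trans (E hF)) hf
  have hfin : Finite ((Fin 6 → F) ≃ₗ[F] (Fin 6 → F)) := Nat.finite_of_card_ne_zero (by rw [card_gl hF]; norm_num)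
  have hV : finrank F (Fin 6 → F) = 6 := by simp
  -- subspaces
  have hpt : ∀ W : Submodule F (Fin 6 → F), finrank F W = 1 ∨ finrank F W = 5 → W ≠ ⊥ ∧ W ≠ ⊤ := by
    intro W hW
    constructor
    · rintro rfl
      rw [finrank_bot] at hW
      omega
    · rintro rfl
      rw [finrank_top, hV] at hW
      omega
  have key : ∀ K : Subgroup ((Fin 6 → F) ≃ₗ[F] (Fin 6 → F)), IsCoatom K → ¬ PGap _ K →
      ∃ W : Submodule F (Fin 6 → F), (finrank F W = 1 ∨ finrank F W = 5) ∧ K = stab W := by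
    intro K hK hKf
    obtain ⟨W, hW, hle⟩ := exists_sub OT hS hF K hK.1 hKf
    refine ⟨W, hW, ?_⟩
    rcases hK.le_iff.1 hle with h1 | h1
    · exact absurd h1 (stab_ne_top (hpt W hW).1 (hpt W hW).2)
    · exact h1.symm
  obtain ⟨W, hW, rfl⟩ := key M hM hMf
  have hM' : IsCoatom ((stab W).map ψ.toMonoidHom) := by
    refine ⟨fun h1 => hM.1 ?_, fun K hK => ?_⟩
    · apply Subgroup.eq_top_of_card_eq
      rw [← card_map ψ, h1, Subgroup.card_top]
    · have h2 : stab W < K.comap ψ.toMonoidHom := by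
        refine lt_of_le_of_ne (Subgroup.map_le_iff_le_comap.1 hK.le) fun h3 => hK.ne ?_
        rw [h3, Subgroup.map_comap_eq_self_of_surjective ψ.surjective]
      have h3 := hM.2 _ h2
      rw [eq_top_iff]
      intro x _
      have h4 : ψ.symm x ∈ K.comap ψ.toMonoidHom := by rw [h3]; exact Subgroup.mem_top _
      have h5 : ψ (ψ.symm x) ∈ K := h4
      rwa [MulEquiv.apply_symm_apply] at h5
  obtain ⟨W', hW', hMW'⟩ := key _ hM' (fun h1 => hMf (pgap_map ψ h1))
  have hfac' : ∀ g : (Fin 6 → F) ≃ₗ[F] (Fin 6 → F), ∃ a ∈ stab W, ∃ b ∈ stab W', g = a * b := by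
    intro g
    obtain ⟨a, ha, b, hb, hab⟩ := hfac g
    refine ⟨a, ha, ψ b, ?_, hab⟩
    rw [← hMW']
    exact ⟨b, hb, rfl⟩
  have hne : finrank F W ≠ finrank F W' := by
    intro h1
    obtain ⟨g, hg⟩ := exists_map_eq h1
    exact hnc g (by rw [hMW', map_stab, hg])
  rcases hW with hW1 | hW5
  · rcases hW' with h1 | h5
    · exact hne (hW1.trans h1.symm)
    · exact not_fac hW1 (hpt W' (Or.inr h5)).1 (hpt W' (Or.inr h5)).2 hfac'
  · rcases hW' with h1 | h5
    · exact not_fac' h1 (hpt W (Or.inr hW5)).1 (hpt W (Or.inr hW5)).2 hfac'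
    · exact hne (hW5.trans h5.symm)

end main

end Cfsg.Agent.H783.FacL62
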