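import Cfsg.Agent.H997.PF.Rows

/-!
# Primitive factorizations of simple groups

`exists_of_top` : if the socle `T ≃* S` of a primitive factorization is the whole group, the factorization is one of `S`.
-/

set_option autoImplicit false

namespace Cfsg.Agent.H783.FacTop

open Cfsg.Agent.H938.Sax Cfsg.Agent.H997.PF

universe u v

theorem exists_of_top {G : Type u} [Group G] {T A : Subgroup G} {φ : G ≃* G} (h : Fac T A φ) (hT : T = ⊤)
    {S : Type v} [Group S] (e : T ≃* S) (hf : ¬ PGap T (A.subgroupOf T)) :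
    ∃ (M : Subgroup S) (ψ : MulAut S), IsCoatom M ∧ ¬ PGap S M ∧
      (∀ x : S, M.map ψ.toMonoidHom ≠ M.map (MulAut.conj x).toMonoidHom) ∧
      ∀ g : S, ∃ a ∈ M, ∃ b ∈ M, g = a * ψ b := by
  have := h.fin
  subst hT
  let f : G ≃* S := Subgroup.topEquiv.symm.trans e
  let ψ : MulAut S := (f.symm.trans φ).trans f
  have : Finite S := Finite.of_equiv G f.toEquiv
  have hcm : ∀ K : Subgroup G, Nat.card (K.map f.toMonoidHom) = Nat.card K := fun K =>
    (Nat.card_congr (f.subgroupMap K).toEquiv).symm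
  refine ⟨A.map f.toMonoidHom, ψ, ⟨fun h1 => h.coatom.1 ?_, fun K hK => ?_⟩, ?_, fun x hx => ?_, fun g => ?_⟩
  · apply Subgroup.eq_top_of_card_eq
    rw [← hcm A, h1, Subgroup.card_top, ← Nat.card_congr f.toEquiv]
  · have h2 : A < K.comap f.toMonoidHom := by
      refine lt_of_le_of_ne (Subgroup.map_le_iff_le_comap.1 hK.le) fun h3 => hK.ne ?_
      rw [h3, Subgroup.map_comap_eq_self_of_surjective f.surjective]
    have h3 := h.coatom.2 _ h2
    rw [eq_top_iff]
    intro x _
    have h4 : f.symm x ∈ K.comap f.toMonoidHom := by rw [h3]; exact Subgroup.mem_top _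
    have h5 : f (f.symm x) ∈ K := h4
    rwa [MulEquiv.apply_symm_apply] at h5
  · rintro ⟨r, hr, h1, h2⟩
    refine hf ⟨r, hr, ?_, ?_⟩
    · rwa [Nat.card_congr e.toEquiv]
    · rw [card_subgroupOf, inf_top_eq]
      rwa [hcm] at h2
  · refine h.not_conj (f.symm x) ?_
    apply Subgroup.map_injective (f := f.toMonoidHom) f.injective
    have h1 : (A.map φ.toMonoidHom).map f.toMonoidHom = (A.map f.toMonoidHom).map ψ.toMonoidHom := by
      rw [Subgroup.map_map, Subgroup.map_map]
      congr 1
      refine MonoidHom.ext fun g => ?_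
      change f (φ g) = f (φ (f.symm (f g)))
      rw [MulEquiv.symm_apply_apply]
    have h2 : (A.map (MulAut.conj (f.symm x)).toMonoidHom).map f.toMonoidHom =
        (A.map f.toMonoidHom).map (MulAut.conj x).toMonoidHom := by
      rw [Subgroup.map_map, Subgroup.map_map]
      congr 1
      refine MonoidHom.ext fun g => ?_
      change f (f.symm x * g * (f.symm x)⁻¹) = x * f g * x⁻¹
      rw [map_mul, map_mul, map_inv, MulEquiv.apply_symm_apply]
    rw [h1, h2, hx]
  · obtain ⟨a, ha, b, hb, hab⟩ := h.fac (f.symm g)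
    refine ⟨f a, ⟨a, ha, rfl⟩, f b, ⟨b, hb, rfl⟩, ?_⟩
    change g = f a * f (φ (f.symm (f b)))
    rw [MulEquiv.symm_apply_apply, ← map_mul, ← hab, MulEquiv.apply_symm_apply]

end Cfsg.Agent.H783.FacTop
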