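import Cfsg.Agent.H789.Exo.Defs
import Mathlib.LinearAlgebra.Matrix.SpecialLinearGroup
import Mathlib.FieldTheory.Finite.Basic

/-!
# Inverted elements of order 3 in `SL₂(K)` and of order 5 in `SL₄(K)` (helper783)

* `hasInv_three` : `HasInv 3 (SL₂(K))`, `K` finite with `3 ≠ 0`;
* `hasInv_five` : `HasInv 5 (SL₄(K))`, any commutative ring `K` (nontrivial).
-/

set_option autoImplicit false

namespace Cfsg.Agent.H783.InvSL

open Matrix Cfsg.Agent.H789.Exo

universe u

/-- `a² - ac + c² = -1` -/
theorem exists_norm (K : Type u) [Field K] [Finite K] (h3 : (3 : K) ≠ 0) : ∃ a c : K, a ^ 2 - a * c + c ^ 2 = -1 := by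
  have := Fintype.ofFinite K
  by_cases h2 : (2 : K) = 0
  · refine ⟨1, 0, ?_⟩
    linear_combination h2
  · have hodd : Fintype.card K % 2 = 1 := by
      rcases Nat.mod_two_eq_zero_or_one (Fintype.card K) with h | h
      · exfalso
        exact h2 (by
          have h4 := (FiniteField.even_card_iff_char_two (F := K)).2 
          have h5 : ringChar K = 2 := FiniteField.even_card_iff_char_two.2 h
          have h6 : ((2 : ℕ) : K) = 0 := by rw [← h5]; exact ringChar.Nat.cast_ringChar
          exact_mod_cast h6)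
      · exact h
    -- `X² + 1` and `(3/4) X²`
    have h4 : (3 / 4 : K) ≠ 0 := by
      have h40 : (4 : K) ≠ 0 := by
        intro h; apply h2
        have : (2 : K) * 2 = 0 := by linear_combination h
        rcases mul_eq_zero.1 this with h | h <;> exact h
      exact div_ne_zero h3 h40
    have hd1 : (Polynomial.X ^ 2 + Polynomial.C (1 : K)).degree = 2 := by
      exact Polynomial.degree_X_pow_add_C (by norm_num) 1
    have hd2 : (Polynomial.C (3 / 4 : K) * Polynomial.X ^ 2).degree = 2 := by
      exact Polynomial.degree_C_mul_X_pow 2 h4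
    obtain ⟨x, y, hxy⟩ := FiniteField.exists_root_sum_quadratic hd1 hd2 hodd
    simp only [Polynomial.eval_add, Polynomial.eval_pow, Polynomial.eval_X, Polynomial.eval_mul, Polynomial.eval_C]
      at hxy
    refine ⟨x + y / 2, y, ?_⟩
    have h40 : (4 : K) ≠ 0 := by
      intro h; apply h2
      have : (2 : K) * 2 = 0 := by linear_combination h
      rcases mul_eq_zero.1 this with h | h <;> exact h
    field_simp at hxy ⊢
    linear_combination hxy

/-- an element of order 3 of `SL₂(K)` is inverted in `SL₂(K)` -/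
theorem hasInv_three (K : Type u) [Field K] [Finite K] (h3 : (3 : K) ≠ 0) : HasInv 3 (SpecialLinearGroup (Fin 2) K) := by
  obtain ⟨a, c, hac⟩ := exists_norm K h3
  let x : SpecialLinearGroup (Fin 2) K := ⟨!![0, -1; 1, -1], by simp [det_fin_two]⟩
  let s : SpecialLinearGroup (Fin 2) K := ⟨!![a, c - a; c, -a], by
    rw [det_fin_two_of]; linear_combination -hac⟩
  refine ⟨x, s, ?_, ⟨1, ?_⟩, ?_⟩
  · intro h
    have := congrFun (congrFun (congrArg Subtype.val h) 0) 0
    simp [x] at this
  · rw [show (3 : ℕ) ^ 1 = 3 by norm_num, show x ^ 3 = x * x * x by rw [pow_succ, sq]]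
    apply Subtype.ext
    rw [SpecialLinearGroup.coe_mul, SpecialLinearGroup.coe_mul]
    ext i j
    fin_cases i <;> fin_cases j <;> simp [x, Matrix.mul_apply, Fin.sum_univ_two]
  · rw [mul_inv_eq_iff_eq_mul]
    apply Subtype.ext
    rw [SpecialLinearGroup.coe_mul, SpecialLinearGroup.coe_mul, SpecialLinearGroup.coe_inv, adjugate_fin_two]
    ext i j
    fin_cases i <;> fin_cases j <;> simp [x, s, Matrix.mul_apply, Fin.sum_univ_two] <;> ring

/-- the 5-cycle on the root lattice of type `A₄` -/
def cyc : SpecialLinearGroup (Fin 4) ℤ := ⟨!![0, 0, 0, -1; 1, 0, 0, -1; 0, 1, 0, -1; 0, 0, 1, -1], by decide⟩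

/-- the product of two transpositions which inverts `cyc` -/
def inv : SpecialLinearGroup (Fin 4) ℤ := ⟨!![0, 0, 0, -1; 0, 0, -1, 0; 0, -1, 0, 0; -1, 0, 0, 0], by decide⟩

theorem cyc_pow : cyc ^ 5 = 1 := by
  apply Subtype.ext
  decide

theorem inv_cyc : inv * cyc * inv * cyc = 1 := by
  apply Subtype.ext
  decide

theorem inv_sq : inv * inv = 1 := by
  apply Subtype.ext
  decide

theorem inv_conj : inv * cyc * inv⁻¹ = cyc⁻¹ := by
  have h1 : inv⁻¹ = inv := inv_eq_of_mul_eq_one_left inv_sq
  rw [h1]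
  exact eq_inv_of_mul_eq_one_left inv_cyc

/-- an element of order 5 of `SL₄(K)` is inverted in `SL₄(K)` -/
theorem hasInv_five (K : Type u) [CommRing K] [Nontrivial K] : HasInv 5 (SpecialLinearGroup (Fin 4) K) := by
  refine ⟨SpecialLinearGroup.map (Int.castRingHom K) cyc, SpecialLinearGroup.map (Int.castRingHom K) inv, ?_,
    ⟨1, ?_⟩, ?_⟩
  · intro h
    have h1 := congrFun (congrFun (congrArg Subtype.val h) 0) 0
    have h2 : ((SpecialLinearGroup.map (Int.castRingHom K) cyc).1 0 0) = 0 := by
      change Int.castRingHom K (cyc.1 0 0) = 0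
      simp [cyc]
    rw [h2] at h1
    simp at h1
  · rw [← map_pow, pow_one, cyc_pow, map_one]
  · rw [← map_inv, ← map_mul, ← map_mul, inv_conj, map_inv]

end Cfsg.Agent.H783.InvSL
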