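import Cfsg.Agent.H943.E7V.Iface
import Cfsg.Agent.H361.SelfCent
import Cfsg.Agent.H405.Nse
import Cfsg.Agent.S0157
import Cfsg.Agent.CharDeep.LinearChar
import Cfsg.Agent.H621.AltChar

/-!
# `U₃(4)` is not in `E₇(2)`: the counting (task 2447, for S5770)

`Fct G Ω` : the facts on the action of `G = U₃(4)` on `65` points; `not_adm : ¬ Adm G`.
-/

set_option autoImplicit false
set_option linter.unusedSectionVars false

namespace Cfsg.Agent.H783.U34A

open Cfsg IsLocalRing Module Cfsg.Agent.H657 MulAction Cfsg.Agent.H943.E7V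

universe u

/-- The tool `POS` (multiplicities of characters of defect zero). -/
def Pos : Prop := ∀ {p : ℕ} {M : Ideal AlgInt} {V : ValuationSubring ℂ} (_ : IsPModular p M) (_ : Above M V)
  {G : Type u} [Group G] [Fintype G] {n : ℕ} (σ : Representation (ResidueField V) G (Fin n → ResidueField V))
  {χ : G → ℂ} (_ : IsIrrCharacter G χ) (_ : ∀ g, ¬ IsPRegular p g → χ g = 0),
  ∃ d : ℕ, d ≤ n ∧ (d : ℂ) * Fintype.card G = χ 1 * ∑ g : G, bc p σ g * χ g⁻¹

/-- number of fixed points -/
noncomputable def fx (Ω : Type*) {G : Type*} [Group G] [MulAction G Ω] (g : G) : ℕ := Nat.card (fixedBy Ω g)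

section Count

variable {G Ω : Type*} [Group G] [MulAction G Ω]

theorem fx_conj (k g : G) : fx Ω (k * g * k⁻¹) = fx Ω g := by
  unfold fx
  refine Nat.card_congr ⟨fun x => ⟨k⁻¹ • x.1, ?_⟩, fun x => ⟨k • x.1, ?_⟩, fun x => ?_, fun x => ?_⟩
  · have h := x.2
    rw [mem_fixedBy] at h ⊢
    have h1 := congrArg (k⁻¹ • ·) h
    simpa [mul_smul] using h1
  · have h := x.2
    rw [mem_fixedBy] at h ⊢
    rw [mul_smul, mul_smul, inv_smul_smul, h]
  · simp
  · simp

variable [Fintype G] [Fintype Ω] [DecidableEq Ω]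

theorem fx_eq (g : G) : fx Ω g = (Finset.univ.filter fun x : Ω => g • x = x).card := by
  unfold fx
  rw [Nat.card_eq_fintype_card, ← Set.toFinset_card]
  congr 1
  ext x
  simp

theorem pair_card (g : G) : ((fx Ω g : ℂ) * (fx Ω g - 1)) =
    ∑ p ∈ (Finset.univ : Finset Ω).offDiag, if g • p.1 = p.1 ∧ g • p.2 = p.2 then (1 : ℂ) else 0 := by
  rw [← Finset.sum_filter, Finset.sum_const, nsmul_eq_mul, mul_one]
  have e : (Finset.univ : Finset Ω).offDiag.filter (fun p => g • p.1 = p.1 ∧ g • p.2 = p.2) =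
      (Finset.univ.filter fun x : Ω => g • x = x).offDiag := by
    ext p
    simp only [Finset.mem_filter, Finset.mem_offDiag, Finset.mem_univ, true_and]
    tauto
  rw [e, Finset.offDiag_card, ← fx_eq, Nat.cast_sub (Nat.le_mul_self _), Nat.cast_mul]
  ring

/-- **Counting of fixed pairs.** -/
theorem sum_pairs (h2 : IsMultiplyPretransitive G Ω 2) {a b : Ω} (hab : a ≠ b) (Φ : G → ℂ)
    (hΦ : ∀ k g, Φ (k * g * k⁻¹) = Φ g) :
    ∑ g, Φ g * (fx Ω g * (fx Ω g - 1)) =
      Fintype.card Ω * (Fintype.card Ω - 1) * ∑ g : G, if g • a = a ∧ g • b = b then Φ g else 0 := by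
  have h1 : ∀ p ∈ (Finset.univ : Finset Ω).offDiag, (∑ g : G, if g • p.1 = p.1 ∧ g • p.2 = p.2 then Φ g else 0) =
      ∑ g : G, if g • a = a ∧ g • b = b then Φ g else 0 := by
    rintro ⟨x, y⟩ hp
    rw [Finset.mem_offDiag] at hp
    obtain ⟨k, hx, hy⟩ := is_two_pretransitive_iff.1 h2 hab hp.2.2
    rw [← Equiv.sum_comp (MulAut.conj k).toEquiv]
    refine Finset.sum_congr rfl fun g _ => ?_
    change (if (k * g * k⁻¹) • x = x ∧ (k * g * k⁻¹) • y = y then Φ (k * g * k⁻¹) else 0) = _
    rw [hΦ]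
    have e : ∀ c d : Ω, k • c = d → ((k * g * k⁻¹) • d = d ↔ g • c = c) := by
      rintro c d rfl
      rw [mul_smul, mul_smul, inv_smul_smul, smul_left_cancel_iff]
    simp only [e a x hx, e b y hy]
  calc ∑ g, Φ g * (fx Ω g * (fx Ω g - 1))
      = ∑ g, ∑ p ∈ (Finset.univ : Finset Ω).offDiag, if g • p.1 = p.1 ∧ g • p.2 = p.2 then Φ g else 0 := by
        refine Finset.sum_congr rfl fun g _ => ?_
        rw [pair_card, Finset.mul_sum]
        refine Finset.sum_congr rfl fun p _ => ?_
        rw [mul_ite, mul_one, mul_zero]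
    _ = ∑ p ∈ (Finset.univ : Finset Ω).offDiag, ∑ g : G, if g • p.1 = p.1 ∧ g • p.2 = p.2 then Φ g else 0 :=
        Finset.sum_comm
    _ = _ := by
        rw [Finset.sum_congr rfl h1, Finset.sum_const, nsmul_eq_mul, Finset.offDiag_card, Finset.card_univ,
          Nat.cast_sub (Nat.le_mul_self _), Nat.cast_mul]
        ring

/-- the sum of `Ψ (f - 1)` -/
theorem sum_star (h2 : IsMultiplyPretransitive G Ω 2) {a b : Ω} (hab : a ≠ b) (Ψ : G → ℂ)
    (hΨ : ∀ k g, Ψ (k * g * k⁻¹) = Ψ g) :
    ∑ g, Ψ g * (fx Ω g - 1) =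
      Fintype.card Ω * (Fintype.card Ω - 1) * (∑ g : G, if g • a = a ∧ g • b = b then Ψ g / fx Ω g else 0) -
        ∑ g : G, if fx Ω g = 0 then Ψ g else 0 := by
  rw [← sum_pairs h2 hab (fun g => Ψ g / fx Ω g) fun k g => by rw [hΨ, fx_conj], ← Finset.sum_sub_distrib]
  refine Finset.sum_congr rfl fun g _ => ?_
  by_cases h0 : fx Ω g = 0
  · rw [if_pos h0, h0]
    simp
  · rw [if_neg h0]
    have : (fx Ω g : ℂ) ≠ 0 := Nat.cast_ne_zero.2 h0
    field_simp
    ring

/-- the sum over a cyclic two-point stabiliser -/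
theorem sum_cyc {a b : Ω} {c : G} (hc : ∀ g : G, (g • a = a ∧ g • b = b) ↔ g ∈ Subgroup.zpowers c) {n : ℕ}
    (hn : orderOf c = n) (Φ : G → ℂ) :
    (∑ g : G, if g • a = a ∧ g • b = b then Φ g else 0) = ∑ j ∈ Finset.range n, Φ (c ^ j) := by
  classical
  rw [← Finset.sum_filter]
  have e : (Finset.univ : Finset G).filter (fun g => g • a = a ∧ g • b = b) = (Finset.range n).image fun j => c ^ j := by
    ext g
    rw [Finset.mem_filter, hc, mem_zpowers_iff_mem_range_orderOf, hn]
    simp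
  rw [e, Finset.sum_image]
  intro i hi j hj hij
  rw [Finset.coe_range, Set.mem_Iio, ← hn] at hi hj
  exact pow_injOn_Iio_orderOf hi hj hij

end Count

/-- the facts on `U₃(4)` and its action on `65` points -/
structure Fct (G : Type*) [Group G] (Ω : Type*) [MulAction G Ω] : Prop where
  card : Nat.card G = 62400
  cardΩ : Nat.card Ω = 65
  two : IsMultiplyPretransitive G Ω 2
  ord : ∀ x : G, orderOf x ∣ 5 ∨ orderOf x ∣ 10 ∨ orderOf x ∣ 15 ∨ orderOf x ∣ 13 ∨ orderOf x ∣ 4
  cyc : ∀ x y : Ω, x ≠ y → ∃ c : G, orderOf c = 15 ∧ ∀ g : G, (g • x = x ∧ g • y = y) ↔ g ∈ Subgroup.zpowers c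
  three : ∀ g : G, orderOf g = 3 → 2 ≤ fx Ω g → fx Ω g = 2
  five : ∀ g : G, orderOf g = 5 → 2 ≤ fx Ω g → fx Ω g = 5

namespace Fct

variable {G Ω : Type*} [Group G] [MulAction G Ω] (h : Fct G Ω)

include h

theorem finΩ : Finite Ω := Nat.finite_of_card_ne_zero (by rw [h.cardΩ]; norm_num)

theorem finG : Finite G := Nat.finite_of_card_ne_zero (by rw [h.card]; norm_num)

theorem exists_pair {g : G} (hg : 2 ≤ fx Ω g) : ∃ x y : Ω, x ≠ y ∧ g • x = x ∧ g • y = y := by
  have := h.finΩ
  have h1 : 1 < Nat.card (fixedBy Ω g) := hg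
  have := Finite.one_lt_card_iff_nontrivial.1 h1
  obtain ⟨x, y, hxy⟩ := exists_pair_ne (fixedBy Ω g)
  exact ⟨x, y, fun h0 => hxy (Subtype.ext h0), x.2, y.2⟩

theorem dvd15 {g : G} (hg : 2 ≤ fx Ω g) : orderOf g ∣ 15 := by
  obtain ⟨x, y, hxy, h1, h2⟩ := h.exists_pair hg
  obtain ⟨c, hc, hT⟩ := h.cyc x y hxy
  rw [← hc]
  exact orderOf_dvd_of_mem_zpowers ((hT g).1 ⟨h1, h2⟩)

theorem fx_mod {p : ℕ} (hp : p.Prime) {g : G} (hg : g ^ p = 1) : 65 ≡ fx Ω g [MOD p] := by
  have := h.finΩ
  have h1 := Cfsg.Agent.H361.SelfCent.card_modEq_of_perm hp (MulAction.toPermHom G Ω g) (by rw [← map_pow, hg, map_one])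
  rw [h.cardΩ] at h1
  exact h1

omit h in
theorem fixedBy_pow (g : G) (k : ℕ) : fixedBy Ω g ⊆ fixedBy Ω (g ^ k) := by
  intro x hx
  have hx : g • x = x := hx
  change g ^ k • x = x
  induction k with
  | zero => rw [pow_zero, one_smul]
  | succ k ih => rw [pow_succ, mul_smul, hx, ih]

theorem fx_le_pow (g : G) (k : ℕ) : fx Ω g ≤ fx Ω (g ^ k) := by
  have := h.finΩ
  exact Nat.card_mono (Set.toFinite _) (fixedBy_pow g k)

theorem fx_three {g : G} (hg : orderOf g = 3) : fx Ω g = 2 := by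
  have h1 := h.fx_mod Nat.prime_three (g := g) (by rw [← hg]; exact pow_orderOf_eq_one g)
  refine h.three g hg ?_
  unfold Nat.ModEq at h1
  omega

theorem fx_two {g : G} (hg : orderOf g = 2) : fx Ω g = 1 := by
  have h1 := h.fx_mod Nat.prime_two (g := g) (by rw [← hg]; exact pow_orderOf_eq_one g)
  unfold Nat.ModEq at h1
  by_contra h2
  have h3 := h.dvd15 (g := g) (by omega)
  rw [hg] at h3
  omega

theorem fx_thirteen {g : G} (hg : orderOf g = 13) : fx Ω g = 0 := by
  have h1 := h.fx_mod (by norm_num : Nat.Prime 13) (g := g) (by rw [← hg]; exact pow_orderOf_eq_one g)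
  unfold Nat.ModEq at h1
  by_contra h2
  have h3 := h.dvd15 (g := g) (by omega)
  rw [hg] at h3
  omega

theorem fx_even {g : G} (hg : 2 ∣ orderOf g) : fx Ω g = 1 := by
  have := h.finΩ
  have := h.finG
  obtain ⟨k, hk⟩ := hg
  have hk0 : k ≠ 0 := by
    rintro rfl
    exact (orderOf_pos g).ne' hk
  have h2 : orderOf (g ^ k) = 2 := by
    rw [orderOf_pow_of_dvd hk0 ⟨2, by rw [hk, mul_comm]⟩, hk]
    exact Nat.mul_div_left 2 (Nat.pos_of_ne_zero hk0)
  have h3 := h.fx_two h2
  have h4 := h.fx_le_pow g k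
  rw [h3] at h4
  have h5 : fx Ω (g ^ k) = 1 := h3
  unfold fx at h5
  rw [Nat.card_eq_one_iff_unique] at h5
  obtain ⟨hs, ⟨x⟩⟩ := h5
  have h6 : g ^ k • g • (x : Ω) = g • (x : Ω) := by
    have hx : g ^ k • (x : Ω) = x := x.2
    rw [← mul_smul, ← pow_succ, pow_succ', mul_smul, hx]
  have h7 : g • (x : Ω) = x := congrArg Subtype.val (Subsingleton.elim (⟨g • (x : Ω), h6⟩ : fixedBy Ω (g ^ k)) x)
  have h8 : 0 < fx Ω g := by
    have : Nonempty (fixedBy Ω g) := ⟨⟨x, h7⟩⟩
    exact Nat.card_pos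
  omega

theorem fx_fifteen {g : G} (hg : orderOf g = 15) : fx Ω g = 2 := by
  have := h.finΩ
  have h2 : orderOf (g ^ 5) = 3 := by
    rw [orderOf_pow_of_dvd (by norm_num) (by rw [hg]; norm_num), hg]
  have h3 := h.fx_three h2
  have h4 := h.fx_le_pow g 5
  rw [h3] at h4
  obtain ⟨x, y, hxy, hx, hy⟩ := h.exists_pair (g := g ^ 5) (by omega)
  have h5 : fixedBy Ω (g ^ 5) = {x, y} := by
    have h6 : ({x, y} : Set Ω) ⊆ fixedBy Ω (g ^ 5) := by
      rintro z (rfl | rfl)
      · exact hx
      · exact hy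
    refine (Set.eq_of_subset_of_ncard_le h6 ?_).symm
    rw [Set.ncard_pair hxy]
    exact h3.le
  have h7 : ∀ z ∈ fixedBy Ω (g ^ 5), g • z ∈ fixedBy Ω (g ^ 5) := by
    intro z hz
    have hz : g ^ 5 • z = z := hz
    change g ^ 5 • g • z = g • z
    rw [← mul_smul, ← pow_succ, pow_succ', mul_smul, hz]
  have h8 : g • x = x ∨ g • x = y := by
    have := h7 x hx
    rw [h5] at this
    exact this
  have h9 : g • y = x ∨ g • y = y := by
    have := h7 y hy
    rw [h5] at this
    exact this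
  have h10 : g • x = x := by
    rcases h8 with h8 | h8
    · exact h8
    · exfalso
      have h11 : g • y = x := by
        rcases h9 with h9 | h9
        · exact h9
        · exact absurd (smul_left_cancel g (h8.trans h9.symm)) hxy
      have h12 : g ^ 5 • x = y := by
        have e : g ^ 5 = g * g * g * g * g := by simp only [pow_succ, pow_zero, one_mul]
        rw [e, mul_smul, mul_smul, mul_smul, mul_smul, h8, h11, h8, h11, h8]
      exact hxy (hx.symm.trans h12)
  have h11 : g • y = y := by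
    rcases h9 with h9 | h9
    · exact absurd (smul_left_cancel g (h10.trans h9.symm)) hxy
    · exact h9
  have h12 : 1 < fx Ω g := by
    unfold fx
    rw [Finite.one_lt_card_iff_nontrivial]
    exact ⟨⟨x, h10⟩, ⟨y, h11⟩, fun h0 => hxy (congrArg Subtype.val h0)⟩
  omega

theorem fx_one : fx Ω (1 : G) = 65 := by
  unfold fx
  rw [← h.cardΩ]
  have : fixedBy Ω (1 : G) = Set.univ := by
    ext x
    simp
  rw [this, Nat.card_univ]

/-- the orders -/
theorem ord' (g : G) : orderOf g = 1 ∨ orderOf g = 3 ∨ orderOf g = 5 ∨ orderOf g = 13 ∨ orderOf g = 15 ∨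
    2 ∣ orderOf g := by
  have key : ∀ n : ℕ, (n ∣ 5 ∨ n ∣ 10 ∨ n ∣ 15 ∨ n ∣ 13 ∨ n ∣ 4) →
      n = 1 ∨ n = 3 ∨ n = 5 ∨ n = 13 ∨ n = 15 ∨ 2 ∣ n := by
    intro n hn
    have h1 : n ≤ 15 := by
      rcases hn with h | h | h | h | h <;> have := Nat.le_of_dvd (by norm_num) h <;> omega
    interval_cases n <;> revert hn <;> decide
  exact key _ (h.ord g)

/-- fixed point free elements have order 5 or 13 -/
theorem of_fx_zero {g : G} (hg : fx Ω g = 0) : orderOf g = 5 ∨ orderOf g = 13 := by
  rcases h.ord' g with h1 | h1 | h1 | h1 | h1 | h1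
  · rw [orderOf_eq_one_iff] at h1
    rw [h1, h.fx_one] at hg
    omega
  · rw [h.fx_three h1] at hg
    omega
  · exact Or.inl h1
  · exact Or.inr h1
  · rw [h.fx_fifteen h1] at hg
    omega
  · rw [h.fx_even h1] at hg
    omega

/-- the centraliser of an element of order 13 -/
theorem card_cent {z : G} (hz : orderOf z = 13) : Nat.card (Subgroup.centralizer ({z} : Set G)) = 13 := by
  have := h.finG
  have hp13 : Nat.Prime 13 := by norm_num
  have hf : Fact (Nat.Prime 13) := ⟨hp13⟩
  have hP : IsPGroup 13 (Subgroup.centralizer ({z} : Set G)) := by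
    rintro ⟨x, hx⟩
    rw [Subgroup.mem_centralizer_singleton_iff] at hx
    refine ⟨1, Subtype.ext ?_⟩
    change x ^ 13 ^ 1 = 1
    rw [pow_one]
    by_cases hc : Nat.Coprime (orderOf x) 13
    · have h1 : orderOf (x * z) = orderOf x * 13 := by
        rw [(show Commute x z from hx).orderOf_mul_eq_mul_orderOf_of_coprime (by rw [hz]; exact hc), hz]
      have h2 := h.ord (x * z)
      rw [h1] at h2
      have h3 : orderOf x * 13 ∣ 13 := by
        rcases h2 with h2 | h2 | h2 | h2 | h2
        · exact absurd ((Dvd.intro_left _ rfl).trans h2) (by norm_num)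
        · exact absurd ((Dvd.intro_left _ rfl).trans h2) (by norm_num)
        · exact absurd ((Dvd.intro_left _ rfl).trans h2) (by norm_num)
        · exact h2
        · exact absurd ((Dvd.intro_left _ rfl).trans h2) (by norm_num)
      have h4 : orderOf x = 1 := by
        have := Nat.le_of_dvd (by norm_num) h3
        have := orderOf_pos x
        omega
      rw [orderOf_eq_one_iff] at h4
      rw [h4, one_pow]
    · have h1 : 13 ∣ orderOf x := by
        rw [Nat.coprime_comm] at hc
        exact (Nat.Prime.dvd_iff_not_coprime hp13).2 hc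
      have h3 : orderOf x ∣ 13 := by
        rcases h.ord x with h2 | h2 | h2 | h2 | h2
        · exact absurd (h1.trans h2) (by norm_num)
        · exact absurd (h1.trans h2) (by norm_num)
        · exact absurd (h1.trans h2) (by norm_num)
        · exact h2
        · exact absurd (h1.trans h2) (by norm_num)
      exact orderOf_dvd_iff_pow_eq_one.1 h3
  obtain ⟨k, hk⟩ := hP.exists_card_eq
  have h1 : Nat.card (Subgroup.centralizer ({z} : Set G)) ∣ 62400 := by
    rw [← h.card]
    exact Subgroup.card_subgroup_dvd_card _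
  have h2 : 13 ∣ Nat.card (Subgroup.centralizer ({z} : Set G)) := by
    rw [← hz]
    have : z ∈ Subgroup.centralizer ({z} : Set G) := Subgroup.mem_centralizer_singleton_iff.2 rfl
    rw [← Subgroup.orderOf_mk z this]
    exact orderOf_dvd_natCard _
  rw [hk] at h1 h2 ⊢
  rcases k with _ | _ | k
  · norm_num at h2
  · norm_num
  · exfalso
    have h3 : (13 : ℕ) ^ 2 ∣ 62400 := (pow_dvd_pow 13 (by omega)).trans h1
    norm_num at h3

theorem exists_sit : ∃ z : G, orderOf z = 13 ∧ Cfsg.Agent.H361.SelfCent.Sit G 13 4800 z := by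
  have := h.finG
  have hf : Fact (Nat.Prime 13) := ⟨by norm_num⟩
  obtain ⟨z, hz⟩ := exists_prime_orderOf_dvd_card' 13 (G := G) (by rw [h.card]; norm_num)
  exact ⟨z, hz, ⟨by norm_num, by rw [h.card], by norm_num, h.card_cent hz⟩⟩

theorem card_sylow13 : Nat.card (Sylow 13 G) = 1600 := by
  have := h.finG
  obtain ⟨z, hz, hS⟩ := h.exists_sit
  obtain ⟨e, he, h1, h2⟩ := hS.card_sylow_eq (by norm_num)
  have h3 : e ≤ 12 := Nat.le_of_dvd (by norm_num) he
  unfold Nat.ModEq at h2
  interval_cases e <;> omega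

theorem card_orderOf13 : Nat.card {x : G // orderOf x = 13} = 19200 := by
  have := h.finG
  have hf : Fact (Nat.Prime 13) := ⟨by norm_num⟩
  obtain ⟨z, hz, hS⟩ := h.exists_sit
  rw [Cfsg.Agent.H405.Nse.card_orderOf_prime fun P => hS.card_sylow P, h.card_sylow13]

end Fct

section Main

variable {G : Type u} {Ω : Type*} [Group G] [MulAction G Ω] (h : Fct G Ω) {V : ValuationSubring ℂ}
  {σ : Representation (ResidueField V) G (Fin 56 → ResidueField V)} (H : Vals σ)

include h

theorem exists_c : ∃ (a b : Ω) (c : G), a ≠ b ∧ orderOf c = 15 ∧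
    ∀ g : G, (g • a = a ∧ g • b = b) ↔ g ∈ Subgroup.zpowers c := by
  have := h.finΩ
  have : Nontrivial Ω := Finite.one_lt_card_iff_nontrivial.1 (by rw [h.cardΩ]; norm_num)
  obtain ⟨a, b, hab⟩ := exists_pair_ne Ω
  obtain ⟨c, hc, hT⟩ := h.cyc a b hab
  exact ⟨a, b, c, hab, hc, hT⟩

/-- sum over the torus -/
theorem sum_torus {a b : Ω} {c : G} (hc : orderOf c = 15)
    (hT : ∀ g : G, (g • a = a ∧ g • b = b) ↔ g ∈ Subgroup.zpowers c) [Fintype G] (hab : a ≠ b) (Ψ : G → ℂ) (w : ℕ → ℂ)
    (hw : ∀ j < 15, Ψ (c ^ j) = w (15 / Nat.gcd 15 j)) [Fintype Ω] [DecidableEq Ω] :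
    (∑ g : G, if g • a = a ∧ g • b = b then Ψ g / fx Ω g else 0) = w 1 / 65 + w 3 + 4 * w 5 / 5 + 4 * w 15 := by
  have hΩ := h.finΩ
  rw [sum_cyc hT hc]
  have h2 : ∀ g : G, g ∈ Subgroup.zpowers c → 2 ≤ fx Ω g := by
    intro g hg
    obtain ⟨h1, h2⟩ := (hT g).2 hg
    have h3 : 1 < fx Ω g := by
      unfold fx
      rw [Finite.one_lt_card_iff_nontrivial]
      exact ⟨⟨a, h1⟩, ⟨b, h2⟩, fun h0 => hab (congrArg Subtype.val h0)⟩
    exact h3
  have ho : ∀ j, orderOf (c ^ j) = 15 / Nat.gcd 15 j := fun j => by rw [orderOf_pow, hc]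
  have h1 : ∀ j ∈ Finset.range 15, Ψ (c ^ j) / fx Ω (c ^ j) =
      (fun n : ℕ => w n / (if n = 1 then 65 else if n = 5 then 5 else 2)) (15 / Nat.gcd 15 j) := by
    intro j hj
    rw [Finset.mem_range] at hj
    have h3 : 15 / Nat.gcd 15 j = 1 ∨ 15 / Nat.gcd 15 j = 3 ∨ 15 / Nat.gcd 15 j = 5 ∨ 15 / Nat.gcd 15 j = 15 := by
      interval_cases j <;> decide
    rw [hw j hj]
    rcases h3 with h3 | h3 | h3 | h3
    · have h4 : c ^ j = 1 := by rw [← orderOf_eq_one_iff, ho, h3]
      rw [h4, h.fx_one, h3]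
      norm_num
    · have h4 := h.fx_three (g := c ^ j) (by rw [ho, h3])
      rw [h4, h3]
      norm_num
    · have h4 := h.five (c ^ j) (by rw [ho, h3]) (h2 _ (Subgroup.npow_mem_zpowers c j))
      rw [h4, h3]
      norm_num
    · have h4 := h.fx_fifteen (g := c ^ j) (by rw [ho, h3])
      rw [h4, h3]
      norm_num
  rw [Finset.sum_congr rfl h1]
  simp only [Finset.sum_range_succ, Finset.sum_range_zero]
  norm_num
  ring

/-- the number of fixed point free elements -/
theorem card_free [Fintype G] : (∑ g : G, if fx Ω g = 0 then (1 : ℂ) else 0) = 24192 := by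
  classical
  have hΩ := h.finΩ
  have := Fintype.ofFinite Ω
  obtain ⟨a, b, c, hab, hc, hT⟩ := exists_c h
  have h1 := sum_star h.two hab (fun _ => (1 : ℂ)) fun _ _ => rfl
  rw [sum_torus h hc hT hab (fun _ => (1 : ℂ)) (fun _ => 1) fun _ _ => rfl, ← Nat.card_eq_fintype_card, h.cardΩ] at h1
  have h2 : ∑ g : G, (1 : ℂ) * (fx Ω g - 1) = 0 := by
    have := h.two
    have : IsPretransitive G Ω := isPretransitive_of_is_two_pretransitive
    have : Nonempty Ω := ⟨a⟩
    have h3 := Cfsg.Agent.H621.AltChar.sum_card_eq (G := G) (X := Ω) id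
    have h4 : (∑ g : G, (fx Ω g : ℂ)) = Fintype.card G := by
      rw [← Nat.cast_sum, ← Nat.card_eq_fintype_card, ← h3]
      rfl
    simp only [one_mul, Finset.sum_sub_distrib, h4, Finset.sum_const, Finset.card_univ, nsmul_eq_mul, mul_one, sub_self]
  rw [h2] at h1
  push_cast at h1
  linear_combination h1

include H

/-- the value at the elements of order 3 -/
theorem bc_three {c : G} (hc : orderOf c = 15) {a b : Ω} (hab : a ≠ b)
    (hT : ∀ g : G, (g • a = a ∧ g • b = b) ↔ g ∈ Subgroup.zpowers c) {y : G} (hy : orderOf y = 3) :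
    bc 2 σ y = bc 2 σ (c ^ 5) := by
  have := h.finG
  obtain ⟨x, x', hxx, h1, h2⟩ := h.exists_pair (g := y) (by rw [h.fx_three hy])
  obtain ⟨k, hk1, hk2⟩ := is_two_pretransitive_iff.1 h.two hxx hab
  have h3 : k * y * k⁻¹ ∈ Subgroup.zpowers c := by
    refine (hT _).1 ⟨?_, ?_⟩
    · rw [← hk1, mul_smul, mul_smul, inv_smul_smul, h1]
    · rw [← hk2, mul_smul, mul_smul, inv_smul_smul, h2]
  have h5 : orderOf (k * y * k⁻¹) = 3 := by
    rw [← hy]
    exact orderOf_injective (MulAut.conj k).toMonoidHom (MulAut.conj k).injective y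
  rw [← bc_conj 2 σ y k]
  classical
  rw [mem_zpowers_iff_mem_range_orderOf, hc, Finset.mem_image] at h3
  obtain ⟨j, hj, e⟩ := h3
  rw [Finset.mem_range] at hj
  rw [← e, orderOf_pow, hc] at h5
  have h6 : j = 5 ∨ j = 10 := by
    clear e
    interval_cases j <;> revert h5 <;> decide
  rw [← e]
  have ho : orderOf (c ^ 5) = 3 := by
    rw [orderOf_pow_of_dvd (by norm_num) (by rw [hc]; norm_num), hc]
  rcases h6 with rfl | rfl
  · rfl
  · have e1 : c ^ 10 = (c ^ 5)⁻¹ := by
      have h0 := pow_orderOf_eq_one c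
      rw [hc] at h0
      rw [eq_inv_iff_mul_eq_one, ← pow_add]
      exact h0
    rw [e1, H.three_inv _ ho]

/-- the value `20` at the elements of order 3 is impossible -/
theorem ne_twenty (hpos : Pos.{u}) {M : Ideal AlgInt} (hM : IsPModular 2 M) (hV : Above M V) {c : G}
    (hc : orderOf c = 15) {a b : Ω} (hab : a ≠ b) (hT : ∀ g : G, (g • a = a ∧ g • b = b) ↔ g ∈ Subgroup.zpowers c) :
    bc 2 σ (c ^ 5) ≠ 20 := by
  classical
  intro h20
  have := h.finG
  obtain ⟨z, hz, hS⟩ := h.exists_sit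
  have hN := hS.card_norm_of (by norm_num) h.card_sylow13 (e := 3) (by norm_num)
  set N := Subgroup.normalizer ((Subgroup.zpowers z : Subgroup G) : Set G) with hNdef
  have hle : Subgroup.zpowers z ≤ N := Subgroup.le_normalizer
  let P : Subgroup N := (Subgroup.zpowers z).subgroupOf N
  have hPn : P.Normal := Subgroup.normal_in_normalizer
  have hPc : Nat.card P = 13 := by
    rw [Nat.card_congr (Subgroup.subgroupOfEquivOfLe hle).toEquiv, Nat.card_zpowers, hz]
  have hQ : Nat.card (N ⧸ P) = 3 := by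
    have h1 := P.card_mul_index
    rw [hPc, hN] at h1
    change P.index = 3
    omega
  have hf3 : Fact (Nat.Prime 3) := ⟨Nat.prime_three⟩
  have hcyc : IsCyclic (N ⧸ P) := isCyclic_of_prime_card hQ
  let _ : CommGroup (N ⧸ P) := hcyc.commGroup
  have hnt : Nontrivial (N ⧸ P) := Finite.one_lt_card_iff_nontrivial.1 (by rw [hQ]; norm_num)
  obtain ⟨q, hq⟩ := exists_ne (1 : N ⧸ P)
  obtain ⟨φ, hφ⟩ := CommGroup.exists_apply_ne_one_of_hasEnoughRootsOfUnity (N ⧸ P) ℂ hq
  let f : N →* ℂˣ := φ.comp (QuotientGroup.mk' P)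
  have hfP : ∀ g ∈ P, f g = 1 := by
    intro g hg
    change φ (QuotientGroup.mk' P g) = 1
    rw [show QuotientGroup.mk' P g = 1 from (QuotientGroup.eq_one_iff g).2 hg, map_one]
  have := Fintype.ofFinite N
  have hsum : ∑ g : N, (f g⁻¹ : ℂ) = 0 := by
    rw [← Equiv.sum_comp (Equiv.inv N)]
    simp only [Equiv.inv_apply, inv_inv]
    refine sum_hom_units_eq_zero ((Units.coeHom ℂ).comp f) fun h0 => hφ ?_
    obtain ⟨g, rfl⟩ := QuotientGroup.mk'_surjective P q
    have := DFunLike.congr_fun h0 g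
    exact Units.ext this
  have hreg : ∀ g : N, ¬ IsPRegular 2 g → (f g : ℂ) = 0 := by
    intro g hg
    exfalso
    apply hg
    intro h0
    have h1 : 2 ∣ Nat.card N := h0.trans (orderOf_dvd_natCard g)
    rw [hN] at h1
    norm_num at h1
  obtain ⟨d, -, hd⟩ := hpos hM hV (σ.comp N.subtype) (Cfsg.Agent.CharDeep.LinearChar.isIrrCharacter_of_hom f) hreg
  · have hbc : ∀ g : N, bc 2 (σ.comp N.subtype) g = bc 2 σ (g : G) := fun g => rfl
    have key : ∀ g : N, bc 2 σ (g : G) * (f g⁻¹ : ℂ) =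
        20 * (f g⁻¹ : ℂ) + (if g = 1 then 52 else 0) + (-16) * (if g ∈ P then 1 else 0) := by
      classical
      intro g
      by_cases hg : g ∈ P
      · have h1 : (f g⁻¹ : ℂ) = 1 := by rw [hfP _ (inv_mem hg), Units.val_one]
        rw [h1, if_pos hg]
        by_cases hg1 : g = 1
        · rw [if_pos hg1, hg1, Subgroup.coe_one, H.one]
          norm_num
        · rw [if_neg hg1, H.thirteen]
          · norm_num
          · have h2 : orderOf (g : G) ∣ 13 := by
              rw [← hz]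
              exact orderOf_dvd_of_mem_zpowers hg
            rcases (Nat.dvd_prime (by norm_num)).1 h2 with h3 | h3
            · exact absurd (Subtype.ext (orderOf_eq_one_iff.1 h3)) hg1
            · exact h3
      · rw [if_neg hg, if_neg (fun h0 => hg (by rw [h0]; exact one_mem P))]
        have h1 : orderOf (g : G) = 3 := by
          have h2 : orderOf (g : G) ∣ 39 := by
            rw [Subgroup.orderOf_coe, show (39 : ℕ) = Nat.card N by rw [hN]]
            exact orderOf_dvd_natCard g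
          have h13 : orderOf (g : G) ∣ 13 → False := by
            intro h3
            apply hg
            rw [← QuotientGroup.eq_one_iff]
            have h4 : orderOf (g : N ⧸ P) ∣ 13 := by
              refine dvd_trans (orderOf_map_dvd (QuotientGroup.mk' P) g) ?_
              rw [← Subgroup.orderOf_coe]
              exact h3
            have h5 : orderOf (g : N ⧸ P) ∣ 3 := by
              rw [← hQ]
              exact orderOf_dvd_natCard _
            have h6 := Nat.dvd_gcd h4 h5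
            rw [← orderOf_eq_one_iff]
            exact Nat.dvd_one.1 h6
          rcases h.ord' (g : G) with h3 | h3 | h3 | h3 | h3 | h3
          · exact (h13 (by rw [h3]; norm_num)).elim
          · exact h3
          · rw [h3] at h2; norm_num at h2
          · exact (h13 (by rw [h3])).elim
          · rw [h3] at h2; norm_num at h2
          · have := h3.trans h2; norm_num at this
        rw [bc_three h H hc hab hT h1, h20]
        norm_num
    have hc13 : (∑ g : N, if g ∈ P then (1 : ℂ) else 0) = 13 := by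
      classical
      have h0 : (Finset.univ.filter fun g : N => g ∈ P).card = 13 := by
        rw [← hPc, Nat.card_eq_fintype_card, Fintype.card_subtype]
      rw [← Finset.sum_filter, Finset.sum_const, nsmul_eq_mul, mul_one, h0]
      norm_num
    have h5 : (d : ℂ) * 39 = -156 := by
      rw [← Nat.card_eq_fintype_card, hN] at hd
      have h6 : ∑ g : N, bc 2 (σ.comp N.subtype) g * (f g⁻¹ : ℂ) = -156 := by
        simp only [hbc, key, Finset.sum_add_distrib, ← Finset.mul_sum, hsum, hc13, Finset.sum_ite_eq',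
          Finset.mem_univ, if_true]
        norm_num
      rw [h6, map_one] at hd
      push_cast at hd
      linear_combination hd
    have h6 : (d : ℤ) * 39 = -156 := by exact_mod_cast h5
    omega

omit H in
/-- the sum of the Brauer values against the Steinberg character -/
theorem sum_bc [Fintype G] (H : Vals σ) {c : G} (hc : orderOf c = 15) {a b : Ω} (hab : a ≠ b)
    (hT : ∀ g : G, (g • a = a ∧ g • b = b) ↔ g ∈ Subgroup.zpowers c) {m : ℤ}
    (hm : ∀ j : ℕ, Nat.Coprime j 15 → bc 2 σ (c ^ j) = m) :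
    ∑ g : G, bc 2 σ g * (fx Ω g - 1) = 4160 * bc 2 σ (c ^ 5) + 16640 * m - 83200 := by
  classical
  have hΩ := h.finΩ
  have := Fintype.ofFinite Ω
  have ho : ∀ j, orderOf (c ^ j) = 15 / Nat.gcd 15 j := fun j => by rw [orderOf_pow, hc]
  rw [sum_star h.two hab (fun g => bc 2 σ g) fun k g => bc_conj 2 σ g k,
    sum_torus h hc hT hab (fun g => bc 2 σ g)
      (fun n => if n = 1 then 56 else if n = 3 then bc 2 σ (c ^ 5) else if n = 5 then 6 else m) ?_,
    ← Nat.card_eq_fintype_card, h.cardΩ]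
  · have h1 : (∑ g : G, if fx Ω g = 0 then bc 2 σ g else 0) = 6 * 24192 - 2 * 19200 := by
      have h2 : ∀ g : G, (if fx Ω g = 0 then bc 2 σ g else 0) =
          6 * (if fx Ω g = 0 then (1 : ℂ) else 0) - 2 * (if orderOf g = 13 then 1 else 0) := by
        intro g
        by_cases h0 : fx Ω g = 0
        · rw [if_pos h0, if_pos h0]
          rcases h.of_fx_zero h0 with h3 | h3
          · rw [H.five g h3, if_neg (by rw [h3]; norm_num)]
            norm_num
          · rw [H.thirteen g h3, if_pos h3]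
            norm_num
        · rw [if_neg h0, if_neg h0, if_neg fun h3 => h0 (h.fx_thirteen h3)]
          norm_num
      simp only [h2, Finset.sum_sub_distrib, ← Finset.mul_sum]
      rw [card_free h]
      congr 2
      rw [← Finset.sum_filter, Finset.sum_const, nsmul_eq_mul, mul_one]
      have h4 : (Finset.univ.filter fun g : G => orderOf g = 13).card = 19200 := by
        rw [← h.card_orderOf13, Nat.card_eq_fintype_card, Fintype.card_subtype]
      rw [h4]
      norm_num
    rw [h1]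
    norm_num
    ring
  · intro j hj
    have h3 : 15 / Nat.gcd 15 j = 1 ∨ 15 / Nat.gcd 15 j = 3 ∨ 15 / Nat.gcd 15 j = 5 ∨
        (15 / Nat.gcd 15 j = 15 ∧ Nat.Coprime j 15) := by
      interval_cases j <;> decide
    rcases h3 with h3 | h3 | h3 | ⟨h3, h4⟩
    · have h4 : c ^ j = 1 := by rw [← orderOf_eq_one_iff, ho, h3]
      rw [h4, h3, H.one]
      norm_num
    · rw [bc_three h H hc hab hT (by rw [ho, h3]), h3]
      norm_num
    · rw [H.five _ (by rw [ho, h3]), h3]
      norm_num
    · rw [hm j h4, h3]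
      norm_num

end Main

/-- **`U₃(4)` is not admissible.** -/
theorem not_adm {G : Type u} {Ω : Type*} [Group G] [MulAction G Ω] (hpos : Pos.{u}) (h : Fct G Ω) : ¬ Adm G := by
  rintro ⟨M, V, hM, hV, σ, H⟩
  have hG := h.finG
  have hΩ := h.finΩ
  have := Fintype.ofFinite G
  obtain ⟨a, b, c, hab, hc, hT⟩ := exists_c h
  obtain ⟨m, hm⟩ := H.fifteen c hc
  have := h.two
  have : IsPretransitive G Ω := isPretransitive_of_is_two_pretransitive
  have hχ : IsIrrCharacter G (fun g => (fx Ω g : ℂ) - 1) :=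
    (Cfsg.Agent.S0157.result Ω (by rw [h.cardΩ]; norm_num)).2 h.two
  obtain ⟨d, hd56, hd⟩ := hpos hM hV σ hχ fun g hg => by
    have h1 : 2 ∣ orderOf g := not_not.1 hg
    change (fx Ω g : ℂ) - 1 = 0
    rw [h.fx_even h1]
    norm_num
  have hinv : ∀ g : G, fx Ω g⁻¹ = fx Ω g := fun g => by
    unfold fx
    rw [fixedBy_inv]
  simp only [hinv, h.fx_one] at hd
  rw [sum_bc h H hc hab hT hm, ← Nat.card_eq_fintype_card, h.card] at hd
  have h3 : orderOf (c ^ 5) = 3 := by
    rw [orderOf_pow_of_dvd (by norm_num) (by rw [hc]; norm_num), hc]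
  have h20 := ne_twenty h H hpos hM hV hc hab hT
  push_cast at hd
  rcases H.three _ h3 with h4 | h4 | h4 | h4
  · rw [h4] at hd
    have h5 : (d : ℤ) * 62400 = (65 - 1) * (4160 * 2 + 16640 * m - 83200) := by exact_mod_cast hd
    omega
  · exact h20 h4
  · rw [h4] at hd
    have h5 : (d : ℤ) * 62400 = (65 - 1) * (4160 * -7 + 16640 * m - 83200) := by exact_mod_cast hd
    omega
  · rw [h4] at hd
    have h5 : (d : ℤ) * 62400 = (65 - 1) * (4160 * -25 + 16640 * m - 83200) := by exact_mod_cast hd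
    omega

end Cfsg.Agent.H783.U34A
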